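import Cfsg.Agent.GH.L3S.CaseA
import Cfsg.Agent.SmallSimple.SylowMaxInter
import Cfsg.Prelude.Def_TwoFusion

/-!
# GH-L3, SD case, CASE A: end

If `x` and `z` are not conjugate, `T` is a Sylow 2-subgroup of `G` and `T ∩ fixer (KK x)`, `T ∩ fixer (KK z)` are
strongly closed and disjoint: contradiction (`hcl` = `TwoFusion.ClosedCommutator.commutator_le`).

`main`: CASE A gives `S` of type `PSL₅(3)`.
-/

set_option autoImplicit false

open Cfsg Subgroup
open Cfsg.Agent.SignalizersComponents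
open Cfsg.Agent.SignalizersComponents.IntrinsicBasic
open Cfsg.Agent.Intrinsic.Basic Cfsg.Agent.Intrinsic.Cen
open Cfsg.Agent.GH.Defs Cfsg.Agent.GH.XSet
open Cfsg.Agent.Walter.SylowIn
open Cfsg.Agent.GH.L3.TFrame
open scoped commutatorElement

namespace Cfsg.Agent.GH.L3S.CaseA

variable {G : Type*} [Group G] {X : Set G} {N : ℕ} [Finite G]

/-- `u` same as `x`: the elements commuting with `x` and `u` fix `KK x` iff they fix `KK u`. -/
theorem fixes_iff (h : Frame X N) {x u a : G} (hx : x ∈ X) (hu : u ∈ X) (hxu : Commute x u)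
    (hf : Fixes u (KK x)) (hax : Commute a x) (hau : Commute a u) :
    Fixes a (KK x) ↔ Fixes a (KK u) := by
  have h3 : Fixes x (KK u) := h.toXSet.fixes_symm hx hu hxu hf
  have h5 := h.toXBase.cen_sup hx hu hxu hf
  have h6 := h.toXBase.cen_sup hu hx hxu.symm h3
  have h7 := h.toXBase.cen_eq hx hu hxu hf h3
  have h8 : a ∈ normalizer (Intrinsic.Cen.cen (KK x) u : Set G) :=
    mem_normalizer_cen (h.toXBase.mem_normalizer hx hax) hau.eq
  rw [← h7] at h6
  exact (fixes_iff_of_sup h5 h8 (h.toXBase.mem_normalizer hx hax)).symm.trans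
    (fixes_iff_of_sup h6 h8 (h.toXBase.mem_normalizer hu hau))

omit [Finite G] in
theorem exists_inv {S : Subgroup G} (hS : IsPGroup 2 S) {a : G} (ha : a ∈ S) (ha1 : a ≠ 1) :
    ∃ k : ℕ, orderOf (a ^ k) = 2 := by
  have : Fact (Nat.Prime 2) := ⟨Nat.prime_two⟩
  obtain ⟨n, hn⟩ := hS ⟨a, ha⟩
  obtain ⟨k, hk⟩ := (Nat.dvd_prime_pow Nat.prime_two).mp
    (orderOf_dvd_of_pow_eq_one (show a ^ 2 ^ n = 1 from congrArg Subtype.val hn))
  have hk2 : orderOf a = 2 ^ k := hk.2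
  have hk0 : k ≠ 0 := by
    rintro rfl
    rw [pow_zero, orderOf_eq_one_iff] at hk2
    exact ha1 hk2
  obtain ⟨j, rfl⟩ := Nat.exists_eq_succ_of_ne_zero hk0
  refine ⟨2 ^ j, ?_⟩
  rw [orderOf_pow' a (by positivity), hk2, Nat.succ_eq_add_one, pow_succ]
  rw [Nat.gcd_eq_right (Dvd.intro _ rfl), Nat.mul_div_cancel_left _ (by positivity)]

namespace Sit

variable {x z : G} {T : Subgroup G}

theorem not_fixes (s : Sit X x z T) (h : Frame X N) : ¬ Fixes z (KK x) := by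
  intro hf
  have := h.eq_one s.xX s.zx hf (n := 1) (by rw [pow_one, pow_two, h.toXBase.sq s.zX])
  exact h.toXBase.ne_one s.zX this

/-- `x` not conjugate to `z`: `T` is a Sylow 2-subgroup of `G`. -/
theorem eq_sylow (s : Sit X x z T) (h : Frame X N) (hc : ¬ IsConj x z) (S : Sylow 2 G)
    (hTS : T ≤ S) : T = S := by
  have : Fact (Nat.Prime 2) := ⟨Nat.prime_two⟩
  by_contra hne
  have h1 := SmallSimple.SylowMaxInter.lt_inf_normalizer S.2 (lt_of_le_of_ne hTS hne)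
  obtain ⟨n, ⟨hnS, hnN⟩, hnT⟩ := SetLike.exists_of_lt h1
  have hxT := s.x_mem h
  have h2 : n * x * n⁻¹ ∈ T := (mem_normalizer_iff.1 hnN x).1 hxT
  have h3 : ∀ t ∈ T, Commute (n * x * n⁻¹) t := by
    intro t ht
    have h4 : n⁻¹ * t * n ∈ T := (mem_normalizer_iff''.1 hnN t).1 ht
    have h5 : (n⁻¹ * t * n) * x = x * (n⁻¹ * t * n) := (mem_C.1 (s.sx.le h4)).eq
    have h6 : n * x * n⁻¹ * t = n * (x * (n⁻¹ * t * n)) * n⁻¹ := by group
    have h7 : t * (n * x * n⁻¹) = n * ((n⁻¹ * t * n) * x) * n⁻¹ := by group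
    change n * x * n⁻¹ * t = t * (n * x * n⁻¹)
    rw [h6, h7, h5]
  have hX : n * x * n⁻¹ ∈ X := h.conj x s.xX n
  rcases s.center h h2 h3 with h4 | h4 | h4 | h4
  · rw [h4] at hX
    exact h.toXBase.ne_one hX rfl
  · apply hnT
    obtain ⟨m, hm⟩ := exists_pow S.2 hnS
    refine mem_syl s.sx (mem_C.2 ?_) hm hnN
    exact mul_inv_eq_iff_eq_mul.1 h4
  · exact hc (isConj_iff.2 ⟨n, h4⟩)
  · rw [h4] at hX
    exact s.nX hX

/-- `T ∩ fixer (KK x)` is strongly closed. -/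
theorem stronglyClosed (s : Sit X x z T) (h : Frame X N) (hc : ¬ IsConj x z) (S : Sylow 2 G)
    (hTS : T = S) : IsStronglyClosed (T ⊓ fixer (KK x)) (S : Subgroup G) := by
  have : Fact (Nat.Prime 2) := ⟨Nat.prime_two⟩
  refine ⟨hTS ▸ inf_le_left, ?_⟩
  intro a ha g hgS
  rw [← hTS] at hgS
  by_cases ha1 : a = 1
  · subst ha1
    rw [mul_one, mul_inv_cancel]
    exact one_mem _
  obtain ⟨k, hk⟩ := exists_inv s.sx.isPGroup ha.1 ha1
  have hax : Commute a x := mem_C.1 (s.sx.le ha.1)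
  have huT : a ^ k ∈ T ⊓ fixer (KK x) := pow_mem ha k
  have hux : Commute (a ^ k) x := hax.pow_left k
  have hua : Commute a (a ^ k) := (Commute.refl a).pow_right k
  obtain ⟨u, hu⟩ : ∃ u, u = a ^ k := ⟨_, rfl⟩
  rw [← hu] at hk huT hux hua
  have huX : u ∈ X := h.mem_X s.xX hk hux huT.2
  have hgu : g * u * g⁻¹ = (g * a * g⁻¹) ^ k := by rw [hu, conj_pow]
  have hguT : g * u * g⁻¹ ∈ T := by rw [hgu]; exact pow_mem hgS k
  have hguX : g * u * g⁻¹ ∈ X := h.conj u huX g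
  have hgux : Commute x (g * u * g⁻¹) := (mem_C.1 (s.sx.le hguT)).symm
  have hF : Fixes (g * u * g⁻¹) (KK x) := by
    rcases s.fixes_or_mem h hguX hgux with h1 | h1
    · exact h1
    exfalso
    obtain ⟨c, -, hcz⟩ := h.conjK x s.xX _ h1 z s.zx (h.inv _ hguX) (h.inv z s.zX)
    have huz : Commute z u := (mem_C.1 (s.sz.le huT.1)).symm
    rcases (s.swap h).fixes_or_mem h huX huz with h2 | h2
    · exact s.not_fixes h (h.trans s.xX s.zX huX (s.comm h) hux.symm huz huT.2 h2)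
    · obtain ⟨d, -, hd⟩ := h.conjK z s.zX u h2 x s.xz hk (h.inv x s.xX)
      apply hc
      have h3 : IsConj u x := isConj_iff.2 ⟨d, hd⟩
      have h4 : IsConj u (g * u * g⁻¹) := isConj_iff.2 ⟨g, rfl⟩
      have h5 : IsConj (g * u * g⁻¹) z := isConj_iff.2 ⟨c, hcz⟩
      exact h3.symm.trans (h4.trans h5)
  refine ⟨hgS, ?_⟩
  have h1 : Fixes a (KK u) := (fixes_iff h s.xX huX hux.symm huT.2 hax hua).1 ha.2
  have h2 := h1.cj g
  rw [h.toXBase.cj_KK huX] at h2
  refine (fixes_iff h s.xX hguX hgux hF (mem_C.1 (s.sx.le hgS)) ?_).2 h2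
  rw [hgu]
  exact (Commute.refl _).pow_right k

theorem false_of_closed [IsSimpleGroup G] (hna : ∃ a b : G, a * b ≠ b * a)
    (hcl : ∀ (P : Sylow 2 G) (A B : Subgroup G), A ⊓ B = ⊥ →
      IsStronglyClosed A (P : Subgroup G) → IsStronglyClosed B (P : Subgroup G) →
      ⁅normalClosure (A : Set G), normalClosure (B : Set G)⁆ ≤ oddCore G)
    (s : Sit X x z T) (h : Frame X N) (hc : ¬ IsConj x z) : False := by
  have : Fact (Nat.Prime 2) := ⟨Nat.prime_two⟩
  obtain ⟨S, hS⟩ := s.sx.isPGroup.exists_le_sylow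
  have hTS := s.eq_sylow h hc S hS
  have hA := s.stronglyClosed h hc S hTS
  have hB := (s.swap h).stronglyClosed h (fun h1 => hc h1.symm) S hTS
  have hinf : (T ⊓ fixer (KK x)) ⊓ (T ⊓ fixer (KK z)) = ⊥ := by
    rw [eq_bot_iff]
    intro a ha
    rw [mem_bot]
    by_contra ha1
    obtain ⟨k, hk⟩ := exists_inv s.sx.isPGroup ha.1.1 ha1
    have huT : a ^ k ∈ (T ⊓ fixer (KK x)) ⊓ (T ⊓ fixer (KK z)) := pow_mem ha k
    have hux : Commute x (a ^ k) := (mem_C.1 (s.sx.le huT.1.1)).symm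
    have huz : Commute z (a ^ k) := (mem_C.1 (s.sz.le huT.1.1)).symm
    have huX : a ^ k ∈ X := h.mem_X s.xX hk hux.symm huT.1.2
    exact s.not_fixes h (h.trans s.xX s.zX huX (s.comm h) hux huz huT.1.2 huT.2.2)
  have h1 := hcl S _ _ hinf hA hB
  have htop : ∀ (A : Subgroup G) (a : G), a ∈ A → a ≠ 1 → normalClosure (A : Set G) = ⊤ := by
    intro A a ha ha1
    rcases (normalClosure_normal (s := (A : Set G))).eq_bot_or_eq_top with h2 | h2
    · exfalso
      apply ha1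
      have h3 : a ∈ normalClosure (A : Set G) := subset_normalClosure ha
      rwa [h2, mem_bot] at h3
    · exact h2
  rw [htop (T ⊓ fixer (KK x)) x ⟨s.x_mem h, h.toXBase.fixes_self s.xX⟩ (h.toXBase.ne_one s.xX),
    htop (T ⊓ fixer (KK z)) z ⟨s.z_mem h, h.toXBase.fixes_self s.zX⟩
      (h.toXBase.ne_one s.zX)] at h1
  have hcomm : ⁅(⊤ : Subgroup G), (⊤ : Subgroup G)⁆ = ⊤ := by
    rcases (commutator_normal (⊤ : Subgroup G) ⊤).eq_bot_or_eq_top with h2 | h2
    · exfalso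
      obtain ⟨a, b, hab⟩ := hna
      apply hab
      have h3 : ⁅a, b⁆ ∈ ⁅(⊤ : Subgroup G), (⊤ : Subgroup G)⁆ :=
        commutator_mem_commutator (mem_top a) (mem_top b)
      rw [h2, mem_bot] at h3
      exact commutatorElement_eq_one_iff_mul_comm.1 h3
    · exact h2
  rw [hcomm, top_le_iff] at h1
  have h2 : Odd (Nat.card (oddCore G)) :=
    Nat.coprime_two_right.1 (Lib.Cores.pPrimeCore_coprime (G := G) 2)
  rw [h1, Nat.card_congr Subgroup.topEquiv.toEquiv] at h2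
  have h3 := orderOf_dvd_natCard x
  rw [h.inv x s.xX] at h3
  exact (Nat.not_even_iff_odd.2 h2) (even_iff_two_dvd.2 h3)

end Sit

/-- **CASE A.** -/
theorem main [IsSimpleGroup G] (hna : ∃ a b : G, a * b ≠ b * a)
    (hcl : ∀ (P : Sylow 2 G) (A B : Subgroup G), A ⊓ B = ⊥ →
      IsStronglyClosed A (P : Subgroup G) → IsStronglyClosed B (P : Subgroup G) →
      ⁅normalClosure (A : Set G), normalClosure (B : Set G)⁆ ≤ oddCore G)
    (h : Frame X N) {x z : G} (hx : x ∈ X) (hz : z ∈ X) (hzx : z ∈ KK x) :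
    ∃ S : Sylow 2 G, TypeL5 ↥(S : Subgroup G) := by
  obtain ⟨T, s⟩ := exists_sit h hx hz hzx
  by_cases hc : IsConj x z
  · exact wreath h s hc
  · exact (s.false_of_closed hna hcl h hc).elim

end Cfsg.Agent.GH.L3S.CaseA
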