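import Cfsg.Agent.TwoFusion.QDBasic
import Cfsg.Agent.TwoFusion.SectionalRank
import Cfsg.Agent.GH.QALemmaQ
import Cfsg.Agent.GH.L2Frame

/-!
# GH-L3, SD case: semidihedral groups of order 16 in coordinates; `T = P × P'`

`Crd P u y`: `P = {u a, u a y}` semidihedral of order 16, `a : ZMod 8`.
`sup_eq`: `P`, `P'` normal in the 2-group `T`, both semidihedral of order 16, commuting, `P ∩ P' = 1`, sectional
2-rank of `T` at most 4: then `T = P P'`.
-/

set_option autoImplicit false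

open Cfsg Subgroup
open Cfsg.Agent.TwoFusion.QDBasic Cfsg.Agent.TwoFusion.SectionalRank

namespace Cfsg.Agent.GH.L3S.SD

variable {G : Type*} [Group G]

/-- coordinates -/
structure Crd (P : Subgroup G) (u : ZMod 8 → G) (y : G) : Prop where
  um : ∀ a b, u a * u b = u (a + b)
  inj : ∀ a, u a = 1 → a = 0
  uy : ∀ a, y * u a = u (3 * a) * y
  yy : y * y = 1
  ne : ∀ a, u a ≠ y
  mem : ∀ g, g ∈ P ↔ (∃ a, g = u a) ∨ (∃ a, g = u a * y)

theorem exists_crd {P : Subgroup G} (h : IsQuasiDihedral P) (hc : Nat.card P = 16) :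
    ∃ u y, Crd P u y := by
  have : Finite P := Nat.finite_of_card_ne_zero (by rw [hc]; norm_num)
  obtain ⟨n, u, y, h⟩ := exists_qdcoord h
  have hn : n = 3 := by
    have h1 := h.card
    rw [hc] at h1
    have h2 : (2 : ℕ) ^ 4 = 2 ^ (n + 1) := by rw [← h1]; norm_num
    have h3 := Nat.pow_right_injective (le_refl 2) h2
    omega
  subst hn
  refine ⟨fun a => (u a : G), (y : G), ?_, ?_, ?_, ?_, ?_, ?_⟩
  · intro a b
    exact congrArg Subtype.val (h.u_mul a b)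
  · intro a ha
    exact (h.u_eq_one_iff a).1 (Subtype.ext ha)
  · intro a
    have h1 := congrArg Subtype.val (h.y_u a)
    have h2 : ((2 : ZMod (2 ^ 3)) ^ (3 - 1) - 1) * a = 3 * a := by
      have h3 : ((2 : ZMod (2 ^ 3)) ^ (3 - 1) - 1) = 3 := by decide
      rw [h3]
    rw [h2] at h1
    exact h1
  · exact congrArg Subtype.val h.y_y
  · intro a ha
    refine h.u_ne a 0 ?_
    rw [h.u_zero, one_mul]
    exact Subtype.ext ha
  · intro g
    constructor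
    · intro hg
      rcases h.cases ⟨g, hg⟩ with ⟨a, ha⟩ | ⟨a, ha⟩
      · exact Or.inl ⟨a, congrArg Subtype.val ha⟩
      · exact Or.inr ⟨a, congrArg Subtype.val ha⟩
    · rintro (⟨a, rfl⟩ | ⟨a, rfl⟩)
      · exact (u a).2
      · exact (u a * y).2

namespace Crd

variable {P : Subgroup G} {u : ZMod 8 → G} {y : G}

theorem u0 (h : Crd P u y) : u 0 = 1 := by
  have := h.um 0 0
  rw [add_zero] at this
  exact mul_eq_left.1 this

theorem inv (h : Crd P u y) (a : ZMod 8) : (u a)⁻¹ = u (-a) := by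
  apply inv_eq_of_mul_eq_one_right
  rw [h.um, add_neg_cancel, h.u0]

theorem u_eq (h : Crd P u y) {a b : ZMod 8} (hab : u a = u b) : a = b := by
  have h1 : u (a - b) = 1 := by
    rw [sub_eq_add_neg, ← h.um, ← h.inv, hab, mul_inv_cancel]
  exact sub_eq_zero.1 (h.inj _ h1)

theorem yinv (h : Crd P u y) : y⁻¹ = y := inv_eq_of_mul_eq_one_left h.yy

theorem conj_u (h : Crd P u y) (a b : ZMod 8) : (u a * y) * u b * (u a * y)⁻¹ = u (3 * b) := by
  have h1 : (u a * y) * u b * (u a * y)⁻¹ = u a * (y * u b * y⁻¹) * (u a)⁻¹ := by group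
  have h2 : y * u b * y⁻¹ = u (3 * b) := by rw [h.uy]; group
  rw [h1, h2, h.inv, h.um, h.um]
  congr 1; ring

theorem conj_y (h : Crd P u y) (a : ZMod 8) : u a * y * (u a)⁻¹ = u (-2 * a) * y := by
  have h1 : y * (u a)⁻¹ = u (-3 * a) * y := by rw [h.inv, h.uy]; congr 2; ring
  rw [mul_assoc, h1, ← mul_assoc, h.um]
  congr 2; ring

theorem sq_uy (h : Crd P u y) (a : ZMod 8) : (u a * y) * (u a * y) = u (4 * a) := by
  have h1 : (u a * y) * (u a * y) = u a * (y * u a) * y := by group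
  rw [h1, h.uy, ← mul_assoc, h.um, mul_assoc, h.yy, mul_one]
  congr 1; ring

theorem ne_uy (h : Crd P u y) (a b : ZMod 8) : u a ≠ u b * y := by
  intro hab
  apply h.ne (-b + a)
  rw [← h.um, hab, ← mul_assoc, h.um, neg_add_cancel, h.u0, one_mul]

theorem u_mem (h : Crd P u y) (a : ZMod 8) : u a ∈ P := (h.mem _).2 (Or.inl ⟨a, rfl⟩)

theorem y_mem (h : Crd P u y) : y ∈ P := (h.mem _).2 (Or.inr ⟨0, by rw [h.u0, one_mul]⟩)

theorem uy_mem (h : Crd P u y) (a : ZMod 8) : u a * y ∈ P := (h.mem _).2 (Or.inr ⟨a, rfl⟩)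

/-- The centre. -/
theorem central (h : Crd P u y) {g : G} (hg : g ∈ P) (hc : ∀ p ∈ P, g * p = p * g) :
    g = 1 ∨ g = u 4 := by
  rcases (h.mem g).1 hg with ⟨a, rfl⟩ | ⟨a, rfl⟩
  · have h1 := hc y h.y_mem
    rw [h.uy] at h1
    have h2 := h.u_eq (mul_right_cancel h1)
    revert h2
    have key : ∀ a : ZMod 8, a = 3 * a → a = 0 ∨ a = 4 := by decide
    intro h2
    rcases key a h2 with rfl | rfl
    · exact Or.inl h.u0
    · exact Or.inr rfl
  · exfalso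
    have h1 := hc (u 1) (h.u_mem 1)
    have h2 := h.conj_u a 1
    rw [h1, mul_inv_cancel_right] at h2
    exact absurd (h.u_eq h2) (by decide)

theorem u4_central (h : Crd P u y) {p : G} (hp : p ∈ P) : u 4 * p = p * u 4 := by
  rcases (h.mem p).1 hp with ⟨a, rfl⟩ | ⟨a, rfl⟩
  · rw [h.um, h.um, add_comm]
  · have h1 : u a * y * u 4 = u a * (y * u 4) := by group
    rw [h1, h.uy, ← mul_assoc, ← mul_assoc, h.um, h.um]
    congr 2
    rw [add_comm]
    congr 1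

theorem u4_ne (h : Crd P u y) : u 4 ≠ 1 := fun h1 => absurd (h.inj 4 h1) (by decide)

theorem u4_sq (h : Crd P u y) : u 4 * u 4 = 1 := by
  rw [h.um]
  have : (4 : ZMod 8) + 4 = 0 := by decide
  rw [this, h.u0]

/-- The automorphism induced by `t`. -/
theorem aut (h : Crd P u y) {t : G} (ht : ∀ p ∈ P, t * p * t⁻¹ ∈ P) :
    ∃ i m : ZMod 8, 4 * i ≠ 0 ∧ 4 * m = 0 ∧ (∀ a, t * u a * t⁻¹ = u (i * a)) ∧
      t * y * t⁻¹ = u m * y := by
  have h4 : (t * u 1 * t⁻¹) * (t * u 1 * t⁻¹) * ((t * u 1 * t⁻¹) * (t * u 1 * t⁻¹)) ≠ 1 := by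
    have h1 : (t * u 1 * t⁻¹) * (t * u 1 * t⁻¹) * ((t * u 1 * t⁻¹) * (t * u 1 * t⁻¹)) =
        t * (u 1 * u 1 * (u 1 * u 1)) * t⁻¹ := by group
    rw [h1, h.um, h.um]
    have h2 : (1 : ZMod 8) + 1 + (1 + 1) = 4 := by decide
    rw [h2]
    intro h3
    exact h.u4_ne (conj_eq_one_iff.1 h3)
  obtain ⟨i, hi⟩ : ∃ i, t * u 1 * t⁻¹ = u i := by
    rcases (h.mem _).1 (ht _ (h.u_mem 1)) with ⟨i, hi⟩ | ⟨i, hi⟩
    · exact ⟨i, hi⟩
    · exfalso
      rw [hi, h.sq_uy, h.um] at h4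
      apply h4
      have h5 : ∀ i : ZMod 8, 4 * i + 4 * i = 0 := by decide
      rw [h5, h.u0]
  have hi4 : 4 * i ≠ 0 := by
    rw [hi, h.um, h.um] at h4
    intro h5
    apply h4
    have h6 : i + i + (i + i) = 4 * i := by ring
    rw [h6, h5, h.u0]
  have hall : ∀ a, t * u a * t⁻¹ = u (i * a) := by
    have h5 : ∀ n : ℕ, t * u (n : ZMod 8) * t⁻¹ = u (i * (n : ZMod 8)) := by
      intro n
      induction n with
      | zero => simp [h.u0]
      | succ n ih =>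
        have e1 : u ((n + 1 : ℕ) : ZMod 8) = u (n : ZMod 8) * u 1 := by
          rw [h.um]; push_cast; rfl
        have e2 : t * (u (n : ZMod 8) * u 1) * t⁻¹ = (t * u (n : ZMod 8) * t⁻¹) * (t * u 1 * t⁻¹) := by
          group
        rw [e1, e2, ih, hi, h.um]
        congr 1; push_cast; ring
    intro a
    have h6 := h5 a.val
    rwa [ZMod.natCast_zmod_val] at h6
  obtain ⟨m, hm⟩ : ∃ m, t * y * t⁻¹ = u m * y := by
    rcases (h.mem _).1 (ht _ h.y_mem) with ⟨m, hm⟩ | ⟨m, hm⟩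
    · exfalso
      have h6 : ∀ i m : ZMod 8, 4 * i ≠ 0 → i * (i * m) = m := by decide
      have h7 := hall (i * m)
      rw [h6 i m hi4, ← hm] at h7
      have h8 : u (i * m) = y := by
        have := mul_right_cancel h7
        exact mul_left_cancel this
      exact h.ne _ h8
    · exact ⟨m, hm⟩
  refine ⟨i, m, hi4, ?_, hall, hm⟩
  have h6 : (t * y * t⁻¹) * (t * y * t⁻¹) = 1 := by
    have : (t * y * t⁻¹) * (t * y * t⁻¹) = t * (y * y) * t⁻¹ := by group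
    rw [this, h.yy, mul_one, mul_inv_cancel]
  rw [hm, h.sq_uy] at h6
  exact h.inj _ h6

/-- `t` acts trivially modulo the squares. -/
theorem aut_mod (h : Crd P u y) {t : G} (ht : ∀ p ∈ P, t * p * t⁻¹ ∈ P) {p : G} (hp : p ∈ P) :
    ∃ k, t * p * t⁻¹ * p⁻¹ = u (2 * k) := by
  obtain ⟨i, m, hi, hm, h1, h2⟩ := h.aut ht
  have ei : ∀ i a : ZMod 8, 4 * i ≠ 0 → ∃ k, i * a + -a = 2 * k := by decide
  have em : ∀ m : ZMod 8, 4 * m = 0 → ∃ k, m = 2 * k := by decide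
  obtain ⟨k, hk⟩ := em m hm
  rcases (h.mem p).1 hp with ⟨a, rfl⟩ | ⟨a, rfl⟩
  · obtain ⟨l, hl⟩ := ei i a hi
    exact ⟨l, by rw [h1, h.inv, h.um, hl]⟩
  · obtain ⟨l, hl⟩ := ei i a hi
    refine ⟨l + k, ?_⟩
    have h3 : t * (u a * y) * t⁻¹ * (u a * y)⁻¹ = (t * u a * t⁻¹) * (t * y * t⁻¹) * y⁻¹ * (u a)⁻¹ := by
      group
    rw [h3, h1, h2, h.inv]
    have h4 : u (i * a) * (u m * y) * y⁻¹ * u (-a) = u (i * a) * u m * u (-a) := by group
    rw [h4, h.um, h.um]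
    congr 1
    have h5 : i * a + m + -a = (i * a + -a) + m := by ring
    rw [h5, hl, hk]
    ring

/-- An element `p ∈ P` inducing the square of the automorphism `t` is a square. -/
theorem of_sq (h : Crd P u y) {t : G} (ht : ∀ p ∈ P, t * p * t⁻¹ ∈ P) {p : G} (hp : p ∈ P)
    (hpt : ∀ q ∈ P, t * (t * q * t⁻¹) * t⁻¹ = p * q * p⁻¹) : ∃ k, p = u (2 * k) := by
  obtain ⟨i, m, hi, hm, h1, h2⟩ := h.aut ht
  have h3 := hpt (u 1) (h.u_mem 1)
  rw [h1, h1] at h3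
  have e1 : ∀ i : ZMod 8, 4 * i ≠ 0 → i * (i * 1) = 1 := by decide
  rw [e1 i hi] at h3
  rcases (h.mem p).1 hp with ⟨a, rfl⟩ | ⟨a, rfl⟩
  · have h4 := hpt y h.y_mem
    have h5 : t * (u m * y) * t⁻¹ = (t * u m * t⁻¹) * (t * y * t⁻¹) := by group
    rw [h2, h5, h1, h2, h.conj_y, ← mul_assoc, h.um] at h4
    have h6 := h.u_eq (mul_right_cancel h4)
    have e2 : ∀ i m a : ZMod 8, 4 * i ≠ 0 → 4 * m = 0 → i * m + m = -2 * a → ∃ k, a = 2 * k := by
      decide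
    obtain ⟨k, hk⟩ := e2 i m a hi hm h6
    exact ⟨k, by rw [hk]⟩
  · exfalso
    rw [h.conj_u] at h3
    exact absurd (h.u_eq h3) (by decide)

/-- The squares. -/
def Phi (h : Crd P u y) : Subgroup G where
  carrier := {g | ∃ k, g = u (2 * k)}
  one_mem' := ⟨0, by rw [mul_zero, h.u0]⟩
  mul_mem' := by
    rintro a b ⟨k, rfl⟩ ⟨l, rfl⟩
    exact ⟨k + l, by rw [h.um]; congr 1; ring⟩
  inv_mem' := by
    rintro a ⟨k, rfl⟩
    exact ⟨-k, by rw [h.inv]; congr 1; ring⟩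

theorem mem_Phi (h : Crd P u y) {g : G} : g ∈ h.Phi ↔ ∃ k, g = u (2 * k) := Iff.rfl

theorem Phi_le (h : Crd P u y) : h.Phi ≤ P := by
  rintro _ ⟨k, rfl⟩
  exact h.u_mem _

theorem sq_mem (h : Crd P u y) {p : G} (hp : p ∈ P) : p * p ∈ h.Phi := by
  rcases (h.mem p).1 hp with ⟨a, rfl⟩ | ⟨a, rfl⟩
  · exact ⟨a, by rw [h.um]; congr 1; ring⟩
  · exact ⟨2 * a, by rw [h.sq_uy]; congr 1; ring⟩

theorem card_Phi (h : Crd P u y) : Nat.card h.Phi ≤ 4 := by
  have hs : Function.Surjective (fun k : Fin 4 => (⟨u (2 * (k : ℕ)), ⟨_, rfl⟩⟩ : h.Phi)) := by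
    rintro ⟨_, k, rfl⟩
    have e : ∀ k : ZMod 8, ∃ l : Fin 4, (2 : ZMod 8) * ((l : ℕ) : ZMod 8) = 2 * k := by decide
    obtain ⟨l, hl⟩ := e k
    exact ⟨l, Subtype.ext (by simp only [hl])⟩
  have h1 := Nat.card_le_card_of_surjective _ hs
  simpa using h1

end Crd

/-! ### `T = P P'` -/

theorem mem_sup {A B : Subgroup G} (hcomm : ∀ p ∈ A, ∀ q ∈ B, p * q = q * p) {g : G} :
    g ∈ A ⊔ B ↔ ∃ p ∈ A, ∃ q ∈ B, p * q = g := by
  constructor
  · intro hg
    let C : Subgroup G :=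
      { carrier := {g | ∃ p ∈ A, ∃ q ∈ B, p * q = g}
        one_mem' := ⟨1, A.one_mem, 1, B.one_mem, one_mul 1⟩
        mul_mem' := by
          rintro _ _ ⟨p, hp, q, hq, rfl⟩ ⟨r, hr, s, hs, rfl⟩
          refine ⟨p * r, A.mul_mem hp hr, q * s, B.mul_mem hq hs, ?_⟩
          calc p * r * (q * s) = p * (r * q) * s := by group
            _ = p * (q * r) * s := by rw [hcomm r hr q hq]
            _ = _ := by group
        inv_mem' := by
          rintro _ ⟨p, hp, q, hq, rfl⟩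
          refine ⟨p⁻¹, A.inv_mem hp, q⁻¹, B.inv_mem hq, ?_⟩
          rw [mul_inv_rev]
          exact hcomm _ (A.inv_mem hp) _ (B.inv_mem hq) }
    have h1 : A ⊔ B ≤ C := sup_le (fun a ha => ⟨a, ha, 1, B.one_mem, mul_one a⟩)
      (fun b hb => ⟨1, A.one_mem, b, hb, one_mul b⟩)
    exact h1 hg
  · rintro ⟨p, hp, q, hq, rfl⟩
    exact mul_mem (mem_sup_left hp) (mem_sup_right hq)

theorem exists_sq {T B : Subgroup G} (hT : IsPGroup 2 T) {t : G} (ht : t ∈ T) (htB : t ∉ B) :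
    ∃ s ∈ T, s ∉ B ∧ s * s ∈ B := by
  classical
  obtain ⟨n, hn⟩ := hT ⟨t, ht⟩
  have hex : ∃ n : ℕ, t ^ 2 ^ n ∈ B := ⟨n, by
    have : t ^ 2 ^ n = 1 := congrArg Subtype.val hn
    rw [this]; exact B.one_mem⟩
  have h0 : Nat.find hex ≠ 0 := by
    intro h0
    have := Nat.find_spec hex
    rw [h0, pow_zero, pow_one] at this
    exact htB this
  obtain ⟨k, hk⟩ := Nat.exists_eq_succ_of_ne_zero h0
  refine ⟨t ^ 2 ^ k, T.pow_mem ht _, Nat.find_min hex (by omega), ?_⟩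
  have := Nat.find_spec hex
  rw [hk, Nat.succ_eq_add_one, pow_succ, mul_comm, two_mul, pow_add] at this
  exact this

theorem sup_eq [Finite G] {T P P' : Subgroup G} {u u' : ZMod 8 → G} {y y' : G} (hT : IsPGroup 2 T)
    (hr : SectionalPRankLE 2 4 G) (hPT : P ≤ T) (hPT' : P' ≤ T)
    (hn : ∀ t ∈ T, ∀ p ∈ P, t * p * t⁻¹ ∈ P) (hn' : ∀ t ∈ T, ∀ p ∈ P', t * p * t⁻¹ ∈ P')
    (hcomm : ∀ p ∈ P, ∀ q ∈ P', p * q = q * p) (hinf : P ⊓ P' = ⊥) (h : Crd P u y)
    (h' : Crd P' u' y') (hc : Nat.card P = 16) (hc' : Nat.card P' = 16) : T = P ⊔ P' := by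
  by_contra hne
  have hle : P ⊔ P' ≤ T := sup_le hPT hPT'
  obtain ⟨t0, ht0, ht0B⟩ : ∃ t ∈ T, t ∉ P ⊔ P' := by
    by_contra hcon
    push Not at hcon
    exact hne (le_antisymm hcon hle)
  obtain ⟨t, ht, htB, htt⟩ := exists_sq hT ht0 ht0B
  obtain ⟨p, hp, q, hq, hpq⟩ := (mem_sup hcomm).1 htt
  have hpPhi : p ∈ h.Phi := by
    apply h.of_sq (hn t ht) hp
    intro r hr
    have h1 : t * (t * r * t⁻¹) * t⁻¹ = (t * t) * r * (t * t)⁻¹ := by group
    rw [h1, ← hpq]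
    have h2 : p * q * r * (p * q)⁻¹ = p * (q * r * q⁻¹) * p⁻¹ := by group
    rw [h2, ← hcomm r hr q hq, mul_inv_cancel_right]
  have hqPhi : q ∈ h'.Phi := by
    apply h'.of_sq (hn' t ht) hq
    intro r hr
    have h1 : t * (t * r * t⁻¹) * t⁻¹ = (t * t) * r * (t * t)⁻¹ := by group
    rw [h1, ← hpq]
    have h2 : p * q * r * (p * q)⁻¹ = p * (q * r * q⁻¹) * p⁻¹ := by group
    rw [h2, hcomm p hp _ (P'.mul_mem (P'.mul_mem hq hr) (P'.inv_mem hq)), mul_inv_cancel_right]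
  have hPP : ∀ f ∈ h.Phi, ∀ g ∈ h'.Phi, f * g = g * f := fun f hf g hg =>
    hcomm f (h.Phi_le hf) g (h'.Phi_le hg)
  have key : ∀ s ∈ T, ∀ x ∈ P ⊔ P', s * x * s⁻¹ * x⁻¹ ∈ h.Phi ⊔ h'.Phi := by
    intro s hs x hx
    obtain ⟨a, ha, b, hb, rfl⟩ := (mem_sup hcomm).1 hx
    have h1 : s * (a * b) * s⁻¹ * (a * b)⁻¹ =
        (s * a * s⁻¹) * ((s * b * s⁻¹ * b⁻¹) * a⁻¹) := by group
    rw [h1, ← hcomm _ (P.inv_mem ha) _ (P'.mul_mem (hn' s hs b hb) (P'.inv_mem hb)), ← mul_assoc]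
    exact mul_mem (mem_sup_left (h.aut_mod (hn s hs) ha)) (mem_sup_right (h'.aut_mod (hn' s hs) hb))
  have hYB : h.Phi ⊔ h'.Phi ≤ P ⊔ P' := sup_le_sup h.Phi_le h'.Phi_le
  have hsec : ElemSection 2 (P ⊔ P') (h.Phi ⊔ h'.Phi) := by
    refine QALemmaQ.of_sq hYB ?_ ?_
    · intro x hx z hz
      have h1 := key x (hle hx) z (hYB hz)
      have h2 := mul_mem h1 hz
      simpa using h2
    · intro x hx
      obtain ⟨a, ha, b, hb, rfl⟩ := (mem_sup hcomm).1 hx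
      have h1 : a * b * (a * b) = (a * a) * (b * b) := by
        calc a * b * (a * b) = a * (b * a) * b := by group
          _ = a * (a * b) * b := by rw [hcomm a ha b hb]
          _ = _ := by group
      rw [h1]
      exact mul_mem (mem_sup_left (h.sq_mem ha)) (mem_sup_right (h'.sq_mem hb))
  obtain ⟨X', hX', hcX, -⟩ := QALemmaQ.adjoin hsec htB
    (by rw [← hpq]; exact mul_mem (mem_sup_left hpPhi) (mem_sup_right hqPhi))
    (fun x hx => key t ht x hx)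
  have h1 := sectionalPRankLE_iff.1 hr X' _ hX'
  have h2 : Nat.card ↥(P ⊔ P') = 256 := by
    have h3 := L2Frame.card_sup_mul (H := P) (N := P') (fun a ha => by
      rw [mem_normalizer_iff]
      intro b
      constructor
      · intro hb
        exact hn' a (hPT ha) b hb
      · intro hb
        have h4 := hn' a⁻¹ (T.inv_mem (hPT ha)) _ hb
        have h5 : a⁻¹ * (a * b * a⁻¹) * a⁻¹⁻¹ = b := by group
        rwa [h5] at h4)
    rw [hinf, card_bot, mul_one, hc, hc'] at h3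
    exact h3
  have h3 : Nat.card ↥(h.Phi ⊔ h'.Phi) ≤ 16 := by
    have h4 := L2Frame.card_sup_mul (H := h.Phi) (N := h'.Phi) (fun a ha => by
      rw [mem_normalizer_iff]
      intro b
      constructor
      · intro hb
        rw [hPP a ha b hb, mul_inv_cancel_right]
        exact hb
      · intro hb
        have h5 := hPP _ (inv_mem ha) _ hb
        have h6 : b = a⁻¹ * (a * b * a⁻¹) * a := by group
        rw [h6, h5, inv_mul_cancel_right]
        exact hb)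
    have h5 : 1 ≤ Nat.card ↥(h.Phi ⊓ h'.Phi) := Nat.card_pos
    have h6 := h.card_Phi
    have h7 := h'.card_Phi
    nlinarith
  rw [hcX, h2] at h1
  omega

end Cfsg.Agent.GH.L3S.SD
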