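import Cfsg.Agent.GH.L3.TFrame
import Cfsg.Agent.GH.L2NoComp
import Cfsg.Agent.GH.KeyTransfer
import Cfsg.Agent.SignalizersComponents.PConstrained

/-!
# GH-L3 SD, CASE B: first consequences of the start data

`BStart X x z T`: `x ∈ X`, `T` Sylow in `C(x)`, `z` the central involution of `T ⊓ KK x`, `z ∉ X`,
`T ⊓ fixer (KK x) = {1, x}`, `x` conjugate to `x z`.

* `BStart.center`: `Z(T) = {1, z, x, x z}`;
* `BStart.exists_swap`: `s` normalizing `T`, a 2-element, `s x s⁻¹ = x z`, `s z s⁻¹ = z`;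
* `BStart.exists_sylow`: a Sylow 2-subgroup `S ≥ T` centralizing `z`, `z` its only central involution;
* `BStart.pLayer`: no 2-component in `C(z)`; `BStart.constrained`: `C_H(O₂(H)) ≤ O₂(H)`, `H = C(z)/O(C(z))`;
* `BStart.mem_of_relIndex`: `x` lies in all subgroups of index 2 of `C(z)`;  `BStart.hom`, `BStart.homQ`: every
  homomorphism from `C(z)` (resp. `H`) to `{±1}` is `1` on `x`.
-/

set_option autoImplicit false

open Cfsg Subgroup
open Cfsg.Agent.SignalizersComponents Cfsg.Agent.Lib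
open Cfsg.Agent.SignalizersComponents.IntrinsicBasic
open Cfsg.Agent.Intrinsic.Basic Cfsg.Agent.Intrinsic.Cen
open Cfsg.Agent.GH.Defs Cfsg.Agent.GH.XSet
open Cfsg.Agent.GH.L3.TFrame
open Cfsg.Agent.Walter.SylowIn

namespace Cfsg.Agent.GH.L3S.BOne

variable {G : Type*} [Group G]

/-- Start data of CASE B. -/
structure BStart (X : Set G) (x z : G) (T : Subgroup G) : Prop where
  mem : x ∈ X
  syl : SylIn 2 T (C x)
  full : Full x T z
  notMem : z ∉ X
  Q : ∀ t ∈ T, Fixes t (KK x) → t = 1 ∨ t = x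
  con : ∃ g : G, g * x * g⁻¹ = x * z

theorem isPGroup_zpowers {w : G} {n : ℕ} (hwn : w ^ 2 ^ n = 1) : IsPGroup 2 (zpowers w) := by
  obtain ⟨m, -, hm⟩ := (Nat.dvd_prime_pow Nat.prime_two).mp (orderOf_dvd_of_pow_eq_one hwn)
  exact IsPGroup.of_card (n := m) (by rw [Nat.card_zpowers, hm])

/-- `T` Sylow in `D`: an element of 2-power order of `D` normalizing `T` lies in `T`. -/
theorem mem_of_normalizes [Finite G] {T D : Subgroup G} (hT : SylIn 2 T D) {w : G}
    (hw : w ∈ D) {n : ℕ} (hwn : w ^ 2 ^ n = 1) (hn : w ∈ normalizer (T : Set G)) : w ∈ T := by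
  have hp : Fact (Nat.Prime 2) := ⟨Nat.prime_two⟩
  have h2 : zpowers w ≤ normalizer (T : Set G) := by
    rw [zpowers_le]
    exact hn
  have h3 : IsPGroup 2 (T ⊔ zpowers w : Subgroup G) :=
    IsPGroup.to_sup_of_normal_left' hT.isPGroup (isPGroup_zpowers hwn) h2
  have h4 : T ⊔ zpowers w ≤ D := sup_le hT.le (by rw [zpowers_le]; exact hw)
  have h5 : T ⊔ zpowers w = T := hT.eq_of_le le_sup_left h4 h3
  rw [← h5]
  exact mem_sup_right (mem_zpowers w)

/-- An odd power of `m` is a 2-element. -/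
theorem exists_odd_pow [Finite G] (m : G) : ∃ q a : ℕ, Odd q ∧ (m ^ q) ^ 2 ^ a = 1 := by
  obtain ⟨a, q, hq, h⟩ := Nat.exists_eq_two_pow_mul_odd (n := orderOf m) (orderOf_pos m).ne'
  refine ⟨q, a, hq, ?_⟩
  rw [← pow_mul, mul_comm q, ← h, pow_orderOf_eq_one]

/-- A 2-subgroup which is not a Sylow 2-subgroup grows in its normalizer. -/
theorem exists_normalizes [Finite G] {T : Subgroup G} (P : Sylow 2 G) (hTP : T ≤ P) (hne : T ≠ P) :
    ∃ s ∈ (P : Subgroup G), s ∉ T ∧ s ∈ normalizer (T : Set G) := by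
  have hp : Fact (Nat.Prime 2) := ⟨Nat.prime_two⟩
  have hnil : Group.IsNilpotent (P : Subgroup G) := P.2.isNilpotent
  have h1 : T.subgroupOf P < ⊤ := by
    rw [lt_top_iff_ne_top]
    intro h
    rw [subgroupOf_eq_top] at h
    exact hne (le_antisymm hTP h)
  have h2 := Group.normalizerCondition_of_isNilpotent (G := (P : Subgroup G)) _ h1
  obtain ⟨s, hs, hsT⟩ := SetLike.exists_of_lt h2
  refine ⟨s, s.2, fun h => hsT (mem_subgroupOf.mpr h), ?_⟩
  rw [mem_normalizer_iff] at hs ⊢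
  intro t
  constructor
  · intro ht
    have h3 := (hs ⟨t, hTP ht⟩).mp (mem_subgroupOf.mpr ht)
    exact mem_subgroupOf.mp h3
  · intro ht
    have h4 : t ∈ (P : Subgroup G) := by
      have h5 := mul_mem (mul_mem (inv_mem s.2) (hTP ht)) s.2
      have e : (s : G)⁻¹ * (s * t * (s : G)⁻¹) * s = t := by group
      rwa [e] at h5
    exact mem_subgroupOf.mp ((hs ⟨t, h4⟩).mpr (mem_subgroupOf.mpr ht))

namespace BStart

variable {X : Set G} {N : ℕ} {x z : G} {T : Subgroup G}

theorem zz (b : BStart X x z T) : z * z = 1 := b.full.toCtr.sq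

theorem z_ne (b : BStart X x z T) : z ≠ 1 := b.full.toCtr.ne

theorem z_mem (b : BStart X x z T) : z ∈ T := b.full.toCtr.mem.1

theorem z_KK (b : BStart X x z T) : z ∈ KK x := b.full.toCtr.mem.2

theorem ord_x (b : BStart X x z T) (h : Frame X N) : orderOf x = 2 := h.inv x b.mem

theorem xx (b : BStart X x z T) (h : Frame X N) : x * x = 1 := h.toXBase.sq b.mem

theorem x_ne (b : BStart X x z T) (h : Frame X N) : x ≠ 1 := h.toXBase.ne_one b.mem

theorem comm_x (b : BStart X x z T) : ∀ t ∈ T, Commute t x := fun _ ht => mem_C.mp (b.syl.le ht)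

theorem xz_comm (b : BStart X x z T) : Commute x z := (b.comm_x z b.z_mem).symm

theorem xz_mem_X (b : BStart X x z T) (h : Frame X N) : x * z ∈ X := by
  obtain ⟨g, hg⟩ := b.con
  rw [← hg]
  exact h.conj x b.mem g

theorem x_ne_z (b : BStart X x z T) : x ≠ z := fun h => b.notMem (h ▸ b.mem)

variable [Finite G]

omit [Finite G] in
theorem normalizes_of_comm {w : G} (hw : ∀ t ∈ T, Commute t w) : w ∈ normalizer (T : Set G) := by
  apply centralizer_le_normalizer
  rw [mem_centralizer_iff]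
  exact fun t ht => (hw t ht).eq

theorem x_mem (b : BStart X x z T) (h : Frame X N) : x ∈ T :=
  mem_of_normalizes b.syl (mem_C.mpr (Commute.refl x)) (n := 1)
    (by rw [pow_one, pow_two, b.xx h]) (normalizes_of_comm b.comm_x)

/-- An involution of `C(x)` commuting with `T` lies in `T`. -/
theorem mem_T_of_comm (b : BStart X x z T) (h : Frame X N) {w : G} (hw : w * w = 1)
    (hc : ∀ t ∈ T, Commute t w) : w ∈ T :=
  mem_of_normalizes b.syl (mem_C.mpr (hc x (b.x_mem h)).symm) (n := 1)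
    (by rw [pow_one, pow_two, hw]) (normalizes_of_comm hc)

omit [Finite G] in
/-- `Z(T) = {1, z, x, x z}`. -/
theorem center (b : BStart X x z T) {w : G} (hw : w ∈ T) (hc : ∀ t ∈ T, Commute t w) :
    w = 1 ∨ w = z ∨ w = x ∨ w = x * z := by
  rcases b.full.cent w hw fun p hp => (hc p hp.1).symm with h1 | h1
  · rcases b.Q w hw h1 with h2 | h2
    · exact Or.inl h2
    · exact Or.inr (Or.inr (Or.inl h2))
  · have hzi : z⁻¹ = z := inv_eq_of_mul_eq_one_left b.zz
    rcases b.Q (w * z) (mul_mem hw b.z_mem) h1 with h2 | h2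
    · right; left
      rw [← hzi]
      exact eq_inv_of_mul_eq_one_left h2
    · right; right; right
      rw [← h2, mul_assoc, b.zz, mul_one]

omit [Finite G] in
/-- Elements normalizing `T` centralize `z`. -/
theorem conj_z (b : BStart X x z T) (h : Frame X N) {m : G} (hm : m ∈ normalizer (T : Set G)) :
    m * z * m⁻¹ = z := by
  have h1 : m * z * m⁻¹ ∈ T := (mem_normalizer_iff.mp hm z).mp b.z_mem
  have h2 : ∀ t ∈ T, Commute t (m * z * m⁻¹) := by
    intro t ht
    have h3 : m⁻¹ * t * m ∈ T := by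
      have h4 := (mem_normalizer_iff.mp (inv_mem hm) t).mp ht
      rwa [inv_inv] at h4
    have h5 := (b.full.toCtr.comm _ h3).eq
    change t * (m * z * m⁻¹) = m * z * m⁻¹ * t
    calc t * (m * z * m⁻¹) = m * ((m⁻¹ * t * m) * z) * m⁻¹ := by group
      _ = m * (z * (m⁻¹ * t * m)) * m⁻¹ := by rw [h5]
      _ = m * z * m⁻¹ * t := by group
  have hX : m * z * m⁻¹ ∉ X := by
    intro h3
    have h4 := h.conj _ h3 m⁻¹
    have e : m⁻¹ * (m * z * m⁻¹) * m⁻¹⁻¹ = z := by group
    rw [e] at h4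
    exact b.notMem h4
  rcases b.center h1 h2 with h3 | h3 | h3 | h3
  · exfalso
    apply b.z_ne
    have e : z = m⁻¹ * (m * z * m⁻¹) * m := by group
    rw [e, h3]; group
  · exact h3
  · exact absurd (h3 ▸ b.mem) hX
  · exact absurd (h3 ▸ b.xz_mem_X h) hX

/-- Elements normalizing `T` map `x` to `x` or `x z`. -/
theorem conj_x (b : BStart X x z T) (h : Frame X N) {m : G} (hm : m ∈ normalizer (T : Set G)) :
    m * x * m⁻¹ = x ∨ m * x * m⁻¹ = x * z := by
  have h1 : m * x * m⁻¹ ∈ T := (mem_normalizer_iff.mp hm x).mp (b.x_mem h)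
  have h2 : ∀ t ∈ T, Commute t (m * x * m⁻¹) := by
    intro t ht
    have h3 : m⁻¹ * t * m ∈ T := by
      have h4 := (mem_normalizer_iff.mp (inv_mem hm) t).mp ht
      rwa [inv_inv] at h4
    have h5 := (b.comm_x _ h3).eq
    change t * (m * x * m⁻¹) = m * x * m⁻¹ * t
    calc t * (m * x * m⁻¹) = m * ((m⁻¹ * t * m) * x) * m⁻¹ := by group
      _ = m * (x * (m⁻¹ * t * m)) * m⁻¹ := by rw [h5]
      _ = m * x * m⁻¹ * t := by group
  rcases b.center h1 h2 with h3 | h3 | h3 | h3
  · exfalso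
    apply b.x_ne h
    have e : x = m⁻¹ * (m * x * m⁻¹) * m := by group
    rw [e, h3]; group
  · exact absurd (h3 ▸ h.conj x b.mem m) b.notMem
  · exact Or.inl h3
  · exact Or.inr h3

omit [Finite G] in
/-- An odd power of an element swapping `x`, `x z` swaps them. -/
theorem pow_swap (b : BStart X x z T) {m : G} (hz : m * z * m⁻¹ = z)
    (hx : m * x * m⁻¹ = x * z) {q : ℕ} (hq : Odd q) : m ^ q * x * (m ^ q)⁻¹ = x * z := by
  obtain ⟨k, rfl⟩ := hq
  induction k with
  | zero => simpa using hx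
  | succ k ih =>
    have e : m ^ (2 * (k + 1) + 1) * x * (m ^ (2 * (k + 1) + 1))⁻¹ =
        m * (m * (m ^ (2 * k + 1) * x * (m ^ (2 * k + 1))⁻¹) * m⁻¹) * m⁻¹ := by
      have : m ^ (2 * (k + 1) + 1) = m * m * m ^ (2 * k + 1) := by
        rw [show 2 * (k + 1) + 1 = 1 + 1 + (2 * k + 1) by ring, pow_add, pow_add, pow_one]
      rw [this]; group
    have e2 : m * (x * z) * m⁻¹ = x := by
      calc m * (x * z) * m⁻¹ = (m * x * m⁻¹) * (m * z * m⁻¹) := by group
        _ = x * (z * z) := by rw [hx, hz, mul_assoc]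
        _ = x := by rw [b.zz, mul_one]
    rw [e, ih, e2, hx]

/-- A 2-element normalizing `T` and swapping `x`, `x z`. -/
theorem exists_swap (b : BStart X x z T) (h : Frame X N) :
    ∃ s : G, s ∈ normalizer (T : Set G) ∧ (∃ n : ℕ, s ^ 2 ^ n = 1) ∧ s * x * s⁻¹ = x * z ∧
      s * z * s⁻¹ = z := by
  have hp : Fact (Nat.Prime 2) := ⟨Nat.prime_two⟩
  obtain ⟨P, hTP⟩ := b.syl.isPGroup.exists_le_sylow
  by_cases hne : T = P
  · exfalso
    -- Burnside
    obtain ⟨g, hg⟩ := b.con
    have h1 : x ∈ centralizer (P : Set G) := by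
      rw [mem_centralizer_iff]
      intro t ht
      exact (b.comm_x t (hne ▸ ht)).eq
    have h2 : g⁻¹⁻¹ * x * g⁻¹ ∈ centralizer (P : Set G) := by
      rw [inv_inv, hg, mem_centralizer_iff]
      intro t ht
      have h3 : t ∈ T := hne ▸ ht
      exact ((b.comm_x t h3).mul_right (b.full.toCtr.comm t h3)).eq
    obtain ⟨n, hn, hn2⟩ := Sylow.conj_eq_normalizer_conj_of_mem_centralizer P x g⁻¹ h1 h2
    rw [inv_inv, hg] at hn2
    have h3 : n⁻¹ ∈ normalizer (T : Set G) := by
      rw [hne]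
      exact inv_mem hn
    have h4 := b.conj_z h h3
    have h5 : n⁻¹ * x * n⁻¹⁻¹ = x * z := by rw [inv_inv, ← hn2]
    obtain ⟨q, a, hq, ha⟩ := exists_odd_pow n⁻¹
    have h6 := b.pow_swap h4 h5 hq
    have h7 : (n⁻¹) ^ q ∈ T := by
      have h8 : SylIn 2 T (⊤ : Subgroup G) := by
        rw [hne]
        exact sylIn_of_sylow P le_top
      exact mem_of_normalizes h8 (mem_top _) ha (pow_mem h3 q)
    have h8 := (b.comm_x _ h7).eq
    have h9 : x = x * z := by
      rw [← h6, h8]; group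
    exact b.z_ne (by simpa using h9.symm)
  · obtain ⟨s, hsP, hsT, hs⟩ := exists_normalizes P hTP hne
    obtain ⟨n, hn⟩ := exists_pow P.2 hsP
    refine ⟨s, hs, ⟨n, hn⟩, ?_, b.conj_z h hs⟩
    rcases b.conj_x h hs with h1 | h1
    · exfalso
      apply hsT
      refine mem_of_normalizes b.syl (mem_C.mpr ?_) hn hs
      change s * x = x * s
      calc s * x = (s * x * s⁻¹) * s := by group
        _ = x * s := by rw [h1]
    · exact h1

/-- A Sylow 2-subgroup `S ≥ T` of `G`, centralizing `z`, with `z` as its only central involution, with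
`s ∈ S` swapping `x`, `x z`. -/
theorem exists_sylow (b : BStart X x z T) (h : Frame X N) :
    ∃ (S : Sylow 2 G) (s : G), T ≤ S ∧ s ∈ (S : Subgroup G) ∧ s ∈ normalizer (T : Set G) ∧
      s * x * s⁻¹ = x * z ∧ s * z * s⁻¹ = z ∧ (∀ t ∈ (S : Subgroup G), Commute t z) ∧
      ∀ w ∈ (S : Subgroup G), orderOf w = 2 → (∀ t ∈ (S : Subgroup G), Commute t w) → w = z := by
  have hp : Fact (Nat.Prime 2) := ⟨Nat.prime_two⟩
  obtain ⟨s, hs, ⟨n, hn⟩, hsx, hsz⟩ := b.exists_swap h
  have h1 : IsPGroup 2 (T ⊔ zpowers s : Subgroup G) :=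
    IsPGroup.to_sup_of_normal_left' b.syl.isPGroup (isPGroup_zpowers hn)
      (by rw [zpowers_le]; exact hs)
  obtain ⟨S, hS⟩ := h1.exists_le_sylow
  have hTS : T ≤ S := le_sup_left.trans hS
  have hsS : s ∈ (S : Subgroup G) := hS (mem_sup_right (mem_zpowers s))
  have key : ∀ w : G, orderOf w = 2 → (∀ t ∈ (S : Subgroup G), Commute t w) → w = z := by
    intro w hw hc
    have hww : w * w = 1 := mul_self_of_orderOf hw
    have hwT : w ∈ T := b.mem_T_of_comm h hww fun t ht => hc t (hTS ht)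
    have hsw : s * w * s⁻¹ = w := by
      rw [(hc s hsS).eq]; group
    have hsxz : s * (x * z) * s⁻¹ = x := by
      calc s * (x * z) * s⁻¹ = (s * x * s⁻¹) * (s * z * s⁻¹) := by group
        _ = x * (z * z) := by rw [hsx, hsz, mul_assoc]
        _ = x := by rw [b.zz, mul_one]
    rcases b.center hwT fun t ht => hc t (hTS ht) with h2 | h2 | h2 | h2
    · rw [h2] at hw
      simp at hw
    · exact h2
    · exfalso
      rw [h2, hsx] at hsw
      exact b.z_ne (by simpa using hsw)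
    · exfalso
      rw [h2, hsxz] at hsw
      exact b.z_ne (by simpa using hsw.symm)
  -- the centre of `S` is not trivial
  have hnt : Nontrivial (S : Subgroup G) :=
    ⟨⟨⟨z, hTS b.z_mem⟩, 1, fun h => b.z_ne (congrArg Subtype.val h)⟩⟩
  have h3 : Nontrivial (Subgroup.center (S : Subgroup G)) := S.2.center_nontrivial
  have h4 : IsPGroup 2 (Subgroup.center (S : Subgroup G)) := S.2.to_subgroup _
  obtain ⟨k, hk⟩ := IsPGroup.iff_card.mp h4
  have h5 : 2 ∣ Nat.card (Subgroup.center (S : Subgroup G)) := by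
    have h6 : 1 < Nat.card (Subgroup.center (S : Subgroup G)) := Finite.one_lt_card
    rw [hk] at h6 ⊢
    refine dvd_pow_self 2 fun h7 => ?_
    rw [h7] at h6
    simp at h6
  obtain ⟨w, hw⟩ := exists_prime_orderOf_dvd_card' 2 h5
  have hw2 : orderOf ((w : (S : Subgroup G)) : G) = 2 := by
    rw [Subgroup.orderOf_coe, Subgroup.orderOf_coe, hw]
  have hwc : ∀ t ∈ (S : Subgroup G), Commute t ((w : (S : Subgroup G)) : G) := by
    intro t ht
    have h6 := mem_center_iff.mp w.2 ⟨t, ht⟩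
    exact congrArg Subtype.val h6
  have hwz := key _ hw2 hwc
  refine ⟨S, s, hTS, hsS, hs, hsx, hsz, ?_, fun w _ h1 h2 => key w h1 h2⟩
  rw [← hwz]
  exact hwc

/-- The index `|S : T|` is at least 2. -/
theorem two_mul_card_le (b : BStart X x z T) (h : Frame X N) (S : Sylow 2 G) :
    2 * Nat.card T ≤ Nat.card (S : Subgroup G) := by
  have hp : Fact (Nat.Prime 2) := ⟨Nat.prime_two⟩
  obtain ⟨S0, s, hTS, hsS, hs, hsx, hsz, -, -⟩ := b.exists_sylow h
  have h1 : Nat.card (S : Subgroup G) = Nat.card (S0 : Subgroup G) := by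
    rw [Sylow.card_eq_multiplicity S, Sylow.card_eq_multiplicity S0]
  have h2 : T < (S0 : Subgroup G) := by
    refine lt_of_le_of_ne hTS fun h3 => ?_
    have h4 : s ∈ T := by rw [h3]; exact hsS
    have h5 := (b.comm_x s h4).eq
    have h6 : s * x * s⁻¹ = x := by rw [h5]; group
    rw [hsx] at h6
    exact b.z_ne (by simpa using h6)
  have h3 : Nat.card T ∣ Nat.card (S0 : Subgroup G) := card_dvd_of_le hTS
  obtain ⟨c, hc⟩ := h3
  rw [h1, hc]
  have h4 : c ≠ 0 := by
    rintro rfl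
    rw [mul_zero] at hc
    exact Nat.card_pos.ne' hc
  have h5 : c ≠ 1 := by
    rintro rfl
    rw [mul_one] at hc
    exact h2.ne (eq_of_le_of_card_ge hTS hc.le)
  have h6 : 2 ≤ c := by omega
  calc 2 * Nat.card T = Nat.card T * 2 := mul_comm _ _
    _ ≤ Nat.card T * c := Nat.mul_le_mul_left _ h6

omit [Finite G] in
theorem ord_z (b : BStart X x z T) : orderOf z = 2 := b.full.toCtr.ord

/-- No 2-component in `C(z)`. -/
theorem pLayer (b : BStart X x z T) (h : Frame X N) (hy : Hyp G) (ho : AllOdd G) :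
    pLayer 2 ↥(C z) = ⊥ := by
  obtain ⟨S, s, -, -, -, -, -, hS, hS2⟩ := b.exists_sylow h
  exact L2NoComp.pLayer_centralizer hy ho S b.ord_z hS hS2

theorem isPConstrained (b : BStart X x z T) (h : Frame X N) (hy : Hyp G) (ho : AllOdd G) :
    IsPConstrained 2 ↥(C z) := by
  have hp : Fact (Nat.Prime 2) := ⟨Nat.prime_two⟩
  exact (PConstrained.isPConstrained_iff_pLayer_eq_bot 2).2 (b.pLayer h hy ho)

/-- `H = C(z)/O(C(z))`: `C_H(O₂(H)) ≤ O₂(H)`. -/
theorem constrained (b : BStart X x z T) (h : Frame X N) (hy : Hyp G) (ho : AllOdd G) :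
    centralizer (pCore 2 (↥(C z) ⧸ pPrimeCore 2 ↥(C z)) : Set (↥(C z) ⧸ pPrimeCore 2 ↥(C z))) ≤
      pCore 2 (↥(C z) ⧸ pPrimeCore 2 ↥(C z)) := by
  have hp : Fact (Nat.Prime 2) := ⟨Nat.prime_two⟩
  exact (PConstrained.isPConstrained_iff_quotient 2).1 (b.isPConstrained h hy ho)

omit [Finite G] in
theorem index_ne_two (hy : Hyp G) (H : Subgroup G) : H.index ≠ 2 := by
  intro h
  have h1 := hy.simple
  have h2 : H.Normal := normal_of_index_eq_two h
  rcases h2.eq_bot_or_eq_top with h3 | h3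
  · rw [h3, index_bot] at h
    apply hy.nonComm
    have : Fact (Nat.Prime 2) := ⟨Nat.prime_two⟩
    have h4 : IsCyclic G := isCyclic_of_prime_card h
    exact IsCyclic.isMulCommutative
  · rw [h3, index_top] at h
    omega

/-- The only conjugate of `z` commuting with `x` and `T` is `z`. -/
theorem conj_unique (b : BStart X x z T) (h : Frame X N) {g : G}
    (hc : ∀ t ∈ T, Commute t (g * z * g⁻¹)) : g * z * g⁻¹ = z := by
  have hgg : (g * z * g⁻¹) * (g * z * g⁻¹) = 1 := by
    calc (g * z * g⁻¹) * (g * z * g⁻¹) = g * (z * z) * g⁻¹ := by group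
      _ = 1 := by rw [b.zz]; group
  have h1 := b.mem_T_of_comm h hgg hc
  have hX : g * z * g⁻¹ ∉ X := by
    intro h3
    have h4 := h.conj _ h3 g⁻¹
    have e : g⁻¹ * (g * z * g⁻¹) * g⁻¹⁻¹ = z := by group
    rw [e] at h4
    exact b.notMem h4
  rcases b.center h1 hc with h3 | h3 | h3 | h3
  · exfalso
    apply b.z_ne
    have e : z = g⁻¹ * (g * z * g⁻¹) * g := by group
    rw [e, h3]; group
  · exact h3
  · exact absurd (h3 ▸ b.mem) hX
  · exact absurd (h3 ▸ b.xz_mem_X h) hX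

/-- **transfer**: `x` lies in all subgroups of index 2 of `C(z)`. -/
theorem mem_of_relIndex (b : BStart X x z T) (h : Frame X N) (hy : Hyp G) {M : Subgroup G}
    (hM : M ≤ C z) (hi : M.relIndex (C z) = 2) : x ∈ M := by
  by_contra hxM
  exact KeyTransfer.false_of_cen (index_ne_two hy) (b.xx h) hM hi b.syl.isPGroup
    (fun t ht => (b.comm_x t ht).eq) (fun t ht => (b.full.toCtr.comm t ht).eq) b.xz_comm.eq hxM
    fun g _ h2 => b.conj_unique h fun t ht => (h2 t ht).symm

omit [Finite G] in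
theorem x_mem_C (b : BStart X x z T) : x ∈ C z := mem_C.mpr b.xz_comm

theorem hom (b : BStart X x z T) (h : Frame X N) (hy : Hyp G) (f : ↥(C z) →* ℤˣ) :
    f ⟨x, b.x_mem_C⟩ = 1 := by
  by_contra hf
  have h1 : f ⟨x, b.x_mem_C⟩ = -1 := (Int.units_eq_one_or _).resolve_left hf
  have h2 : f.ker.index = 2 := by
    rw [index_ker]
    have h3 : f.range = ⊤ := by
      rw [eq_top_iff]
      intro u _
      rcases Int.units_eq_one_or u with rfl | rfl
      · exact one_mem _
      · exact ⟨_, h1⟩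
    rw [h3, Nat.card_congr Subgroup.topEquiv.toEquiv]
    simp
  have h3 : (f.ker.map (C z).subtype).relIndex (C z) = 2 := by
    have h4 : (f.ker.map (C z).subtype).subgroupOf (C z) = f.ker := by
      rw [subgroupOf, comap_map_eq_self_of_injective (C z).subtype_injective]
    rw [relIndex, h4, h2]
  have h4 := b.mem_of_relIndex h hy (map_subtype_le _) h3
  obtain ⟨y, hy1, hy2⟩ := h4
  have h5 : y = ⟨x, b.x_mem_C⟩ := Subtype.ext hy2
  rw [h5] at hy1
  exact hf (MonoidHom.mem_ker.mp hy1)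

/-- Every homomorphism from a quotient of `C(z)` to `{±1}` is `1` on the image of `x`. -/
theorem homQ (b : BStart X x z T) (h : Frame X N) (hy : Hyp G) {H : Type*} [Group H]
    (π : ↥(C z) →* H) (f : H →* ℤˣ) : f (π ⟨x, b.x_mem_C⟩) = 1 := b.hom h hy (f.comp π)

end BStart

end Cfsg.Agent.GH.L3S.BOne
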