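import Cfsg.Agent.GH.L3S.SylL
import Cfsg.Agent.GH.L3.TFrame
import Cfsg.Agent.GH.Tops
import Cfsg.Agent.TwoFusion.QDBasic

/-!
# GH-L3, SD case: `World ⇒ TFrame.Frame`
-/

set_option autoImplicit false

open Cfsg Subgroup
open Cfsg.Agent.SignalizersComponents
open Cfsg.Agent.Intrinsic.Basic
open Cfsg.Agent.GH.Defs Cfsg.Agent.GH.Comp Cfsg.Agent.GH.XSet
open Cfsg.Agent.GH.L2Frame (fix mem_fix act act_apply act_of_mem act_eq_one_iff odd_card_ker)
open Cfsg.Agent.GH.L3S.Defs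
open Cfsg.Agent.GH.L3.TFrame (C Ctr Full Outer)
open Cfsg.Agent.Walter.SylowIn

namespace Cfsg.Agent.GH.L3S.WFrame

/-! ### elementary facts -/

/-- Two involutions congruent modulo an odd subgroup `N` are conjugate under `N`. -/
theorem conj_of_odd {G : Type*} [Group G] {N : Subgroup G} (hN : Odd (Nat.card N)) {x y : G}
    (hx : x * x = 1) (hy : y * y = 1) (hxy : y * x ∈ N) : ∃ r ∈ N, r * x * r⁻¹ = y := by
  obtain ⟨m, hm⟩ : Odd (orderOf (y * x)) := Odd.of_dvd_nat hN (Subgroup.orderOf_dvd_natCard N hxy)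
  have hx' : x⁻¹ = x := inv_eq_of_mul_eq_one_right hx
  have hy' : y⁻¹ = y := inv_eq_of_mul_eq_one_right hy
  have hpow : ∀ k : ℕ, x * ((y * x) ^ k)⁻¹ = (y * x) ^ k * x := by
    intro k
    induction k with
    | zero => simp
    | succ k ih =>
      rw [pow_succ', mul_inv_rev, ← mul_assoc, ih, mul_inv_rev, hx', hy']
      have h1 : (y * x) ^ k * x * (x * y) = (y * x) ^ k * (x * x) * y := by group
      rw [h1, hx, mul_one]
      have h2 : y * x * (y * x) ^ k * x = (y * x) ^ k * (y * x) * x := by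
        rw [← pow_succ', ← pow_succ]
      rw [h2]
      have h3 : (y * x) ^ k * (y * x) * x = (y * x) ^ k * y * (x * x) := by group
      rw [h3, hx, mul_one]
  refine ⟨(y * x) ^ (m + 1), N.pow_mem hxy _, ?_⟩
  rw [mul_assoc, hpow, ← mul_assoc, ← pow_add]
  have h1 : m + 1 + (m + 1) = orderOf (y * x) + 1 := by omega
  rw [h1, pow_succ, pow_orderOf_eq_one, one_mul, mul_assoc, hx, mul_one]

/-- Facts on the quasi-dihedral group of order 16. -/
theorem sd_facts {S : Type*} [Group S] [Finite S] (h : IsQuasiDihedral S) (hc : Nat.card S = 16) :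
    ∃ z : S, orderOf z = 2 ∧ (∀ s, z * s = s * z) ∧ (∀ a, (∀ s, a * s = s * a) → a = 1 ∨ a = z) ∧
      (∃ a b : S, a * b ≠ b * a) ∧ ∃ b : S, orderOf b = 2 ∧ b ≠ z := by
  obtain ⟨u, y, H⟩ := TwoFusion.QDBasic.exists_qdcoord' h 3 (by rw [hc]; norm_num)
  have d1 : ∀ a : ZMod (2 ^ 3), ((2 : ZMod (2 ^ 3)) ^ (3 - 1) - 1) * a = a → a = 0 ∨ a = 4 := by
    decide
  have d2 : ∀ a : ZMod (2 ^ 3), a + ((2 : ZMod (2 ^ 3)) ^ (3 - 1) - 1) * 1 ≠ 1 + a := by decide
  have e1 : u 4 * u 4 = 1 := by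
    rw [H.u_mul, ← H.u_zero]
    congr 1
  have e2 : u 4 ≠ 1 := by
    rw [← H.u_zero]
    intro h1
    exact absurd (H.u_inj _ _ h1) (by decide)
  have e3 : y ≠ 1 := by
    intro h1
    apply H.u_ne 0 0
    rw [h1, mul_one]
  have e4 : y ≠ u 4 := by
    intro h1
    apply H.u_ne 4 0
    rw [H.u_zero, one_mul, h1]
  refine ⟨u 4, orderOf_eq_prime (by rw [pow_two, e1]) e2, ?_, ?_, ⟨y, u 1, ?_⟩,
    y, orderOf_eq_prime (by rw [pow_two, H.y_y]) e3, e4⟩
  · intro s
    rcases H.cases s with ⟨a, rfl⟩ | ⟨a, rfl⟩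
    · rw [H.u_mul, H.u_mul, add_comm]
    · have h1 : ∀ a : ZMod (2 ^ 3), 4 + a = a + ((2 : ZMod (2 ^ 3)) ^ (3 - 1) - 1) * 4 := by decide
      rw [H.u_mul_uy, H.uy_mul_u, h1 a]
  · intro s hs
    rcases H.cases s with ⟨a, rfl⟩ | ⟨a, rfl⟩
    · have h1 := hs y
      rw [H.y_u] at h1
      have h2 := H.u_inj _ _ (mul_right_cancel h1)
      rcases d1 a h2.symm with rfl | rfl
      · exact Or.inl H.u_zero
      · exact Or.inr rfl
    · have h1 := hs (u 1)
      rw [H.uy_mul_u, H.u_mul_uy] at h1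
      exact absurd (H.u_inj _ _ (mul_right_cancel h1)) (d2 a)
  · intro h1
    rw [H.y_u] at h1
    exact absurd (H.u_inj _ _ (mul_right_cancel h1)) (by decide)

/-! ### `T` Sylow in `C(y)` -/

variable {G : Type*} [Group G] [Finite G] {X : Set G} {N : ℕ}

theorem frame (h : World X N) {y : G} (hy : y ∈ X) {T : Subgroup G} (hT : SylIn 2 T (C y)) :
    L2Frame.Frame (C y) (KK y) T :=
  ⟨h.comp y hy, h.odd y hy, fun _ ht => h.toXBase.mem_normalizer hy
    (mem_centralizer_singleton_iff.1 (hT.le ht)), hT⟩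

theorem exists_inv (h : World X N) {y : G} (hy : y ∈ X) : ∃ x : STop (KK y), orderOf x = 2 := by
  have : Fact (Nat.Prime 2) := ⟨Nat.prime_two⟩
  exact exists_prime_orderOf_dvd_card' 2 (Tops.even_top (h.comp y hy))

/-- `P = T ⊓ KK y` is isomorphic to a Sylow 2-subgroup of `L`. -/
theorem P_facts (h : World X N) {y : G} (hy : y ∈ X) {T : Subgroup G}
    (F : L2Frame.Frame (C y) (KK y) T) :
    IsQuasiDihedral ↥(T ⊓ KK y : Subgroup G) ∧ Nat.card ↥(T ⊓ KK y : Subgroup G) = 16 := by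
  obtain ⟨S, hS⟩ := F.exists_sylow
  obtain ⟨h1, h2⟩ := SylL.sylow (h.sdf y hy) (exists_inv h hy) S
  let e : ↥(T ⊓ KK y : Subgroup G) ≃* ↥(S : Subgroup (STop (KK y))) :=
    (MonoidHom.ofInjective F.dTop_injective).trans (MulEquiv.subgroupCongr hS.symm)
  exact ⟨TwoFusion.SylowTypeTransfer.isQuasiDihedral_of_mulEquiv e.symm h1, by
    rw [← h2]; exact Nat.card_congr e.toEquiv⟩

/-- `z ∈ Z(P)`, all the facts on `P`. -/
theorem exists_ctr (h : World X N) {y : G} (hy : y ∈ X) {T : Subgroup G}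
    (F : L2Frame.Frame (C y) (KK y) T) : ∃ z, Ctr y T z := by
  obtain ⟨h1, h2⟩ := P_facts h hy F
  obtain ⟨z, hz, hc, hu, ⟨a, b, hab⟩, c, hc2, hcz⟩ := sd_facts h1 h2
  have huniq : ∀ a ∈ T ⊓ KK y, (∀ p ∈ T ⊓ KK y, Commute a p) → a = 1 ∨ a = z := by
    intro a ha hac
    rcases hu ⟨a, ha⟩ (fun s => Subtype.ext (hac s s.2)) with h3 | h3
    · exact Or.inl (congrArg Subtype.val h3)
    · exact Or.inr (congrArg Subtype.val h3)
  refine ⟨z, z.2, by rw [orderOf_coe, hz], ?_, huniq, ⟨a, a.2, b, b.2, fun h3 => hab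
    (Subtype.ext h3)⟩, c, c.2, by rw [orderOf_coe, hc2], fun h3 => hcz (Subtype.ext h3)⟩
  intro t ht
  have h3 : t * z * t⁻¹ ∈ T ⊓ KK y := F.conj_mem_D ht z.2
  have h4 : ∀ p ∈ T ⊓ KK y, Commute (t * z * t⁻¹) p := by
    intro p hp
    have h5 : t⁻¹ * p * t ∈ T ⊓ KK y := by
      have := F.conj_mem_D (T.inv_mem ht) hp
      rwa [inv_inv] at this
    have h6 : (z : G) * (t⁻¹ * p * t) = (t⁻¹ * p * t) * z := congrArg Subtype.val (hc ⟨_, h5⟩)
    change t * z * t⁻¹ * p = p * (t * z * t⁻¹)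
    calc t * z * t⁻¹ * p = t * (z * (t⁻¹ * p * t)) * t⁻¹ := by group
      _ = p * (t * z * t⁻¹) := by rw [h6]; group
  rcases huniq _ h3 h4 with h5 | h5
  · exfalso
    have h6 : (z : G) = 1 := by
      have : t * z * t⁻¹ = 1 := h5
      rw [mul_inv_eq_one, mul_eq_left] at this
      exact this
    rw [show z = 1 from Subtype.ext h6, orderOf_one] at hz
    exact absurd hz (by norm_num)
  · exact mul_inv_eq_iff_eq_mul.1 h5

/-- `C_T(P) = Q × ⟨z⟩` -/
theorem cent_full (h : World X N) {y : G} (hy : y ∈ X) {T : Subgroup G}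
    (F : L2Frame.Frame (C y) (KK y) T) {z : G} (hz : Ctr y T z) {t : G} (ht : t ∈ T)
    (hc : ∀ p ∈ T ⊓ KK y, Commute t p) : Fixes t (KK y) ∨ Fixes (t * z) (KK y) := by
  obtain ⟨S, hS⟩ := F.exists_sylow
  have hmem : ∀ s, s ∈ S ↔ ∃ d, F.dTop d = s := fun s => by
    have : s ∈ (S : Subgroup (STop (KK y))) ↔ s ∈ F.dTop.range := by rw [hS]
    exact this
  rcases SylL.aut_sylow (h.sdf y hy) (exists_inv h hy) S (α := F.rho ⟨t, ht⟩) (by
    intro s hs
    obtain ⟨d, rfl⟩ := (hmem s).1 hs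
    exact (F.comm_iff ⟨t, ht⟩ d).1 (hc d d.2)) with h1 | ⟨l, hl, hl2, hlc, h1⟩
  · exact Or.inl (mem_fix.1 ((F.rho_eq_one_iff ⟨t, ht⟩).1 h1))
  · right
    obtain ⟨d, rfl⟩ := (hmem l).1 hl
    have h2 : (d : G) = 1 ∨ (d : G) = z := by
      refine hz.uniq d d.2 fun p hp => ?_
      have h3 := hlc (F.dTop ⟨p, hp⟩) ((hmem _).2 ⟨_, rfl⟩)
      rw [← map_mul, ← map_mul] at h3
      exact congrArg Subtype.val (F.dTop_injective h3)
    have h3 : (d : G) = z := by
      refine h2.resolve_left fun h3 => ?_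
      rw [show d = 1 from Subtype.ext h3, map_one, orderOf_one] at hl2
      exact absurd hl2 (by norm_num)
    have h4 : F.rho (⟨t, ht⟩ * ⟨z, hz.mem.1⟩) = 1 := by
      have h5 : (⟨z, hz.mem.1⟩ : T) = ⟨d, d.2.1⟩ := Subtype.ext h3.symm
      rw [map_mul, h1, h5, F.rho_of_mem, ← map_mul, ← map_mul]
      have h6 : d * d = 1 := Subtype.ext (by
        change (d : G) * d = 1
        rw [h3]
        exact hz.sq)
      rw [h6, map_one, map_one]
    exact mem_fix.1 ((F.rho_eq_one_iff _).1 h4)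

/-- `|T' : Q'P| ≤ 2` -/
theorem index_le (h : World X N) {y : G} (hy : y ∈ X) {T : Subgroup G}
    (F : L2Frame.Frame (C y) (KK y) T) {T' : Subgroup G} (hT' : T' ≤ T) (hP : T ⊓ KK y ≤ T') :
    Nat.card T' ≤ 32 * Nat.card ↥(T' ⊓ fixer (KK y) : Subgroup G) := by
  -- the elements acting as inner automorphisms
  let R : Subgroup (MulAut (STop (KK y))) := (MulAut.conj : STop (KK y) →* _).range
  let A : Subgroup T' := R.comap (F.rho.comp (inclusion hT'))
  have hA : ∀ t : T', t ∈ A ↔ Inn (F.rho (inclusion hT' t)) := by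
    intro t
    constructor
    · rintro ⟨l, hl⟩
      exact ⟨l, hl.symm⟩
    · rintro ⟨l, hl⟩
      exact ⟨l, hl.symm⟩
  have h1 : Nat.card A ≤ Nat.card ↥(T' ⊓ fixer (KK y) : Subgroup G) * 16 := by
    rw [← (P_facts h hy F).2, ← Nat.card_prod]
    have hmul : ∀ (q : ↥(T' ⊓ fixer (KK y) : Subgroup G)) (p : ↥(T ⊓ KK y : Subgroup G)),
        (q : G) * p ∈ T' := fun q p => mul_mem q.2.1 (hP p.2)
    refine Nat.card_le_card_of_surjective (fun x : ↥(T' ⊓ fixer (KK y) : Subgroup G) ×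
      ↥(T ⊓ KK y : Subgroup G) => (⟨⟨(x.1 : G) * x.2, hmul x.1 x.2⟩, ?_⟩ : A)) ?_
    · rw [hA]
      refine ⟨F.dTop x.2, ?_⟩
      have h2 : inclusion hT' ⟨(x.1 : G) * x.2, hmul x.1 x.2⟩ =
          ⟨(x.1 : G), hT' x.1.2.1⟩ * ⟨(x.2 : G), x.2.2.1⟩ := rfl
      have h3 : F.rho ⟨(x.1 : G), hT' x.1.2.1⟩ = 1 :=
        (F.rho_eq_one_iff _).2 (mem_fix.2 x.1.2.2)
      rw [h2, map_mul, h3, one_mul, F.rho_of_mem]
    · rintro ⟨⟨t, ht⟩, htA⟩
      obtain ⟨l, hl⟩ := (hA _).1 htA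
      obtain ⟨q, hq, a, hta, -⟩ := F.exists_mul hl
      have hta' : t = q * a := hta
      have hq' : q ∈ T' := by
        have h3 : q = t * (a : G)⁻¹ := by rw [hta']; group
        rw [h3]
        exact mul_mem ht (inv_mem (hP a.2))
      refine ⟨(⟨q, hq', mem_fix.1 hq.2⟩, a), ?_⟩
      apply Subtype.ext
      apply Subtype.ext
      exact hta'.symm
  have h2 : Nat.card T' ≤ 2 * Nat.card A := by
    by_cases hcon : ∃ t₀ : T', t₀ ∉ A
    · obtain ⟨t₀, ht₀⟩ := hcon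
      have h3 : A.index = 2 := by
        rw [Subgroup.index_eq_two_iff]
        refine ⟨t₀, fun b => ?_⟩
        by_cases hb : b ∈ A
        · right
          refine ⟨hb, fun h4 => ht₀ ?_⟩
          have := mul_mem (inv_mem hb) h4
          rwa [inv_mul_cancel_left] at this
        · left
          refine ⟨?_, hb⟩
          rw [hA] at hb ht₀ ⊢
          have h4 := (h.sdf y hy).out _ _ hb ht₀
          rwa [← map_mul, ← map_mul] at h4
      rw [← A.card_mul_index, h3, mul_comm]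
    · push Not at hcon
      have h3 : A = ⊤ := by rw [eq_top_iff]; exact fun t _ => hcon t
      rw [h3, Subgroup.card_top]
      omega
  omega

/-! ### pairs -/

omit [Finite G] in
theorem act_sq {K : Subgroup G} {u : G} (hu : u ∈ normalizer (K : Set G)) (h2 : u * u = 1) :
    act K ⟨u, hu⟩ * act K ⟨u, hu⟩ = 1 := by
  rw [← map_mul]
  have : (⟨u, hu⟩ : normalizer (K : Set G)) * ⟨u, hu⟩ = 1 := Subtype.ext h2
  rw [this, map_one]

omit [Finite G] in
theorem act_mul {K : Subgroup G} {u v : G} (hu : u ∈ normalizer (K : Set G))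
    (hv : v ∈ normalizer (K : Set G)) :
    act K ⟨u * v, mul_mem hu hv⟩ = act K ⟨u, hu⟩ * act K ⟨v, hv⟩ := by
  rw [← map_mul]
  rfl

omit [Finite G] in
theorem act_congr {K : Subgroup G} {u v : G} (hu : u ∈ normalizer (K : Set G)) (huv : u = v) :
    act K ⟨u, hu⟩ = act K ⟨v, huv ▸ hu⟩ := by
  subst huv
  rfl

/-- `C_K(u) → Fix u` -/
def fixMap (K : Subgroup G) {u : G} (hu : u ∈ normalizer (K : Set G)) :
    ↥(K ⊓ C u : Subgroup G) →* ↥(Fix (act K ⟨u, hu⟩)) where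
  toFun k := ⟨topMap K ⟨k, k.2.1⟩, by
    change act K ⟨u, hu⟩ (topMap K ⟨k, k.2.1⟩) = _
    rw [act_apply]
    congr 1
    apply Subtype.ext
    change u * (k : G) * u⁻¹ = k
    rw [mul_inv_eq_iff_eq_mul]
    exact (mem_centralizer_singleton_iff.1 k.2.2).symm⟩
  map_one' := by
    apply Subtype.ext
    exact map_one (topMap K)
  map_mul' a b := by
    apply Subtype.ext
    exact map_mul (topMap K) ⟨a, a.2.1⟩ ⟨b, b.2.1⟩

theorem fixMap_surjective {K : Subgroup G} (hodd : ¬ EvenCenter K) {u : G}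
    (hu : u ∈ normalizer (K : Set G)) (h2 : u * u = 1) : Function.Surjective (fixMap K hu) := by
  rintro ⟨l, hl⟩
  have hz : ∀ p ∈ zpowers u, p = 1 ∨ p = u := by
    rintro p ⟨k, rfl⟩
    rcases Int.even_or_odd' k with ⟨m, rfl | rfl⟩
    · left
      change u ^ (2 * m) = 1
      rw [zpow_mul, zpow_two, h2, one_zpow]
    · right
      change u ^ (2 * m + 1) = u
      rw [zpow_add, zpow_mul, zpow_two, h2, one_zpow, one_mul, zpow_one]
  obtain ⟨k, hk, hkl⟩ := L2Frame.exists_fixed hodd (P := zpowers u) (l := l) (by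
      rintro ⟨p, hp⟩
      refine ⟨1, Subtype.ext ?_⟩
      rcases hz p hp with rfl | rfl
      · simp
      · change p ^ 2 ^ 1 = 1
        rw [pow_one, pow_two, h2]) (by rw [zpowers_le]; exact hu) (by
      intro p hp
      rcases hz p hp with h1 | rfl
      · have : (⟨p, (by rw [h1]; exact one_mem _)⟩ : normalizer (K : Set G)) = 1 := Subtype.ext h1
        rw [this, map_one]
        rfl
      · exact hl)
  exact ⟨⟨k, k.2, mem_centralizer_singleton_iff.2 (hk u (mem_zpowers u)).symm⟩, Subtype.ext hkl⟩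

/-- `y ∈ X`, `u` an involution of `C(y)`, `T` Sylow in `C(y) ∩ C(u)`. -/
structure PairD (X : Set G) (y u : G) (T : Subgroup G) : Prop where
  hy : y ∈ X
  sq : u * u = 1
  comm : Commute u y
  syl : SylIn 2 T (C y ⊓ C u)

namespace PairD

variable {y u : G} {T : Subgroup G}

theorem norm (h : World X N) (d : PairD X y u T) : u ∈ normalizer (KK y : Set G) :=
  h.toXBase.mem_normalizer d.hy d.comm

omit [Finite G] in
theorem commute (d : PairD X y u T) {t : G} (ht : t ∈ T) : Commute t u :=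
  mem_centralizer_singleton_iff.1 (d.syl.le ht).2

/-- The Sylow 2-subgroup `D` of `Fix u`. -/
theorem exists_D (h : World X N) (d : PairD X y u T) :
    ∃ D : Sylow 2 ↥(Fix (act (KK y) ⟨u, d.norm h⟩)), ∀ x, x ∈ D ↔
      ∃ k, ∃ hk : k ∈ T ⊓ KK y, topMap (KK y) ⟨k, hk.2⟩ = x := by
  have : Fact (Nat.Prime 2) := ⟨Nat.prime_two⟩
  have hMH : KK y ⊓ C u ≤ C y ⊓ C u := inf_le_inf_right _ (h.comp y d.hy).le
  have hn : C y ⊓ C u ≤ normalizer ((KK y ⊓ C u : Subgroup G) : Set G) := by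
    intro g hg
    have h1 := h.toXBase.mem_normalizer d.hy (mem_centralizer_singleton_iff.1 hg.1)
    rw [mem_normalizer_iff] at h1 ⊢
    intro k
    constructor
    · rintro ⟨hk1, hk2⟩
      exact ⟨(h1 k).1 hk1, (C u).mul_mem ((C u).mul_mem hg.2 hk2) ((C u).inv_mem hg.2)⟩
    · rintro ⟨hk1, hk2⟩
      refine ⟨(h1 k).2 hk1, ?_⟩
      have h3 := (C u).mul_mem ((C u).mul_mem ((C u).inv_mem hg.2) hk2) hg.2
      have h4 : g⁻¹ * (g * k * g⁻¹) * g = k := by group
      rwa [h4] at h3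
  obtain ⟨Q, hQ⟩ := d.syl.inf hMH hn
  refine ⟨Q.mapSurjective (fixMap_surjective (h.odd y d.hy) (d.norm h) d.sq), fun x => ?_⟩
  have hQm : ∀ k : ↥(KK y ⊓ C u : Subgroup G), k ∈ (Q : Subgroup _) ↔ (k : G) ∈ T ⊓ KK y := by
    intro k
    constructor
    · intro hk
      have h1 : (k : G) ∈ T ⊓ (KK y ⊓ C u) := by
        rw [← hQ]
        exact ⟨k, hk, rfl⟩
      exact ⟨h1.1, h1.2.1⟩
    · intro hk
      have h1 : (k : G) ∈ T ⊓ (KK y ⊓ C u) := ⟨hk.1, k.2⟩
      rw [← hQ] at h1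
      obtain ⟨k', hk', h2⟩ := h1
      rwa [← Subtype.ext h2]
  constructor
  · intro hx
    have hx' : x ∈ (Q : Subgroup _).map (fixMap (KK y) (d.norm h)) := hx
    obtain ⟨k, hk, rfl⟩ := hx'
    exact ⟨k, (hQm k).1 hk, rfl⟩
  · rintro ⟨k, hk, hkx⟩
    have hx' : x ∈ (Q : Subgroup _).map (fixMap (KK y) (d.norm h)) := by
      refine ⟨⟨k, hk.2, (d.syl.le hk.1).2⟩, (hQm _).2 hk, ?_⟩
      exact Subtype.ext hkx
    exact hx'

/-- A Sylow 2-subgroup `T₁` of `C(y)` over `T`. -/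
theorem exists_frame (h : World X N) (d : PairD X y u T) :
    ∃ T₁, L2Frame.Frame (C y) (KK y) T₁ ∧ T ≤ T₁ := by
  have : Fact (Nat.Prime 2) := ⟨Nat.prime_two⟩
  obtain ⟨T₁, hT₁, hle⟩ := exists_sylIn_ge (d.syl.le.trans inf_le_left) d.syl.isPGroup
  exact ⟨T₁, frame h d.hy hT₁, hle⟩

omit [Finite G] in
theorem u_mem (d : PairD X y u T) : u ∈ T := by
  have : Fact (Nat.Prime 2) := ⟨Nat.prime_two⟩
  have h1 : IsPGroup 2 ↥(zpowers u ⊔ T) := by
    refine IsPGroup.to_sup_of_normal_right' ?_ d.syl.isPGroup ?_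
    · rintro ⟨p, k, rfl⟩
      refine ⟨1, Subtype.ext ?_⟩
      change (u ^ k) ^ 2 ^ 1 = 1
      rw [pow_one, ← zpow_natCast, ← zpow_mul, mul_comm, zpow_mul, zpow_natCast, pow_two, d.sq,
        one_zpow]
    · rw [zpowers_le, mem_normalizer_iff]
      intro t
      have h2 : ∀ t ∈ T, u * t * u⁻¹ = t := fun t ht => by
        rw [mul_inv_eq_iff_eq_mul]; exact (d.commute ht).symm
      constructor
      · intro ht
        rwa [h2 t ht]
      · intro ht
        have h3 := h2 _ ht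
        have h4 : u * t * u⁻¹ = t := by
          have h5 : u * (u * t * u⁻¹) * u⁻¹ = (u * u) * t * (u * u)⁻¹ := by group
          rw [h5, d.sq] at h3
          rw [← h3]
          group
        rwa [h4] at ht
  have h2 : zpowers u ⊔ T ≤ C y ⊓ C u := by
    refine sup_le ?_ d.syl.le
    rw [zpowers_le]
    exact ⟨mem_centralizer_singleton_iff.2 d.comm, mem_centralizer_singleton_iff.2 rfl⟩
  have h3 := d.syl.eq_of_le le_sup_right h2 h1
  rw [← h3]
  exact mem_sup_left (mem_zpowers u)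

theorem card_eq (h : World X N) (d : PairD X y u T) {T₁ : Subgroup G}
    (F : L2Frame.Frame (C y) (KK y) T₁) (hle : T ≤ T₁)
    {D : Sylow 2 ↥(Fix (act (KK y) ⟨u, d.norm h⟩))} (hD : ∀ x, x ∈ D ↔
      ∃ k, ∃ hk : k ∈ T ⊓ KK y, topMap (KK y) ⟨k, hk.2⟩ = x) :
    Nat.card ↥(T ⊓ KK y : Subgroup G) = Nat.card ↥(D : Subgroup ↥(Fix (act (KK y) ⟨u, d.norm h⟩))) := by
  refine Nat.card_congr (Equiv.ofBijective (fun k : ↥(T ⊓ KK y : Subgroup G) =>
    (⟨fixMap (KK y) (d.norm h) ⟨k, k.2.2, (d.syl.le k.2.1).2⟩, (hD _).2 ⟨k, k.2, rfl⟩⟩ :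
      ↥(D : Subgroup ↥(Fix (act (KK y) ⟨u, d.norm h⟩))))) ⟨?_, ?_⟩)
  · intro a b hab
    have h1 := congrArg (fun x : ↥(D : Subgroup ↥(Fix (act (KK y) ⟨u, d.norm h⟩))) =>
      ((x : ↥(Fix (act (KK y) ⟨u, d.norm h⟩))) : STop (KK y))) hab
    exact Subtype.ext (F.eq_of_top_eq ⟨hle a.2.1, a.2.2⟩ ⟨hle b.2.1, b.2.2⟩ h1)
  · rintro ⟨x, hx⟩
    obtain ⟨k, hk, hkx⟩ := (hD x).1 hx
    exact ⟨⟨k, hk⟩, Subtype.ext (Subtype.ext hkx)⟩

/-- Inner case -/
theorem inner (h : World X N) (d : PairD X y u T) (hf : ¬ Fixes u (KK y))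
    (hi : Inn (act (KK y) ⟨u, d.norm h⟩)) : ∃ z, Full y T z ∧ Fixes (u * z) (KK y) := by
  obtain ⟨T₁, F, hle⟩ := d.exists_frame h
  obtain ⟨D, hD⟩ := d.exists_D h
  obtain ⟨l, hl⟩ := hi
  have hα1 : act (KK y) ⟨u, d.norm h⟩ ≠ 1 := fun h1 => hf
    ((act_eq_one_iff (Comp.quasisimple (h.comp y d.hy)) (d.norm h)).1 h1)
  have hl1 : l ≠ 1 := by
    rintro rfl
    exact hα1 (by rw [hl, map_one])
  have hl2 : l * l = 1 := by
    apply L2Frame.conj_injective (h.comp y d.hy)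
    rw [map_mul, ← hl, act_sq (d.norm h) d.sq, map_one]
  have hfix : Fix (act (KK y) ⟨u, d.norm h⟩) = centralizer ({l} : Set (STop (KK y))) := by
    ext x
    rw [mem_centralizer_singleton_iff]
    change act (KK y) ⟨u, d.norm h⟩ x = x ↔ _
    rw [hl, MulAut.conj_apply, mul_inv_eq_iff_eq_mul]
    exact eq_comm
  obtain ⟨e⟩ := (h.sdf y d.hy).gl l (orderOf_eq_prime (by rw [pow_two, hl2]) hl1)
  have hc16 : Nat.card ↥(D : Subgroup ↥(Fix (act (KK y) ⟨u, d.norm h⟩))) = 16 :=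
    (Models.gl_sylow ((MulEquiv.subgroupCongr hfix).trans e) D).2
  have h1 := d.card_eq h F hle hD
  have h2 : T ⊓ KK y = T₁ ⊓ KK y := by
    refine Subgroup.eq_of_le_of_card_ge (inf_le_inf_right _ hle) ?_
    rw [h1, hc16, (P_facts h d.hy F).2]
  obtain ⟨z, hz⟩ := exists_ctr h d.hy F
  have huT : u ∈ T := d.u_mem
  refine ⟨z, ⟨⟨h2 ▸ hz.mem, hz.ord, fun t ht => hz.comm t (hle ht), fun a ha hc => hz.uniq a
    (h2 ▸ ha) (fun p hp => hc p (h2 ▸ hp)), ?_, ?_⟩, ?_, ?_, ?_, ?_⟩, ?_⟩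
  · rw [h2]; exact hz.nonab
  · rw [h2]; exact hz.four
  · rw [h2]; exact (P_facts h d.hy F).1
  · rw [h2]; exact (P_facts h d.hy F).2
  · intro t ht hc
    exact cent_full h d.hy F hz (hle ht) (fun p hp => hc p (h2 ▸ hp))
  · exact index_le h d.hy F hle (by rw [← h2]; exact inf_le_left)
  · have hrho : F.rho ⟨u, hle huT⟩ = MulAut.conj l := hl
    obtain ⟨q, hq, a, hua, hal⟩ := F.exists_mul hrho
    have hua' : u = q * a := hua
    have h3 : (a : G) = 1 ∨ (a : G) = z := by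
      refine hz.uniq a a.2 fun p hp => ?_
      have h4 : Commute q p := F.comm hq hp
      have h5 : Commute u p := (d.commute (t := p) (h2 ▸ hp : p ∈ T ⊓ KK y).1).symm
      have h6 : (a : G) = q⁻¹ * u := by rw [hua']; group
      rw [h6]
      exact (h4.inv_left).mul_left h5
    have h4 : (a : G) = z := by
      refine h3.resolve_left fun h4 => hl1 ?_
      rw [← hal, show a = 1 from Subtype.ext h4, map_one]
    have h5 : u * z = q := by
      rw [hua', h4, mul_assoc, hz.sq, mul_one]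
    rw [h5]
    exact mem_fix.1 hq.2

/-- Outer case -/
theorem outer (h : World X N) (d : PairD X y u T)
    (ho : ¬ Inn (act (KK y) ⟨u, d.norm h⟩)) : ∃ z, Outer y u T z := by
  obtain ⟨T₁, F, hle⟩ := d.exists_frame h
  obtain ⟨D, hD⟩ := d.exists_D h
  have hsdf := h.sdf y d.hy
  have hα2 := act_sq (d.norm h) d.sq
  obtain ⟨hc8, v, hv, hv1, hv2, hvc, hvu, a', ha', b', hb', hab⟩ := SylL.sylow_outer hsdf hα2 ho D
  obtain ⟨c', hc', hc1, hc2, s', hs', hcs⟩ := SylL.sylow_four hsdf hα2 ho D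
  have hinj : ∀ {a b : G} (ha : a ∈ T ⊓ KK y) (hb : b ∈ T ⊓ KK y),
      topMap (KK y) ⟨a, ha.2⟩ = topMap (KK y) ⟨b, hb.2⟩ → a = b := fun ha hb hab =>
    F.eq_of_top_eq ⟨hle ha.1, ha.2⟩ ⟨hle hb.1, hb.2⟩ hab
  have hmul : ∀ {a b : G} (ha : a ∈ T ⊓ KK y) (hb : b ∈ T ⊓ KK y),
      topMap (KK y) ⟨a * b, (mul_mem ha hb).2⟩ =
        topMap (KK y) ⟨a, ha.2⟩ * topMap (KK y) ⟨b, hb.2⟩ := fun ha hb => by
    rw [← map_mul]
    rfl
  have hone : topMap (KK y) ⟨1, one_mem _⟩ = 1 := map_one _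
  obtain ⟨z, hz, hzv⟩ := (hD v).1 hv
  -- `P` and `D`
  have hcomm : ∀ {a b : G} (ha : a ∈ T ⊓ KK y) (hb : b ∈ T ⊓ KK y),
      Commute a b ↔ topMap (KK y) ⟨a, ha.2⟩ * topMap (KK y) ⟨b, hb.2⟩ =
        topMap (KK y) ⟨b, hb.2⟩ * topMap (KK y) ⟨a, ha.2⟩ := by
    intro a b ha hb
    rw [← hmul ha hb, ← hmul hb ha]
    constructor
    · intro h1
      congr 1
      exact Subtype.ext h1
    · intro h1
      exact hinj (mul_mem ha hb) (mul_mem hb ha) h1
  have hz1 : z ≠ 1 := by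
    rintro rfl
    apply hv1
    apply Subtype.ext
    rw [← hzv, hone]
    rfl
  have hz2 : z * z = 1 := by
    refine hinj (mul_mem hz hz) (one_mem _) ?_
    rw [hmul hz hz, hzv, hone]
    exact congrArg Subtype.val hv2
  have huniq : ∀ a ∈ T ⊓ KK y, (∀ p ∈ T ⊓ KK y, Commute a p) → a = 1 ∨ a = z := by
    intro a ha hac
    have h1 : fixMap (KK y) (d.norm h) ⟨a, ha.2, (d.syl.le ha.1).2⟩ ∈ D := (hD _).2 ⟨a, ha, rfl⟩
    rcases hvu _ h1 (by
      intro s hs
      obtain ⟨k, hk, hks⟩ := (hD s).1 hs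
      apply Subtype.ext
      change topMap (KK y) ⟨a, ha.2⟩ * (s : STop (KK y)) = s * topMap (KK y) ⟨a, ha.2⟩
      rw [← hks]
      exact (hcomm ha hk).1 (hac k hk)) with h2 | h2
    · left
      refine hinj ha (one_mem _) ?_
      rw [hone]
      exact congrArg Subtype.val h2
    · right
      refine hinj ha hz ?_
      rw [hzv]
      exact congrArg Subtype.val h2
  have hzc : ∀ p ∈ T ⊓ KK y, Commute z p := by
    intro p hp
    have h1 : fixMap (KK y) (d.norm h) ⟨p, hp.2, (d.syl.le hp.1).2⟩ ∈ D := (hD _).2 ⟨p, hp, rfl⟩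
    rw [hcomm hz hp, hzv]
    exact congrArg Subtype.val (hvc _ h1)
  have hTn : ∀ {t k : G}, t ∈ T → k ∈ T ⊓ KK y → t * k * t⁻¹ ∈ T ⊓ KK y := by
    intro t k ht hk
    exact ⟨T.mul_mem (T.mul_mem ht hk.1) (T.inv_mem ht),
      (F.conj_mem_D (hle ht) ⟨hle hk.1, hk.2⟩).2⟩
  refine ⟨z, ⟨⟨hz, orderOf_eq_prime (by rw [pow_two, hz2]) hz1, ?_, huniq, ?_, ?_⟩, ?_, ?_, ?_, ?_⟩⟩
  · intro t ht
    have h3 := hTn ht hz
    have h4 : ∀ p ∈ T ⊓ KK y, Commute (t * z * t⁻¹) p := by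
      intro p hp
      have h5 : t⁻¹ * p * t ∈ T ⊓ KK y := by
        have := hTn (T.inv_mem ht) hp
        rwa [inv_inv] at this
      have h6 : z * (t⁻¹ * p * t) = (t⁻¹ * p * t) * z := hzc _ h5
      change t * z * t⁻¹ * p = p * (t * z * t⁻¹)
      calc t * z * t⁻¹ * p = t * (z * (t⁻¹ * p * t)) * t⁻¹ := by group
        _ = p * (t * z * t⁻¹) := by rw [h6]; group
    rcases huniq _ h3 h4 with h5 | h5
    · exfalso
      apply hz1
      rw [mul_inv_eq_one, mul_eq_left] at h5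
      exact h5
    · exact mul_inv_eq_iff_eq_mul.1 h5
  · obtain ⟨a, ha, haa⟩ := (hD a').1 ha'
    obtain ⟨b, hb, hbb⟩ := (hD b').1 hb'
    refine ⟨a, ha, b, hb, fun h1 => hab ?_⟩
    apply Subtype.ext
    change (a' : STop (KK y)) * b' = b' * a'
    rw [← haa, ← hbb]
    exact (hcomm ha hb).1 h1
  · obtain ⟨c, hc, hcc⟩ := (hD c').1 hc'
    obtain ⟨s, hs, hss⟩ := (hD s').1 hs'
    refine ⟨c, hc, orderOf_eq_prime ?_ ?_, ?_⟩
    · rw [pow_two]
      refine hinj (mul_mem hc hc) (one_mem _) ?_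
      rw [hmul hc hc, hcc, hone]
      exact congrArg Subtype.val hc2
    · rintro rfl
      apply hc1
      apply Subtype.ext
      rw [← hcc, hone]
      rfl
    · rintro rfl
      apply hcs
      apply Subtype.ext
      change (c' : STop (KK y)) * s' = s' * c'
      rw [← hcc, ← hss]
      exact (hcomm hc hs).1 (hzc s hs)
  · rw [d.card_eq h F hle hD, hc8]
  · intro k hk hfk
    apply ho
    have hkn : k ∈ normalizer (KK y : Set G) := le_normalizer hk
    have h1 : act (KK y) ⟨u * k, mul_mem (d.norm h) hkn⟩ = 1 :=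
      (act_eq_one_iff (Comp.quasisimple (h.comp y d.hy)) _).2 hfk
    rw [act_mul (d.norm h) hkn, act_of_mem ⟨k, hk⟩] at h1
    refine ⟨(topMap (KK y) ⟨k, hk⟩)⁻¹, ?_⟩
    rw [map_inv]
    exact eq_inv_of_mul_eq_one_left h1
  · -- `cent`
    intro t ht hc
    have htn : t ∈ normalizer (KK y : Set G) := F.norm (hle ht)
    have hun := d.norm h
    have hzn : z ∈ normalizer (KK y : Set G) := le_normalizer hz.2
    have hut : act (KK y) ⟨t, htn⟩ * act (KK y) ⟨u, hun⟩ =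
        act (KK y) ⟨u, hun⟩ * act (KK y) ⟨t, htn⟩ := by
      rw [← map_mul, ← map_mul]
      congr 1
      exact Subtype.ext (d.commute ht)
    obtain ⟨w, hw, hwc, hcase⟩ := SylL.aut_outer hsdf hα2 ho D hut (by
      intro s hs
      obtain ⟨k, hk, hks⟩ := (hD s).1 hs
      rw [← hks, act_apply]
      congr 1
      apply Subtype.ext
      change t * k * t⁻¹ = k
      rw [mul_inv_eq_iff_eq_mul]
      exact hc k hk)
    have hqs := Comp.quasisimple (h.comp y d.hy)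
    have hzact : act (KK y) ⟨z, hzn⟩ = MulAut.conj (v : STop (KK y)) := by
      rw [← hzv]
      exact act_of_mem ⟨z, hz.2⟩
    have hvv : MulAut.conj (v : STop (KK y)) * MulAut.conj (v : STop (KK y)) = 1 := by
      rw [← map_mul, show (v : STop (KK y)) * v = 1 from congrArg Subtype.val hv2, map_one]
    rcases hvu w hw hwc with rfl | rfl
    · rcases hcase with h1 | h1
      · left
        rw [← act_eq_one_iff hqs htn, h1]
        exact map_one _
      · right; right; left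
        rw [← act_eq_one_iff hqs (mul_mem htn hun), act_mul htn hun, h1]
        rw [show ((1 : Fix (act (KK y) ⟨u, hun⟩)) : STop (KK y)) = 1 from rfl, map_one, one_mul, hα2]
    · rcases hcase with h1 | h1
      · right; left
        rw [← act_eq_one_iff hqs (mul_mem htn hzn), act_mul htn hzn, h1, hzact, hvv]
      · right; right; right
        rw [← act_eq_one_iff hqs (mul_mem (mul_mem htn hun) hzn), act_mul (mul_mem htn hun) hzn,
          act_mul htn hun, h1, hzact, mul_assoc (MulAut.conj _), hα2, mul_one, hvv]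
  · -- `fus`
    have hun := d.norm h
    have hzn : z ∈ normalizer (KK y : Set G) := le_normalizer hz.2
    have hzact : act (KK y) ⟨z, hzn⟩ = MulAut.conj (v : STop (KK y)) := by
      rw [← hzv]
      exact act_of_mem ⟨z, hz.2⟩
    obtain ⟨l, hl⟩ := SylL.outer_conj hsdf hα2 ho (v := (v : STop (KK y))) v.2
      (congrArg Subtype.val hv2)
    obtain ⟨k, rfl⟩ := topMap_surjective (KK y) l
    have hkn : (k : G) ∈ normalizer (KK y : Set G) := le_normalizer k.2
    have huz : Commute u z := (d.commute hz.1).symm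
    -- `f = (u z) (k u k⁻¹)` is in the kernel
    have hfK : (u * z) * (k * u * (k : G)⁻¹) ∈ KK y := by
      have h1 : (u * z) * (k * u * (k : G)⁻¹) = (u * (z * k) * u⁻¹) * (u * u) * (k : G)⁻¹ := by
        group
      rw [h1, d.sq, mul_one]
      exact mul_mem (L2Frame.conj_mem hun (mul_mem hz.2 k.2)) (inv_mem k.2)
    have hfker : (⟨_, hfK⟩ : KK y) ∈ (topMap (KK y)).ker := by
      rw [L2Frame.mem_ker_iff, mem_fix]
      have hkun : k * u * (k : G)⁻¹ ∈ normalizer (KK y : Set G) :=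
        mul_mem (mul_mem hkn hun) (inv_mem hkn)
      rw [← act_eq_one_iff (Comp.quasisimple (h.comp y d.hy)) (mul_mem (mul_mem hun hzn) hkun),
        act_mul (mul_mem hun hzn) hkun, act_mul hun hzn, hzact]
      have h1 : act (KK y) ⟨k * u * (k : G)⁻¹, hkun⟩ =
          MulAut.conj (topMap (KK y) k) * act (KK y) ⟨u, hun⟩ * (MulAut.conj (topMap (KK y) k))⁻¹ := by
        rw [← act_of_mem k, ← map_inv, ← map_mul, ← map_mul]
        rfl
      rw [h1, ← hl, ← mul_assoc]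
      have h2 : act (KK y) ⟨u, hun⟩ * MulAut.conj (v : STop (KK y)) =
          MulAut.conj (v : STop (KK y)) * act (KK y) ⟨u, hun⟩ := by
        rw [← hzact, ← map_mul, ← map_mul]
        congr 1
        exact Subtype.ext huz
      rw [mul_assoc (act (KK y) ⟨u, hun⟩), ← h2, ← mul_assoc, hα2, one_mul, ← map_mul,
        show (v : STop (KK y)) * v = 1 from congrArg Subtype.val hv2, map_one]
    have hodd : Odd (Nat.card ↥((topMap (KK y)).ker.map (KK y).subtype)) := by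
      rw [card_map_of_injective (KK y).subtype_injective]
      exact odd_card_ker (h.odd y d.hy)
    obtain ⟨r, hr, hru⟩ := conj_of_odd hodd (x := k * u * (k : G)⁻¹) (y := u * z) (by
        have h1 : k * u * (k : G)⁻¹ * (k * u * (k : G)⁻¹) = k * (u * u) * (k : G)⁻¹ := by group
        rw [h1, d.sq, mul_one, mul_inv_cancel]) (by
        calc u * z * (u * z) = u * (z * u) * z := by group
          _ = (u * u) * (z * z) := by rw [← huz.eq]; group
          _ = 1 := by rw [d.sq, hz2, mul_one]) ⟨_, hfker, rfl⟩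
    obtain ⟨r', -, rfl⟩ := hr
    refine ⟨r' * k, mul_mem r'.2 k.2, ?_⟩
    rw [← hru]
    change (r' : G) * k * u * ((r' : G) * k)⁻¹ = r' * (k * u * (k : G)⁻¹) * (r' : G)⁻¹
    group

end PairD

/-! ### the frame -/

theorem conjK (h : World X N) {y : G} (hy : y ∈ X) {a b : G} (ha : a ∈ KK y) (hb : b ∈ KK y)
    (ha2 : orderOf a = 2) (hb2 : orderOf b = 2) : ∃ c ∈ KK y, c * a * c⁻¹ = b := by
  have hsq : ∀ {g : G}, orderOf g = 2 → g * g = 1 := fun hg => by
    rw [← pow_two, ← hg, pow_orderOf_eq_one]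
  have key : ∀ {g : G} (hg : g ∈ KK y), orderOf g = 2 → orderOf (topMap (KK y) ⟨g, hg⟩) = 2 := by
    intro g hg hg2
    refine orderOf_eq_prime ?_ ?_
    · rw [pow_two, ← map_mul]
      have : (⟨g, hg⟩ : KK y) * ⟨g, hg⟩ = 1 := Subtype.ext (hsq hg2)
      rw [this, map_one]
    · intro h1
      have h2 : (⟨g, hg⟩ : KK y) ∈ (topMap (KK y)).ker := h1
      have h3 := (odd_card_ker (h.odd y hy)).of_dvd_nat
        (Subgroup.orderOf_dvd_natCard _ h2)
      rw [Subgroup.orderOf_mk, hg2] at h3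
      exact absurd h3 (by decide)
  obtain ⟨l, hl⟩ := isConj_iff.1 ((h.sdf y hy).conj _ _ (key ha ha2) (key hb hb2))
  obtain ⟨k, rfl⟩ := topMap_surjective (KK y) l
  have hodd : Odd (Nat.card ↥((topMap (KK y)).ker.map (KK y).subtype)) := by
    rw [card_map_of_injective (KK y).subtype_injective]
    exact odd_card_ker (h.odd y hy)
  obtain ⟨r, hr, hru⟩ := conj_of_odd hodd (x := k * a * (k : G)⁻¹) (y := b) (by
      have h1 : k * a * (k : G)⁻¹ * (k * a * (k : G)⁻¹) = k * (a * a) * (k : G)⁻¹ := by group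
      rw [h1, hsq ha2, mul_one, mul_inv_cancel]) (hsq hb2) (by
      refine ⟨⟨b, hb⟩ * (k * ⟨a, ha⟩ * k⁻¹), ?_, rfl⟩
      change topMap (KK y) _ = 1
      rw [map_mul, map_mul, map_mul, map_inv, hl, ← map_mul]
      have : (⟨b, hb⟩ : KK y) * ⟨b, hb⟩ = 1 := Subtype.ext (hsq hb2)
      rw [this, map_one])
  obtain ⟨r', -, rfl⟩ := hr
  refine ⟨r' * k, mul_mem r'.2 k.2, ?_⟩
  rw [← hru]
  change (r' : G) * k * a * ((r' : G) * k)⁻¹ = r' * (k * a * (k : G)⁻¹) * (r' : G)⁻¹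
  group

/-- **Theorem.** A `World` is a `Frame`. -/
theorem toFrame (h : World X N) : L3.TFrame.Frame X N where
  toXSet := h.toXSet
  odd := h.odd
  rank := h.rank
  conjK _ hy _ ha _ hb := conjK h hy ha hb
  full y hy T hT := by
    have F := frame h hy hT
    obtain ⟨z, hz⟩ := exists_ctr h hy F
    exact ⟨z, hz, (P_facts h hy F).1, (P_facts h hy F).2,
      fun t ht hc => cent_full h hy F hz ht hc, index_le h hy F le_rfl inf_le_left⟩
  pair y hy u hu hyu hf T hT := by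
    have d : PairD X y u T := ⟨hy, h.toXBase.sq hu, hyu.symm, hT⟩
    by_cases hi : Inn (act (KK y) ⟨u, d.norm h⟩)
    · obtain ⟨z, hz1, hz2⟩ := d.inner h hf hi
      exact ⟨z, Or.inl ⟨hz1, hz2⟩⟩
    · obtain ⟨z, hz⟩ := d.outer h hi
      exact ⟨z, Or.inr hz⟩

end Cfsg.Agent.GH.L3S.WFrame
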