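import Cfsg.Agent.GH.L3S.HBarMain
import Cfsg.Agent.GH.L3.CaseBEnd

/-!
# GH-L3, SD case B is impossible
-/

set_option autoImplicit false

open Cfsg Subgroup
open Cfsg.Agent.SignalizersComponents Cfsg.Agent.Lib
open Cfsg.Agent.Intrinsic.Basic
open Cfsg.Agent.GH.Defs Cfsg.Agent.GH.Comp Cfsg.Agent.GH.XSet
open Cfsg.Agent.GH.L2Frame Cfsg.Agent.GH.L3S.Defs
open Cfsg.Agent.GH.L3S.HBar Cfsg.Agent.GH.L3.DStr Cfsg.Agent.GH.L3.TFrame
open Cfsg.Agent.GH.L3
open Cfsg.Agent.GH.L3.GLThree (Γ)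

namespace Cfsg.Agent.GH.L3S.CaseBFin

variable {G : Type*} [Group G] [Finite G] {X : Set G} {N : ℕ} {x z : G} {T : Subgroup G}

/-- The input of `HBarE`. -/
theorem toIn (B : BData X N x z T) (hsdf : SDF (STop (KK x))) (hy : Hyp G) (ho : AllOdd G) :
    HBarE.In x z (KK x) where
  comp := B.frame.comp x B.hx
  odd := B.frame.odd x B.hx
  sdf := hsdf
  norm := fun _ hg => B.frame.toXBase.mem_normalizer B.hx (mem_C.1 hg)
  x2 := B.frame.inv x B.hx
  zK := B.full.mem.2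
  z2 := B.full.ord
  layer := (CaseBEnd.toBStart B hy.simple hy.nonComm).pLayer B.frame hy ho
  q2 := by
    intro q hq hf hq2
    obtain ⟨c, hc, hcT⟩ := B.conj_mem_T (mem_C.1 hq) hq2
    have hcN := B.frame.toXBase.mem_normalizer B.hx hc
    have h1 : Fixes (c * q * c⁻¹) (KK x) := mem_fix.1 (conj_mem_fix hcN (mem_fix.2 hf))
    have h2 : q = c⁻¹ * (c * q * c⁻¹) * c := by group
    rcases B.eq_of_fixes hcT h1 with h3 | h3
    · left
      rw [h2, h3]; group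
    · right
      rw [h2, h3, mul_assoc, ← hc.eq, inv_mul_cancel_left]

/-- **CASE B is impossible.** -/
theorem false_of_bdata (B : BData X N x z T) (hsdf : SDF (STop (KK x))) (hy : Hyp G)
    (ho : AllOdd G) : False := by
  have h := toIn B hsdf hy ho
  obtain ⟨j, e, E⟩ := HBarE.exists_emb h
  refine CaseBEnd.false_of_hbar B hy ho (hx := h.xz) (e := e) ⟨?_, E.dstr, ?_⟩
  · exact Nat.coprime_two_right.1 (Lib.Cores.pPrimeCore_coprime (G := ↥(C z)) 2)
  · intro g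
    obtain ⟨k, hk, -, he⟩ := E.exists_k g
    exact ⟨⟨k, hk⟩, k.2, he.symm⟩

end Cfsg.Agent.GH.L3S.CaseBFin
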