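import Cfsg.Agent.GH.L3S.Defs
import Cfsg.Agent.TwoFusion.PSL3Inv
import Cfsg.Agent.ClassicalGeometry.AutPSL.Main

/-!
# GH-L3, SD case: `PSL₃(3)` satisfies `SDF`
-/

set_option autoImplicit false

open Matrix Subgroup
open Cfsg.Agent.GH.L3S.Defs
open Cfsg.Agent.TwoFusion.PSL3Inv
open Cfsg.Agent.ClassicalGeometry.AutPSL.Root
open Cfsg.Agent.ClassicalGeometry.AutPSL.Auto

namespace Cfsg.Agent.GH.L3S.ModelL33

/-! ### transport -/

section transport

variable {L L' : Type*} [Group L] [Group L']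

theorem congr_apply' (e : L ≃* L') (α : MulAut L) (y : L') :
    MulAut.congr e α y = e (α (e.symm y)) := rfl

theorem congr_conj (e : L ≃* L') (l : L) : MulAut.congr e (MulAut.conj l) = MulAut.conj (e l) := by
  apply MulEquiv.ext
  intro y
  rw [congr_apply', MulAut.conj_apply, MulAut.conj_apply, map_mul, map_mul, map_inv,
    e.apply_symm_apply]

theorem inn_congr (e : L ≃* L') (α : MulAut L) : Inn (MulAut.congr e α) ↔ Inn α := by
  constructor
  · rintro ⟨l, hl⟩
    refine ⟨e.symm l, ?_⟩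
    apply (MulAut.congr e).injective
    rw [hl, congr_conj, e.apply_symm_apply]
  · rintro ⟨l, rfl⟩
    exact ⟨e l, congr_conj e l⟩

theorem SDF.of_equiv (e : L ≃* L') (h : SDF L') : SDF L where
  conj x y hx hy := by
    have h1 := h.conj (e x) (e y) (by rwa [MulEquiv.orderOf_eq]) (by rwa [MulEquiv.orderOf_eq])
    have h2 := (e.symm : L' →* L).map_isConj h1
    simpa using h2
  gl x hx := by
    obtain ⟨f⟩ := h.gl (e x) (by rwa [MulEquiv.orderOf_eq])
    refine ⟨MulEquiv.trans ?_ f⟩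
    refine (e.subgroupMap (centralizer ({x} : Set L))).trans (MulEquiv.subgroupCongr ?_)
    ext y
    rw [mem_centralizer_singleton_iff]
    constructor
    · rintro ⟨w, hw, rfl⟩
      have hw' := mem_centralizer_singleton_iff.mp hw
      change e w * e x = e x * e w
      rw [← map_mul, hw', map_mul]
    · intro hy
      refine ⟨e.symm y, ?_, e.apply_symm_apply y⟩
      apply mem_centralizer_singleton_iff.mpr
      apply e.injective
      rw [map_mul, map_mul, e.apply_symm_apply, hy]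
  cent x hx α hα := by
    have h1 := h.cent (e x) (by rwa [MulEquiv.orderOf_eq]) (MulAut.congr e α) (fun y hy => by
      rw [congr_apply', hα, e.apply_symm_apply]
      apply e.injective
      rw [map_mul, map_mul, e.apply_symm_apply, hy])
    rcases h1 with h1 | h1
    · left
      apply (MulAut.congr e).injective
      rw [h1, map_one]
    · right
      apply (MulAut.congr e).injective
      rw [h1, congr_conj]
  out α β hα hβ := by
    rw [← inn_congr e, map_mul]
    exact h.out _ _ (by rwa [inn_congr]) (by rwa [inn_congr])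
  s4 α hα hn := by
    obtain ⟨f⟩ := h.s4 (MulAut.congr e α) (by rw [← map_mul, hα, map_one]) (by rwa [inn_congr])
    refine ⟨MulEquiv.trans ?_ f⟩
    refine (e.subgroupMap (Fix α)).trans (MulEquiv.subgroupCongr ?_)
    ext y
    constructor
    · rintro ⟨w, hw, rfl⟩
      change e (α (e.symm (e w))) = e w
      rw [e.symm_apply_apply, show α w = w from hw]
    · intro hy
      refine ⟨e.symm y, ?_, e.apply_symm_apply y⟩
      change α (e.symm y) = e.symm y
      apply e.injective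
      rw [e.apply_symm_apply]
      exact hy
  outConj α β hα hβ hnα hnβ := by
    obtain ⟨l, hl⟩ := h.outConj (MulAut.congr e α) (MulAut.congr e β) (by rw [← map_mul, hα, map_one])
      (by rw [← map_mul, hβ, map_one]) (by rwa [inn_congr]) (by rwa [inn_congr])
    refine ⟨e.symm l, ?_⟩
    apply (MulAut.congr e).injective
    rw [hl, map_mul, map_mul, map_inv, congr_conj, e.apply_symm_apply]
  outCent α hα hn β hβ := by
    have h1 := h.outCent (MulAut.congr e α) (by rw [← map_mul, hα, map_one]) (by rwa [inn_congr])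
      (MulAut.congr e β) (fun y hy => by
        rw [congr_apply'] at hy ⊢
        have h2 : α (e.symm y) = e.symm y := by
          apply e.injective
          rw [hy, e.apply_symm_apply]
        rw [hβ _ h2, e.apply_symm_apply])
    rcases h1 with h1 | h1
    · left
      apply (MulAut.congr e).injective
      rw [h1, map_one]
    · right
      exact (MulAut.congr e).injective h1

end transport

/-! ### `SL₃(3)` -/

local instance : Fact (Nat.Prime 3) := ⟨Nat.prime_three⟩

/-- `SL₃(3)` -/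
abbrev S := Matrix.SpecialLinearGroup (Fin 3) (ZMod 3)

theorem two_ne : (2 : ZMod 3) ≠ 0 := by decide

theorem eq_one_of_center {P : S} (hP : ∀ g : S, P * g = g * P) : P = 1 := by
  have h1 : P ∈ Subgroup.center S := Subgroup.mem_center_iff.mpr fun g => (hP g).symm
  obtain ⟨r, hr, hrP⟩ := Matrix.SpecialLinearGroup.mem_center_iff.1 h1
  have h2 : ∀ r : ZMod 3, r ^ 3 = 1 → r = 1 := by decide
  have h3 := h2 r hr
  apply Subtype.ext
  rw [← hrP, h3, map_one]
  rfl

theorem pr_injective : Function.Injective (pr : S → _) := by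
  intro a b h
  have h1 : a⁻¹ * b ∈ Subgroup.center S := QuotientGroup.eq.mp h
  have h2 := eq_one_of_center fun g => (Subgroup.mem_center_iff.mp h1 g).symm
  exact (inv_mul_eq_one.mp h2)

theorem lift_injective : Function.Injective
    (lift : MulAut S →* MulAut (Matrix.ProjectiveSpecialLinearGroup (Fin 3) (ZMod 3))) := by
  intro a b h
  apply MulEquiv.ext
  intro g
  apply pr_injective
  rw [← lift_pr, h, lift_pr]

theorem sq_of_ne : ∀ d : ZMod 3, d ≠ 0 → d * d = 1 := by decide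

theorem det_smul_det (A : GL (Fin 3) (ZMod 3)) (d : ZMod 3)
    (hd : d = (A : Matrix (Fin 3) (Fin 3) (ZMod 3)).det) : (d • A.1).det = 1 := by
  have hd0 : d ≠ 0 := by
    rw [hd]
    exact ((Matrix.isUnit_iff_isUnit_det A.1).1 A.isUnit).ne_zero
  rw [det_smul, Fintype.card_fin, ← hd]
  have h2 : d ^ 3 * d = (d * d) * (d * d) := by
    simp only [pow_succ, pow_zero, one_mul, mul_assoc]
  rw [h2, sq_of_ne d hd0, one_mul]

theorem cj_mul_eq (A : GL (Fin 3) (ZMod 3)) (d : ZMod 3) (P : S) (hP : P.1 = d • A.1) (g : S) :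
    cj A g * P = P * g := by
  apply Subtype.ext
  rw [Matrix.SpecialLinearGroup.coe_mul, Matrix.SpecialLinearGroup.coe_mul, hP, coe_cj,
      Matrix.mul_smul, mul_assoc _ _ A.1, ← Units.val_mul, inv_mul_cancel, Units.val_one, mul_one,
      Matrix.smul_mul]

theorem exists_conj_eq_cj (A : GL (Fin 3) (ZMod 3)) : ∃ P : S, cj A = MulAut.conj P := by
  obtain ⟨P, hP⟩ : ∃ P : S, P.1 = ((A : Matrix (Fin 3) (Fin 3) (ZMod 3)).det) • A.1 :=
    ⟨⟨_, det_smul_det A _ rfl⟩, rfl⟩
  refine ⟨P, MulEquiv.ext fun g => ?_⟩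
  have h1 := cj_mul_eq A _ P hP g
  have h2 : cj A g = P * g * P⁻¹ := eq_mul_inv_of_mul_eq h1
  exact h2.trans (MulAut.conj_apply _ _).symm

theorem fld_eq_one (σ : ZMod 3 ≃+* ZMod 3) : (fld σ : MulAut S) = 1 := by
  apply MulEquiv.ext
  intro g
  apply Subtype.ext
  ext i j
  rw [coe_fld_apply]
  have h1 : (σ : ZMod 3 →+* ZMod 3) = RingHom.id _ := Subsingleton.elim _ _
  exact congrArg (fun f : ZMod 3 →+* ZMod 3 => f (g.1 i j)) h1

theorem aut_cases (α : MulAut S) :
    (∃ P : S, α = MulAut.conj P) ∨ ∃ P : S, α = MulAut.conj P * itr := by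
  rcases Cfsg.Agent.ClassicalGeometry.AutPSL.Main.surj_three 3 le_rfl (lift α) with
    ⟨A, σ, h⟩ | ⟨A, σ, h⟩
  · left
    obtain ⟨P, hP⟩ := exists_conj_eq_cj A
    refine ⟨P, ?_⟩
    rw [lift_injective h, fld_eq_one, mul_one, hP]
  · right
    obtain ⟨P, hP⟩ := exists_conj_eq_cj A
    refine ⟨P, ?_⟩
    rw [lift_injective h, fld_eq_one, mul_one, hP]

theorem itr_mul_conj (P : S) : (itr * MulAut.conj P : MulAut S) = MulAut.conj (itr P) * itr := by
  apply MulEquiv.ext
  intro g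
  rw [MulAut.mul_apply, MulAut.mul_apply, MulAut.conj_apply, MulAut.conj_apply, map_mul, map_mul,
    map_inv]

theorem not_inn_itr : ¬ Inn (itr : MulAut S) := by
  rintro ⟨P, hP⟩
  have h1 : ∀ g : S, (itr g : S).1.trace = g.1.trace := by
    intro g
    rw [hP, MulAut.conj_apply]
    change (P.1 * g.1 * (P⁻¹).1).trace = _
    rw [Matrix.trace_mul_comm, ← mul_assoc, ← Matrix.SpecialLinearGroup.coe_mul, inv_mul_cancel,
      Matrix.SpecialLinearGroup.coe_one, one_mul]
  have hdet : (!![0, 0, 1; 1, 0, -1; 0, 1, 0] : Matrix (Fin 3) (Fin 3) (ZMod 3)).det = 1 := by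
    rw [Matrix.det_fin_three]; decide
  have hdet' : (!![1, 1, 0; 0, 0, 1; 1, 0, 0] : Matrix (Fin 3) (Fin 3) (ZMod 3)).det = 1 := by
    rw [Matrix.det_fin_three]; decide
  obtain ⟨g, hg⟩ : ∃ g : S, g = ⟨!![0, 0, 1; 1, 0, -1; 0, 1, 0], hdet⟩ := ⟨_, rfl⟩
  obtain ⟨k, hk⟩ : ∃ k : S, k = ⟨!![1, 1, 0; 0, 0, 1; 1, 0, 0], hdet'⟩ := ⟨_, rfl⟩
  have h2 : g * k = 1 := by
    rw [hg, hk]
    apply Subtype.ext
    change (!![0, 0, 1; 1, 0, -1; 0, 1, 0] : Matrix (Fin 3) (Fin 3) (ZMod 3)) *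
      !![1, 1, 0; 0, 0, 1; 1, 0, 0] = 1
    decide
  have h3 : g⁻¹ = k := (eq_inv_of_mul_eq_one_right h2).symm
  have h4 := h1 g
  rw [coe_itr, Matrix.trace_transpose, h3, hg, hk] at h4
  revert h4
  change ¬ (!![1, 1, 0; 0, 0, 1; 1, 0, 0] : Matrix (Fin 3) (Fin 3) (ZMod 3)).trace =
    (!![0, 0, 1; 1, 0, -1; 0, 1, 0] : Matrix (Fin 3) (Fin 3) (ZMod 3)).trace
  rw [Matrix.trace_fin_three, Matrix.trace_fin_three]
  decide

theorem not_inn_conj_itr (P : S) : ¬ Inn (MulAut.conj P * itr : MulAut S) := by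
  rintro ⟨Q, hQ⟩
  apply not_inn_itr
  refine ⟨P⁻¹ * Q, ?_⟩
  rw [map_mul, ← hQ, map_inv, ← mul_assoc, inv_mul_cancel, one_mul]

/-! ### congruence of symmetric matrices -/

section ring

variable {R : Type*} [CommRing R]

theorem step2 {b c d e f x y z w : R} (h1 : x*w - y*z = 1)
    (h2 : (d-b*b)*x*x+2*(e-b*c)*x*y+(f-c*c)*y*y = 1)
    (h3 : (d-b*b)*x*z + (e-b*c)*(x*w+y*z) + (f-c*c)*y*w = 0)
    (h4 : (d-b*b)*z*z+2*(e-b*c)*z*w+(f-c*c)*w*w=1) :
    ∃ g : Matrix (Fin 3) (Fin 3) R, g.det = 1 ∧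
      g * !![1,b,c;b,d,e;c,e,f] * gᵀ = 1 := by
  refine ⟨!![1,0,0; -(x*b+y*c), x, y; -(z*b+w*c), z, w], ?_, ?_⟩
  · rw [Matrix.det_fin_three]
    simp
    linear_combination h1
  · ext i j
    fin_cases i <;> fin_cases j <;> simp [Matrix.mul_apply, Fin.sum_univ_three] <;>
      first
        | ring1
        | linear_combination h2
        | linear_combination h3
        | linear_combination h4

theorem comp_step {P g1 g2 P1 : Matrix (Fin 3) (Fin 3) R} (h1 : g1 * P * g1ᵀ = P1)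
    (h2 : g2 * P1 * g2ᵀ = 1) : (g2 * g1) * P * (g2 * g1)ᵀ = 1 := by
  rw [transpose_mul, ← h2, ← h1]
  simp only [mul_assoc]

theorem shift_one (a b c d e f y z : R) :
    (!![1,y,z;0,1,0;0,0,1] : Matrix (Fin 3) (Fin 3) R) * !![a,b,c;b,d,e;c,e,f] *
      !![1,y,z;0,1,0;0,0,1]ᵀ =
    !![a+d*y*y+f*z*z+2*(b*y+c*z+e*y*z), b+d*y+e*z, c+e*y+f*z;
      b+d*y+e*z, d, e; c+e*y+f*z, e, f] := by
  ext i j
  fin_cases i <;> fin_cases j <;> simp [Matrix.mul_apply, Fin.sum_univ_three] <;> ring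

theorem shift_two (a b c d e f z : R) :
    (!![0,1,z;0,0,1;1,0,0] : Matrix (Fin 3) (Fin 3) R) * !![a,b,c;b,d,e;c,e,f] *
      !![0,1,z;0,0,1;1,0,0]ᵀ =
    !![d+f*z*z+2*(e*z), e+z*f, b+z*c; e+z*f, f, c; b+z*c, c, a] := by
  ext i j
  fin_cases i <;> fin_cases j <;> simp [Matrix.mul_apply, Fin.sum_univ_three] <;> ring

theorem shift_three (a b c d e f : R) :
    (!![0,0,1;1,0,0;0,1,0] : Matrix (Fin 3) (Fin 3) R) * !![a,b,c;b,d,e;c,e,f] *
      !![0,0,1;1,0,0;0,1,0]ᵀ = !![f,c,e;c,a,b;e,b,d] := by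
  ext i j
  fin_cases i <;> fin_cases j <;> simp [Matrix.mul_apply, Fin.sum_univ_three]

end ring

theorem rep_one : ∀ a b c d e f : ZMod 3, a*(d*f - e*e) - b*(b*f - e*c) + c*(b*e - d*c) = 1 →
    (∃ y z : ZMod 3, a+d*y*y+f*z*z+2*(b*y+c*z+e*y*z) = 1) ∨
    (∃ z : ZMod 3, d+f*z*z+2*(e*z) = 1) ∨ f = 1 := by
  decide +kernel

theorem rep_two : ∀ b c d e f : ZMod 3, (d*f - e*e) - b*(b*f - e*c) + c*(b*e - d*c) = 1 →
    ∃ x y z w : ZMod 3, x*w - y*z = 1 ∧
      (d-b*b)*x*x+2*(e-b*c)*x*y+(f-c*c)*y*y = 1 ∧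
      (d-b*b)*x*z + (e-b*c)*(x*w+y*z) + (f-c*c)*y*w = 0 ∧
      (d-b*b)*z*z+2*(e-b*c)*z*w+(f-c*c)*w*w=1 := by
  decide +kernel

theorem cong_one {b c d e f : ZMod 3} (h : (!![1,b,c;b,d,e;c,e,f] :
    Matrix (Fin 3) (Fin 3) (ZMod 3)).det = 1) :
    ∃ g : Matrix (Fin 3) (Fin 3) (ZMod 3), g.det = 1 ∧ g * !![1,b,c;b,d,e;c,e,f] * gᵀ = 1 := by
  have h' : (d*f - e*e) - b*(b*f - e*c) + c*(b*e - d*c) = 1 := by
    rw [← h, Matrix.det_fin_three]
    simp
    ring
  obtain ⟨x, y, z, w, h1, h2, h3, h4⟩ := rep_two b c d e f h'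
  exact step2 h1 h2 h3 h4

theorem cong {P : Matrix (Fin 3) (Fin 3) (ZMod 3)} (hP : Pᵀ = P) (hdet : P.det = 1) :
    ∃ g : Matrix (Fin 3) (Fin 3) (ZMod 3), g.det = 1 ∧ g * P * gᵀ = 1 := by
  have key : ∀ g1 P1 : Matrix (Fin 3) (Fin 3) (ZMod 3), g1.det = 1 → g1 * P * g1ᵀ = P1 →
      (∃ b c d e f : ZMod 3, P1 = !![1,b,c;b,d,e;c,e,f]) →
      ∃ g : Matrix (Fin 3) (Fin 3) (ZMod 3), g.det = 1 ∧ g * P * gᵀ = 1 := by
    rintro g1 P1 hg1 h1 ⟨b, c, d, e, f, rfl⟩
    have h2 : (!![1,b,c;b,d,e;c,e,f] : Matrix (Fin 3) (Fin 3) (ZMod 3)).det = 1 := by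
      rw [← h1, det_mul, det_mul, det_transpose, hg1, hdet, one_mul, one_mul]
    obtain ⟨g2, hg2, h3⟩ := cong_one h2
    exact ⟨g2 * g1, by rw [det_mul, hg1, hg2, one_mul], comp_step h1 h3⟩
  obtain ⟨a, b, c, d, e, f, hPe⟩ : ∃ a b c d e f : ZMod 3, P = !![a,b,c;b,d,e;c,e,f] := by
    refine ⟨P 0 0, P 0 1, P 0 2, P 1 1, P 1 2, P 2 2, ?_⟩
    have h1 : ∀ i j, P j i = P i j := fun i j => congrFun (congrFun hP i) j
    ext i j
    fin_cases i <;> fin_cases j <;> simp [h1 0 1, h1 0 2, h1 1 2]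
  subst hPe
  have h' : a*(d*f - e*e) - b*(b*f - e*c) + c*(b*e - d*c) = 1 := by
    rw [← hdet, Matrix.det_fin_three]
    simp
    ring
  rcases rep_one a b c d e f h' with ⟨y, z, h⟩ | ⟨z, h⟩ | h
  · refine key !![1,y,z;0,1,0;0,0,1] _ ?_ (shift_one a b c d e f y z) ?_
    · rw [Matrix.det_fin_three]; simp
    · rw [h]; exact ⟨_, _, _, _, _, rfl⟩
  · refine key !![0,1,z;0,0,1;1,0,0] _ ?_ (shift_two a b c d e f z) ?_
    · rw [Matrix.det_fin_three]; simp
    · rw [h]; exact ⟨_, _, _, _, _, rfl⟩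
  · refine key !![0,0,1;1,0,0;0,1,0] _ ?_ (shift_three a b c d e f) ?_
    · rw [Matrix.det_fin_three]; simp
    · rw [h]; exact ⟨_, _, _, _, _, rfl⟩

/-! ### the involutions and their centralizers -/

theorem dm_det : (dm (ZMod 3)).det = 1 := by
  unfold dm
  rw [Matrix.det_fin_three]
  simp

/-- the involution `diag(1,-1,-1)` -/
def z : S := ⟨dm (ZMod 3), dm_det⟩

theorem coe_z : (z : S).1 = dm (ZMod 3) := rfl

theorem exists_conj_z {x : S} (hx : orderOf x = 2) : ∃ Q : S, x = Q * z * Q⁻¹ := by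
  have hxx : x * x = 1 := by
    rw [← pow_two, ← hx, pow_orderOf_eq_one]
  have hx1 : x ≠ 1 := by
    rintro rfl
    simp at hx
  obtain ⟨P, hP, hTP⟩ := exists_conj two_ne (T := x.1)
    (by rw [← Matrix.SpecialLinearGroup.coe_mul, hxx]; rfl) x.2
    (fun h => hx1 (Subtype.ext h))
  obtain ⟨Q, hQ⟩ : ∃ Q : S, Q.1 = P := ⟨⟨P, hP⟩, rfl⟩
  refine ⟨Q, ?_⟩
  apply eq_mul_inv_of_mul_eq
  apply Subtype.ext
  rw [Matrix.SpecialLinearGroup.coe_mul, Matrix.SpecialLinearGroup.coe_mul, hQ, coe_z]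
  exact hTP

theorem emb_injective : Function.Injective (emb : GL (Fin 2) (ZMod 3) →* S) := by
  intro A B h
  have h1 : embMat A.1 = embMat B.1 := congrArg Subtype.val h
  apply Units.ext
  ext i j
  have e11 := congrFun (congrFun h1 1) 1
  have e12 := congrFun (congrFun h1 1) 2
  have e21 := congrFun (congrFun h1 2) 1
  have e22 := congrFun (congrFun h1 2) 2
  simp [embMat] at e11 e12 e21 e22
  fin_cases i <;> fin_cases j <;> assumption

theorem range_emb : (emb : GL (Fin 2) (ZMod 3) →* S).range = centralizer ({z} : Set S) := by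
  ext y
  rw [mem_centralizer_singleton_iff]
  constructor
  · rintro ⟨A, rfl⟩
    apply Subtype.ext
    rw [Matrix.SpecialLinearGroup.coe_mul, Matrix.SpecialLinearGroup.coe_mul, coe_z, emb_coe]
    exact embMat_comm _
  · intro h
    have h1 : y.1 * dm (ZMod 3) = dm (ZMod 3) * y.1 := by
      have := congrArg Subtype.val h
      rwa [Matrix.SpecialLinearGroup.coe_mul, Matrix.SpecialLinearGroup.coe_mul, coe_z] at this
    obtain ⟨A, hA⟩ := exists_emb_eq two_ne y h1
    exact ⟨A, hA⟩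

theorem neg_eq : ∀ x : ZMod 3, -x = x → x = 0 := by decide

theorem fin_cent : ∀ a b : ZMod 3, a * (b * b) = 1 → (a = 1 ∧ b = 1) ∨ (a = 1 ∧ b = -1) := by
  decide

theorem cent_in {P : Matrix (Fin 3) (Fin 3) (ZMod 3)} (hdet : P.det = 1)
    (h0 : P * dm (ZMod 3) = dm (ZMod 3) * P)
    (h1 : P * !![1,0,0;0,1,1;0,0,1] = !![1,0,0;0,1,1;0,0,1] * P)
    (h2 : P * !![1,0,0;0,1,0;0,1,1] = !![1,0,0;0,1,0;0,1,1] * P) :
    P = 1 ∨ P = dm (ZMod 3) := by
  have a01 := congrFun (congrFun h0 0) 1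
  have a02 := congrFun (congrFun h0 0) 2
  have a10 := congrFun (congrFun h0 1) 0
  have a20 := congrFun (congrFun h0 2) 0
  have b11 := congrFun (congrFun h1 1) 1
  have b12 := congrFun (congrFun h1 1) 2
  have c11 := congrFun (congrFun h2 1) 1
  simp [dm, Matrix.mul_apply, Fin.sum_univ_three] at a01 a02 a10 a20 b11 b12 c11
  obtain ⟨a, b, hP⟩ : ∃ a b : ZMod 3, P = !![a,0,0;0,b,0;0,0,b] := by
    refine ⟨P 0 0, P 1 1, ?_⟩
    rw [c11, add_zero, zero_add] at b12
    ext i j
    fin_cases i <;> fin_cases j <;>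
      simp [b11, c11, neg_eq _ a01, neg_eq _ a02, neg_eq _ a10.symm, neg_eq _ a20.symm, b12]
  subst hP
  rw [Matrix.det_fin_three] at hdet
  simp at hdet
  rcases fin_cent a b (by rw [← mul_assoc]; exact hdet) with ⟨rfl, rfl⟩ | ⟨rfl, rfl⟩
  · left
    ext i j
    fin_cases i <;> fin_cases j <;> simp
  · right
    rfl

theorem cent_out {P : Matrix (Fin 3) (Fin 3) (ZMod 3)}
    (h0 : P = dm (ZMod 3) * P * (dm (ZMod 3))ᵀ)
    (h1 : P = !![1,0,0;0,1,1;0,0,1] * P * !![1,0,0;0,1,1;0,0,1]ᵀ)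
    (h2 : P = !![-1,0,0;0,-1,0;0,0,1] * P * !![-1,0,0;0,-1,0;0,0,1]ᵀ) :
    P.det = 0 := by
  have a01 := congrFun (congrFun h0 0) 1
  have a02 := congrFun (congrFun h0 0) 2
  have b12 := congrFun (congrFun h2 1) 2
  have c11 := congrFun (congrFun h1 1) 1
  have b21 := congrFun (congrFun h2 2) 1
  simp [dm, Matrix.mul_apply, Fin.sum_univ_three, Matrix.vecMul, dotProduct] at a01 a02 b12 b21 c11
  have a01' := neg_eq _ a01.symm
  have a02' := neg_eq _ a02.symm
  have b12' := neg_eq _ b12.symm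
  have b21' := neg_eq _ b21.symm
  have c22 : P 2 2 = 0 := by
    rw [b12', b21'] at c11
    linear_combination -c11
  rw [Matrix.det_fin_three, a01', a02', b12', b21', c22]
  ring

/-! ### automorphisms -/

theorem itr_mul_transpose (y : S) : (itr y : S).1 * y.1ᵀ = 1 := by
  rw [coe_itr, ← transpose_mul, ← Matrix.SpecialLinearGroup.coe_mul, mul_inv_cancel,
    Matrix.SpecialLinearGroup.coe_one, transpose_one]

theorem commute_of_conj {P y : S} (h : MulAut.conj P y = y) : P * y = y * P := by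
  rw [MulAut.conj_apply] at h
  exact mul_inv_eq_iff_eq_mul.mp h

theorem form_of_conj {P y : S} (h : (MulAut.conj P * itr : MulAut S) y = y) :
    P.1 = y.1 * P.1 * y.1ᵀ := by
  rw [MulAut.mul_apply, MulAut.conj_apply] at h
  have h1 : P * itr y = y * P := mul_inv_eq_iff_eq_mul.mp h
  have h2 : P.1 * (itr y : S).1 = y.1 * P.1 := by
    rw [← Matrix.SpecialLinearGroup.coe_mul, ← Matrix.SpecialLinearGroup.coe_mul, h1]
  rw [← h2, mul_assoc, itr_mul_transpose, mul_one]

theorem coe_comm {P y : S} (h : P * y = y * P) : P.1 * y.1 = y.1 * P.1 := by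
  rw [← Matrix.SpecialLinearGroup.coe_mul, ← Matrix.SpecialLinearGroup.coe_mul, h]

theorem cent_z (α : MulAut S) (hα : ∀ y : S, y * z = z * y → α y = y) :
    α = 1 ∨ α = MulAut.conj z := by
  have hz : z * z = z * z := rfl
  obtain ⟨u, hu⟩ : ∃ u : S, u.1 = !![1,0,0;0,1,1;0,0,1] :=
    ⟨⟨_, by rw [Matrix.det_fin_three]; simp⟩, rfl⟩
  obtain ⟨v, hv⟩ : ∃ v : S, v.1 = !![1,0,0;0,1,0;0,1,1] :=
    ⟨⟨_, by rw [Matrix.det_fin_three]; simp⟩, rfl⟩
  obtain ⟨w, hw⟩ : ∃ w : S, w.1 = !![-1,0,0;0,-1,0;0,0,1] :=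
    ⟨⟨_, by rw [Matrix.det_fin_three]; simp⟩, rfl⟩
  have key : ∀ y : S, y.1 * dm (ZMod 3) = dm (ZMod 3) * y.1 → α y = y := by
    intro y hy
    apply hα
    apply Subtype.ext
    rw [Matrix.SpecialLinearGroup.coe_mul, Matrix.SpecialLinearGroup.coe_mul, coe_z]
    exact hy
  have hαz : α z = z := hα z rfl
  have hαu : α u = u := key u (by
    rw [hu]; unfold dm
    ext i j
    fin_cases i <;> fin_cases j <;> simp [Matrix.mul_apply, Fin.sum_univ_three])
  have hαv : α v = v := key v (by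
    rw [hv]; unfold dm
    ext i j
    fin_cases i <;> fin_cases j <;> simp [Matrix.mul_apply, Fin.sum_univ_three])
  have hαw : α w = w := key w (by
    rw [hw]; unfold dm
    ext i j
    fin_cases i <;> fin_cases j <;> simp [Matrix.mul_apply, Fin.sum_univ_three])
  rcases aut_cases α with ⟨P, rfl⟩ | ⟨P, rfl⟩
  · have h0 := coe_comm (commute_of_conj hαz)
    have h1 := coe_comm (commute_of_conj hαu)
    have h2 := coe_comm (commute_of_conj hαv)
    rw [coe_z] at h0
    rw [hu] at h1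
    rw [hv] at h2
    rcases cent_in P.2 h0 h1 h2 with h | h
    · left
      have : P = 1 := Subtype.ext h
      rw [this, map_one]
    · right
      have : P = z := Subtype.ext h
      rw [this]
  · exfalso
    have h0 := form_of_conj hαz
    have h1 := form_of_conj hαu
    have h2 := form_of_conj hαw
    rw [coe_z] at h0
    rw [hu] at h1
    rw [hw] at h2
    have h3 := cent_out h0 h1 h2
    rw [P.2] at h3
    revert h3
    decide

/-- Every outer involution is conjugate to `itr`. -/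
theorem exists_conj_itr {α : MulAut S} (hα : α * α = 1) (hn : ¬ Inn α) :
    ∃ l : S, MulAut.conj l * α * (MulAut.conj l)⁻¹ = itr := by
  rcases aut_cases α with ⟨P, rfl⟩ | ⟨P, rfl⟩
  · exact absurd ⟨P, rfl⟩ hn
  · have h1 : MulAut.conj (P * itr P) = (1 : MulAut S) := by
      rw [← hα, map_mul]
      calc MulAut.conj P * MulAut.conj (itr P) =
          MulAut.conj P * (MulAut.conj (itr P) * itr) * itr := by
            rw [mul_assoc, mul_assoc, itr_mul_itr, mul_one]
        _ = MulAut.conj P * itr * (MulAut.conj P * itr) := by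
            rw [← itr_mul_conj]; simp only [mul_assoc]
    have h2 : P * itr P = 1 := by
      apply eq_one_of_center
      intro g
      apply commute_of_conj
      rw [h1]
      rfl
    have h3 : P.1ᵀ = P.1 := by
      have h4 : P.1 * (itr P : S).1 = 1 := by
        rw [← Matrix.SpecialLinearGroup.coe_mul, h2, Matrix.SpecialLinearGroup.coe_one]
      calc P.1ᵀ = P.1 * (itr P : S).1 * P.1ᵀ := by rw [h4, one_mul]
        _ = P.1 := by rw [mul_assoc, itr_mul_transpose, mul_one]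
    obtain ⟨g, hg, hgP⟩ := cong h3 P.2
    obtain ⟨l, hl⟩ : ∃ l : S, l.1 = g := ⟨⟨g, hg⟩, rfl⟩
    refine ⟨l, ?_⟩
    have h5 : l * P = itr l := by
      apply Subtype.ext
      rw [Matrix.SpecialLinearGroup.coe_mul, hl]
      have h6 := itr_mul_transpose l
      rw [hl] at h6
      have h7 : (itr l : S).1 * (gᵀ * (itr l : S).1) = (itr l : S).1 := by
        rw [← mul_assoc, h6, one_mul]
      have h8 : gᵀ * (itr l : S).1 = 1 := mul_eq_one_comm.mp h6
      calc g * P.1 = g * P.1 * (gᵀ * (itr l : S).1) := by rw [h8, mul_one]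
        _ = g * P.1 * gᵀ * (itr l : S).1 := by simp only [mul_assoc]
        _ = (itr l : S).1 := by rw [hgP, one_mul]
    calc MulAut.conj l * (MulAut.conj P * itr) * (MulAut.conj l)⁻¹
        = MulAut.conj (l * P) * (itr * MulAut.conj l⁻¹) := by
          rw [map_mul, map_inv]; simp only [mul_assoc]
      _ = MulAut.conj (itr l) * (MulAut.conj (itr l⁻¹) * itr) := by rw [h5, itr_mul_conj]
      _ = itr := by
          rw [← mul_assoc, ← map_mul, ← map_mul, mul_inv_cancel, map_one, map_one, one_mul]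

theorem mem_fix_itr {y : S} : y ∈ Fix (itr : MulAut S) ↔ y.1 * y.1ᵀ = 1 := by
  constructor
  · intro h
    have h1 : itr y = y := h
    have h2 := itr_mul_transpose y
    rwa [h1] at h2
  · intro h
    change itr y = y
    apply Subtype.ext
    have h2 := itr_mul_transpose y
    have h3 : y.1ᵀ * y.1 = 1 := mul_eq_one_comm.mp h
    calc (itr y : S).1 = (itr y : S).1 * (y.1ᵀ * y.1) := by rw [h3, mul_one]
      _ = y.1 := by rw [← mul_assoc, h2, one_mul]

theorem scalar_of {P : Matrix (Fin 3) (Fin 3) (ZMod 3)} (hdet : P.det = 1)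
    (h0 : P * dm (ZMod 3) = dm (ZMod 3) * P)
    (h1 : P * !![0,1,0;0,0,1;1,0,0] = !![0,1,0;0,0,1;1,0,0] * P) : P = 1 := by
  have a01 := congrFun (congrFun h0 0) 1
  have a02 := congrFun (congrFun h0 0) 2
  have a10 := congrFun (congrFun h0 1) 0
  have a20 := congrFun (congrFun h0 2) 0
  have b01 := congrFun (congrFun h1 0) 1
  have b12 := congrFun (congrFun h1 1) 2
  have b10 := congrFun (congrFun h1 0) 2
  have b11 := congrFun (congrFun h1 1) 1
  simp [dm, Matrix.mul_apply, Fin.sum_univ_three] at a01 a02 a10 a20 b01 b12 b10 b11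
  have h3 : ∀ a : ZMod 3, a * a * a = 1 → a = 1 := by decide
  obtain ⟨a, hP⟩ : ∃ a : ZMod 3, P = !![a,0,0;0,a,0;0,0,a] := by
    refine ⟨P 0 0, ?_⟩
    have a01' := neg_eq _ a01
    have a02' := neg_eq _ a02
    have a10' := neg_eq _ a10.symm
    have a20' := neg_eq _ a20.symm
    ext i j
    fin_cases i <;> fin_cases j <;>
      simp [← b12, ← b01, ← b10, ← b11, a01', a02', a10', a20']
  subst hP
  rw [Matrix.det_fin_three] at hdet
  simp at hdet
  rw [h3 a hdet]
  ext i j
  fin_cases i <;> fin_cases j <;> simp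

theorem cent_itr (β : MulAut S) (hβ : ∀ y : S, itr y = y → β y = y) : β = 1 ∨ β = itr := by
  have hz : itr z = z := by
    have h : z ∈ Fix (itr : MulAut S) := by
      rw [mem_fix_itr, coe_z]
      unfold dm
      ext i j
      fin_cases i <;> fin_cases j <;> simp [Matrix.mul_apply, Fin.sum_univ_three]
    exact h
  obtain ⟨u, hu⟩ : ∃ u : S, u.1 = !![0,1,0;0,0,1;1,0,0] :=
    ⟨⟨_, by rw [Matrix.det_fin_three]; simp⟩, rfl⟩
  have hiu : itr u = u := by
    have h : u ∈ Fix (itr : MulAut S) := by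
      rw [mem_fix_itr, hu]
      ext i j
      fin_cases i <;> fin_cases j <;> simp [Matrix.mul_apply, Fin.sum_univ_three]
    exact h
  have key : ∀ P : S, MulAut.conj P z = z → MulAut.conj P u = u → P = 1 := by
    intro P h1 h2
    have h0 := coe_comm (commute_of_conj h1)
    have h1 := coe_comm (commute_of_conj h2)
    rw [coe_z] at h0
    rw [hu] at h1
    exact Subtype.ext (scalar_of P.2 h0 h1)
  rcases aut_cases β with ⟨P, rfl⟩ | ⟨P, rfl⟩
  · left
    rw [key P (hβ z hz) (hβ u hiu), map_one]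
  · right
    have h1 := hβ z hz
    have h2 := hβ u hiu
    rw [MulAut.mul_apply, hz] at h1
    rw [MulAut.mul_apply, hiu] at h2
    rw [key P h1 h2, map_one, one_mul]

/-! ### `Fix itr ≃ S₄` -/

def cf : Fin 3 → Fin 4 → ZMod 3 := fun i j => if j = 0 ∨ j.val = i.val + 1 then 1 else -1

def Mf (σ : Equiv.Perm (Fin 4)) (i j : Fin 3) : ZMod 3 :=
  cf i (σ 0) * cf j 0 + cf i (σ 1) * cf j 1 + cf i (σ 2) * cf j 2 + cf i (σ 3) * cf j 3

theorem cf_orth : ∀ l k : Fin 4, ∑ m, cf m l * cf m k = (if l = k then 1 else 0) - 1 := by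
  decide

theorem cf_sum : ∀ i : Fin 3, ∑ l, cf i l = 0 := by decide

theorem Mf_eq (σ : Equiv.Perm (Fin 4)) (i j : Fin 3) : Mf σ i j = ∑ l, cf i (σ l) * cf j l := by
  rw [Fin.sum_univ_four]; rfl

theorem Mf_mul (σ τ : Equiv.Perm (Fin 4)) (i j : Fin 3) :
    Mf (σ * τ) i j = ∑ m, Mf σ i m * Mf τ m j := by
  simp only [Mf_eq]
  have h1 : ∑ m, (∑ l, cf i (σ l) * cf m l) * (∑ k, cf m (τ k) * cf j k) =
      ∑ l, ∑ k, (cf i (σ l) * cf j k) * ∑ m, cf m l * cf m (τ k) := by
    have h0 : ∀ m, (∑ l, cf i (σ l) * cf m l) * (∑ k, cf m (τ k) * cf j k) =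
        ∑ l, ∑ k, (cf i (σ l) * cf m l) * (cf m (τ k) * cf j k) := fun m =>
      Finset.sum_mul_sum ..
    rw [Finset.sum_congr rfl fun m _ => h0 m, Finset.sum_comm]
    refine Finset.sum_congr rfl fun l _ => ?_
    rw [Finset.sum_comm]
    refine Finset.sum_congr rfl fun k _ => ?_
    rw [Finset.mul_sum]
    refine Finset.sum_congr rfl fun m _ => ?_
    ring
  rw [h1]
  simp only [cf_orth, mul_sub, mul_one, mul_ite, mul_zero, Finset.sum_sub_distrib]
  have h2 : ∑ l, ∑ k, cf i (σ l) * cf j k = 0 := by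
    simp only [← Finset.mul_sum, cf_sum, mul_zero, Finset.sum_const_zero]
  rw [h2, sub_zero, Finset.sum_comm]
  simp [Finset.sum_ite_eq']

set_option maxRecDepth 100000 in
theorem Mf_orth : ∀ σ : Equiv.Perm (Fin 4), ∀ i j,
    Mf σ i 0 * Mf σ j 0 + Mf σ i 1 * Mf σ j 1 + Mf σ i 2 * Mf σ j 2 = if i = j then 1 else 0 := by
  decide +kernel

set_option maxRecDepth 100000 in
theorem Mf_inj : ∀ σ : Equiv.Perm (Fin 4), (∀ i j, Mf σ i j = if i = j then 1 else 0) → σ = 1 := by
  decide +kernel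

set_option maxRecDepth 100000 in
theorem Mf_neg : ∀ σ : Equiv.Perm (Fin 4), ¬ (∀ i j, Mf σ i j = if i = j then -1 else 0) := by
  decide +kernel

def rv : Fin 6 → Fin 3 → ZMod 3 := fun k j =>
  if k.val / 2 = j.val then (if k.val % 2 = 0 then 1 else -1) else 0

theorem rv_row : ∀ a b c : ZMod 3, a * a + b * b + c * c = 1 →
    ∃ k : Fin 6, rv k 0 = a ∧ rv k 1 = b ∧ rv k 2 = c := by
  decide +kernel

set_option maxRecDepth 100000 in
theorem Mf_surj : ∀ i j k : Fin 6, (rv i 0 * rv j 0 + rv i 1 * rv j 1 + rv i 2 * rv j 2 = 0) →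
    (rv i 0 * rv k 0 + rv i 1 * rv k 1 + rv i 2 * rv k 2 = 0) →
    (rv j 0 * rv k 0 + rv j 1 * rv k 1 + rv j 2 * rv k 2 = 0) →
    ∃ σ : Equiv.Perm (Fin 4),
      (∀ a, Mf σ 0 a = rv i a ∧ Mf σ 1 a = rv j a ∧ Mf σ 2 a = rv k a) ∨
      (∀ a, Mf σ 0 a = - rv i a ∧ Mf σ 1 a = - rv j a ∧ Mf σ 2 a = - rv k a) := by
  decide +kernel

/-- The representation of `S₄` in dimension three, over `ZMod 3`. -/
def MM (σ : Equiv.Perm (Fin 4)) : Matrix (Fin 3) (Fin 3) (ZMod 3) := Matrix.of fun i j => Mf σ i j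

theorem MM_mul (σ τ : Equiv.Perm (Fin 4)) : MM (σ * τ) = MM σ * MM τ := by
  ext i j
  rw [Matrix.mul_apply]
  exact Mf_mul σ τ i j

theorem MM_orth (σ : Equiv.Perm (Fin 4)) : MM σ * (MM σ)ᵀ = 1 := by
  ext i j
  rw [Matrix.mul_apply, Fin.sum_univ_three, Matrix.one_apply]
  exact Mf_orth σ i j

theorem MM_det (σ : Equiv.Perm (Fin 4)) : (MM σ).det * (MM σ).det = 1 := by
  have h := congrArg Matrix.det (MM_orth σ)
  rwa [det_mul, det_transpose, det_one] at h

theorem MM_smul_det (σ : Equiv.Perm (Fin 4)) : ((MM σ).det • MM σ).det = 1 := by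
  rw [det_smul, Fintype.card_fin]
  have h := MM_det σ
  calc (MM σ).det ^ 3 * (MM σ).det = ((MM σ).det * (MM σ).det) * ((MM σ).det * (MM σ).det) := by
        simp only [pow_succ, pow_zero, one_mul, mul_assoc]
    _ = 1 := by rw [h, one_mul]

def FF : Equiv.Perm (Fin 4) →* S where
  toFun σ := ⟨(MM σ).det • MM σ, MM_smul_det σ⟩
  map_one' := by
    have h1 : MM 1 * MM 1 = MM 1 := by rw [← MM_mul, one_mul]
    have h2 : MM 1 = 1 := by
      have h3 : MM 1 * (MM 1 * (MM 1)ᵀ) = MM 1 * (MM 1)ᵀ := by rw [← mul_assoc, h1]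
      rwa [MM_orth, mul_one] at h3
    apply Subtype.ext
    change (MM 1).det • MM 1 = 1
    rw [h2, det_one, one_smul]
  map_mul' σ τ := by
    apply Subtype.ext
    change (MM (σ * τ)).det • MM (σ * τ) = ((MM σ).det • MM σ) * ((MM τ).det • MM τ)
    rw [MM_mul, det_mul, Matrix.smul_mul, Matrix.mul_smul, smul_smul]

theorem coe_FF (σ : Equiv.Perm (Fin 4)) : (FF σ : S).1 = (MM σ).det • MM σ := rfl

theorem det_cases (σ : Equiv.Perm (Fin 4)) : (MM σ).det = 1 ∨ (MM σ).det = -1 := by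
  have h : ∀ a : ZMod 3, a * a = 1 → a = 1 ∨ a = -1 := by decide
  exact h _ (MM_det σ)

theorem FF_injective : Function.Injective FF := by
  rw [injective_iff_map_eq_one]
  intro σ h
  have h1 : (MM σ).det • MM σ = 1 := congrArg Subtype.val h
  rcases det_cases σ with h2 | h2
  · rw [h2, one_smul] at h1
    apply Mf_inj
    intro i j
    rw [← Matrix.one_apply, ← h1]
    rfl
  · exfalso
    rw [h2, neg_smul, one_smul] at h1
    have h3 : MM σ = -1 := by rw [← h1, neg_neg]
    apply Mf_neg σ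
    intro i j
    have h4 : Mf σ i j = (-1 : Matrix (Fin 3) (Fin 3) (ZMod 3)) i j := by rw [← h3]; rfl
    rw [h4, Matrix.neg_apply, Matrix.one_apply]
    split_ifs
    · rfl
    · exact neg_zero

theorem range_FF : FF.range = Fix (itr : MulAut S) := by
  apply le_antisymm
  · rintro _ ⟨σ, rfl⟩
    rw [mem_fix_itr, coe_FF, transpose_smul, Matrix.smul_mul, Matrix.mul_smul, MM_orth, smul_smul,
      MM_det, one_smul]
  · intro y hy
    rw [mem_fix_itr] at hy
    have h1 : ∀ i j, y.1 i 0 * y.1 j 0 + y.1 i 1 * y.1 j 1 + y.1 i 2 * y.1 j 2 =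
        if i = j then 1 else 0 := by
      intro i j
      have h2 := congrFun (congrFun hy i) j
      rw [Matrix.mul_apply, Fin.sum_univ_three, Matrix.one_apply] at h2
      exact h2
    obtain ⟨i, hi0, hi1, hi2⟩ := rv_row _ _ _ (by simpa using h1 0 0)
    obtain ⟨j, hj0, hj1, hj2⟩ := rv_row _ _ _ (by simpa using h1 1 1)
    obtain ⟨k, hk0, hk1, hk2⟩ := rv_row _ _ _ (by simpa using h1 2 2)
    have hi : ∀ a, y.1 0 a = rv i a := by
      intro a; fin_cases a
      · exact hi0.symm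
      · exact hi1.symm
      · exact hi2.symm
    have hj : ∀ a, y.1 1 a = rv j a := by
      intro a; fin_cases a
      · exact hj0.symm
      · exact hj1.symm
      · exact hj2.symm
    have hk : ∀ a, y.1 2 a = rv k a := by
      intro a; fin_cases a
      · exact hk0.symm
      · exact hk1.symm
      · exact hk2.symm
    have e01 := h1 0 1
    have e02 := h1 0 2
    have e12 := h1 1 2
    rw [if_neg (by decide)] at e01 e02 e12
    simp only [hi, hj, hk] at e01 e02 e12
    obtain ⟨σ, h | h⟩ := Mf_surj i j k e01 e02 e12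
    · have h3 : MM σ = y.1 := by
        ext a b
        fin_cases a
        · exact (h b).1.trans (hi b).symm
        · exact (h b).2.1.trans (hj b).symm
        · exact (h b).2.2.trans (hk b).symm
      refine ⟨σ, Subtype.ext ?_⟩
      rw [coe_FF, h3, y.2, one_smul]
    · have h3 : MM σ = - y.1 := by
        ext a b
        fin_cases a
        · exact (h b).1.trans (by rw [← hi b]; rfl)
        · exact (h b).2.1.trans (by rw [← hj b]; rfl)
        · exact (h b).2.2.trans (by rw [← hk b]; rfl)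
      refine ⟨σ, Subtype.ext ?_⟩
      have h4 : (-y.1).det = -1 := by
        rw [Matrix.det_neg, Fintype.card_fin, y.2]
        decide
      rw [coe_FF, h3, h4, neg_smul, one_smul, neg_neg]

/-! ### the theorem -/

theorem sdf_S : SDF S where
  conj x y hx hy := by
    obtain ⟨Q, rfl⟩ := exists_conj_z hx
    obtain ⟨R, rfl⟩ := exists_conj_z hy
    rw [isConj_iff]
    exact ⟨R * Q⁻¹, by group⟩
  gl x hx := by
    obtain ⟨Q, rfl⟩ := exists_conj_z hx
    have h1 : Function.Injective (((MulAut.conj Q).toMonoidHom.comp emb : GL (Fin 2) (ZMod 3) →* S)) :=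
      (MulAut.conj Q).injective.comp emb_injective
    have h2 : ((MulAut.conj Q).toMonoidHom.comp emb : GL (Fin 2) (ZMod 3) →* S).range =
        centralizer ({Q * z * Q⁻¹} : Set S) := by
      rw [MonoidHom.range_comp, range_emb]
      ext y
      rw [mem_centralizer_singleton_iff]
      constructor
      · rintro ⟨w, hw, rfl⟩
        have hw' := mem_centralizer_singleton_iff.mp hw
        change Q * w * Q⁻¹ * (Q * z * Q⁻¹) = Q * z * Q⁻¹ * (Q * w * Q⁻¹)
        calc Q * w * Q⁻¹ * (Q * z * Q⁻¹) = Q * (w * z) * Q⁻¹ := by group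
          _ = Q * (z * w) * Q⁻¹ := by rw [hw']
          _ = _ := by group
      · intro h
        refine ⟨Q⁻¹ * y * Q, ?_, ?_⟩
        · apply mem_centralizer_singleton_iff.mpr
          calc Q⁻¹ * y * Q * z = Q⁻¹ * (y * (Q * z * Q⁻¹)) * Q := by group
            _ = Q⁻¹ * (Q * z * Q⁻¹ * y) * Q := by rw [h]
            _ = _ := by group
        · change Q * (Q⁻¹ * y * Q) * Q⁻¹ = y
          group
    exact ⟨((MonoidHom.ofInjective h1).trans (MulEquiv.subgroupCongr h2)).symm⟩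
  cent x hx α hα := by
    obtain ⟨Q, rfl⟩ := exists_conj_z hx
    have h1 := cent_z ((MulAut.conj Q)⁻¹ * α * MulAut.conj Q) (fun y hy => by
      rw [MulAut.mul_apply, MulAut.mul_apply, hα]
      · exact (MulAut.conj Q).symm_apply_apply y
      · rw [MulAut.conj_apply]
        calc Q * y * Q⁻¹ * (Q * z * Q⁻¹) = Q * (y * z) * Q⁻¹ := by group
          _ = Q * (z * y) * Q⁻¹ := by rw [hy]
          _ = _ := by group)
    have h2 : α = MulAut.conj Q * ((MulAut.conj Q)⁻¹ * α * MulAut.conj Q) * (MulAut.conj Q)⁻¹ := by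
      group
    rcases h1 with h1 | h1
    · left
      rw [h2, h1, mul_one, mul_inv_cancel]
    · right
      rw [h2, h1, map_mul, map_mul, map_inv]
  out α β hα hβ := by
    rcases aut_cases α with ⟨P, rfl⟩ | ⟨P, rfl⟩
    · exact absurd ⟨P, rfl⟩ hα
    · rcases aut_cases β with ⟨Q, rfl⟩ | ⟨Q, rfl⟩
      · exact absurd ⟨Q, rfl⟩ hβ
      · refine ⟨P * itr Q, ?_⟩
        calc MulAut.conj P * itr * (MulAut.conj Q * itr)
            = MulAut.conj P * (itr * MulAut.conj Q) * itr := by simp only [mul_assoc]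
          _ = MulAut.conj P * MulAut.conj (itr Q) * (itr * itr) := by
            rw [itr_mul_conj]; simp only [mul_assoc]
          _ = MulAut.conj (P * itr Q) := by rw [itr_mul_itr, mul_one, map_mul]
  s4 α hα hn := by
    obtain ⟨l, hl⟩ := exists_conj_itr hα hn
    have h1 : (Fix α).map (MulAut.conj l).toMonoidHom = Fix (itr : MulAut S) := by
      rw [← hl]
      ext y
      constructor
      · rintro ⟨w, hw, rfl⟩
        have hw' : α w = w := hw
        change (MulAut.conj l * α * (MulAut.conj l)⁻¹) (MulAut.conj l w) = MulAut.conj l w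
        rw [MulAut.mul_apply, MulAut.mul_apply]
        have h2 : (MulAut.conj l)⁻¹ (MulAut.conj l w) = w := (MulAut.conj l).symm_apply_apply w
        rw [h2, hw']
      · intro hy
        have hy' : (MulAut.conj l * α * (MulAut.conj l)⁻¹) y = y := hy
        rw [MulAut.mul_apply, MulAut.mul_apply] at hy'
        refine ⟨(MulAut.conj l)⁻¹ y, ?_, (MulAut.conj l).apply_symm_apply y⟩
        change α ((MulAut.conj l)⁻¹ y) = (MulAut.conj l)⁻¹ y
        apply (MulAut.conj l).injective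
        rw [hy']
        exact ((MulAut.conj l).apply_symm_apply y).symm
    have e1 : ↥(Fix α) ≃* ↥(Fix (itr : MulAut S)) :=
      ((MulAut.conj l).subgroupMap (Fix α)).trans (MulEquiv.subgroupCongr h1)
    exact ⟨e1.trans ((MonoidHom.ofInjective FF_injective).trans
      (MulEquiv.subgroupCongr range_FF)).symm⟩
  outConj α β hα hβ hnα hnβ := by
    obtain ⟨l, hl⟩ := exists_conj_itr hα hnα
    obtain ⟨m, hm⟩ := exists_conj_itr hβ hnβ
    refine ⟨m⁻¹ * l, ?_⟩
    rw [map_mul, map_inv]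
    have h1 : β = (MulAut.conj m)⁻¹ * (MulAut.conj m * β * (MulAut.conj m)⁻¹) * MulAut.conj m := by
      group
    rw [h1, hm, ← hl]
    group
  outCent α hα hn β hβ := by
    obtain ⟨l, hl⟩ := exists_conj_itr hα hn
    have h1 := cent_itr (MulAut.conj l * β * (MulAut.conj l)⁻¹) (fun y hy => by
      rw [← hl, MulAut.mul_apply, MulAut.mul_apply] at hy
      rw [MulAut.mul_apply, MulAut.mul_apply, hβ]
      · exact (MulAut.conj l).apply_symm_apply y
      · apply (MulAut.conj l).injective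
        rw [hy]
        exact ((MulAut.conj l).apply_symm_apply y).symm)
    have h2 : β = (MulAut.conj l)⁻¹ * (MulAut.conj l * β * (MulAut.conj l)⁻¹) * MulAut.conj l := by
      group
    rcases h1 with h1 | h1
    · left
      rw [h2, h1, mul_one, inv_mul_cancel]
    · right
      rw [h2, h1, ← hl]
      group

/-- `SL_n` over isomorphic fields. -/
def slEquiv {n : ℕ} {F F' : Type*} [Field F] [Field F'] (e : F ≃+* F') :
    Matrix.SpecialLinearGroup (Fin n) F ≃* Matrix.SpecialLinearGroup (Fin n) F' where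
  toFun g := Matrix.SpecialLinearGroup.map (e : F →+* F') g
  invFun g := Matrix.SpecialLinearGroup.map (e.symm : F' →+* F) g
  left_inv g := by
    apply Subtype.ext
    ext i j
    exact e.symm_apply_apply _
  right_inv g := by
    apply Subtype.ext
    ext i j
    exact e.apply_symm_apply _
  map_mul' g h := map_mul _ g h

/-- **`PSL₃(3)` satisfies `SDF`.** -/
theorem sdf_l33 {L F : Type*} [Group L] [Field F] [Fintype F] (hF : Fintype.card F = 3)
    (e : L ≃* Matrix.ProjectiveSpecialLinearGroup (Fin 3) F) : SDF L := by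
  have e0 : ZMod 3 ≃+* F := ZMod.ringEquivOfPrime F Nat.prime_three hF
  have e1 : Matrix.SpecialLinearGroup (Fin 3) F ≃* S := (slEquiv e0).symm
  have hc : ∀ g : Matrix.SpecialLinearGroup (Fin 3) F, g ∈ Subgroup.center _ → g = 1 := by
    intro g hg
    apply e1.injective
    rw [map_one]
    apply eq_one_of_center
    intro k
    have h1 := Subgroup.mem_center_iff.mp hg (e1.symm k)
    apply e1.symm.injective
    rw [map_mul, map_mul, e1.symm_apply_apply]
    exact h1.symm
  have h2 : Function.Bijective (pr : Matrix.SpecialLinearGroup (Fin 3) F → _) := by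
    refine ⟨fun a b h => ?_, pr_surjective⟩
    have h1 : a⁻¹ * b ∈ Subgroup.center (Matrix.SpecialLinearGroup (Fin 3) F) :=
      QuotientGroup.eq.mp h
    exact inv_mul_eq_one.mp (hc _ h1)
  have e2 : Matrix.SpecialLinearGroup (Fin 3) F ≃* Matrix.ProjectiveSpecialLinearGroup (Fin 3) F :=
    MulEquiv.ofBijective pr h2
  exact SDF.of_equiv (e.trans (e2.symm.trans e1)) sdf_S

end Cfsg.Agent.GH.L3S.ModelL33
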