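import Cfsg.Agent.GH.L3S.Defs
import Cfsg.Agent.Cit.Eleven
import Cfsg.Agent.SectRankFour.AutM11

/-!
# `SDF` for `M₁₁`
-/

set_option autoImplicit false

namespace Cfsg.Agent.GH.L3S.ModelM11

open Subgroup Cfsg.Agent.GH.L3S.Defs
open Cfsg.Agent.Cit.Eleven (isM11 finite nonempty_equiv mem_cent QQ_le')

variable {L : Type*} [Group L]

/-- every automorphism of `M₁₁` is inner -/
theorem inn (h : Cfsg.Spor.IsoM11 L) (α : MulAut L) : Inn α := by
  have := finite h
  exact Cfsg.Agent.SectRankFour.AutM11.exists_conj (isM11 h) α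

theorem sdf_m11 (h : Cfsg.Spor.IsoM11 L) : SDF L where
  conj x y hx hy := Cfsg.Agent.Cit.Eleven.isConj h hx hy
  gl x hx := nonempty_equiv h hx
  cent x hx α hα := Cfsg.Agent.Cit.Eleven.aut_eq h hx α (fun y hy => hα y (mem_cent.1 (QQ_le' x hy)))
  out α _ hα _ := absurd (inn h α) hα
  s4 α _ hα := absurd (inn h α) hα
  outConj α _ _ _ hα _ := absurd (inn h α) hα
  outCent α _ hα _ _ := absurd (inn h α) hα

end Cfsg.Agent.GH.L3S.ModelM11
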