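import Cfsg.Agent.GH.L3S.WorldOf
import Cfsg.Agent.GH.L3S.ModelM11
import Cfsg.Agent.GH.L3S.ModelL33
import Cfsg.Agent.GH.L3S.CaseBFin
import Cfsg.Agent.GH.L3.Pair
import Cfsg.Agent.GH.L3S.CaseAEnd
import Cfsg.Agent.GH.LemmaS

/-!
# GH-L3, SD case: assembly (`BranchL3`)
-/

set_option autoImplicit false

open Cfsg Subgroup
open Cfsg.Agent.Intrinsic.Basic
open Cfsg.Agent.GH.Defs Cfsg.Agent.GH.XSet Cfsg.Agent.GH.Branches
open Cfsg.Agent.GH.L3S.Defs
open Cfsg.Agent.Walter.SylowIn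

namespace Cfsg.Agent.GH.L3S.Main

universe u

/-- S1173 (strongly closed subgroups: the perfect core of the centralizer is normal); a hypothesis here to keep the odd
order theorem out of the imports. -/
def SC1173 (G : Type*) [Group G] : Prop :=
  oddCore G = ⊥ → ∀ (S : Sylow 2 G) (T : Subgroup G), IsStronglyClosed T (S : Subgroup G) →
    ((⨅ n : ℕ, derivedSeries ↥(centralizer (T : Set G)) n).map
      (centralizer (T : Set G)).subtype).Normal

/-- `TwoFusion.ClosedCommutator.commutator_le`; a hypothesis here to keep the odd order theorem out of the imports. -/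
def SCComm (G : Type*) [Group G] : Prop :=
  ∀ (P : Sylow 2 G) (A B : Subgroup G), A ⊓ B = ⊥ → IsStronglyClosed A (P : Subgroup G) →
    IsStronglyClosed B (P : Subgroup G) →
    ⁅normalClosure (A : Set G), normalClosure (B : Set G)⁆ ≤ oddCore G

/-- CASE C is impossible. -/
theorem false_of_caseC {G : Type*} [Group G] [Finite G] (h1173 : SC1173 G) (h : Hyp G) {X : Set G}
    (hX : XBase X) (hne : X.Nonempty) (hC : ∀ x ∈ X, ∀ u ∈ X, Commute x u → Fixes u (KK x)) :
    False := by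
  have := h.simple
  obtain ⟨y, hy, t, ht, hyt, hf⟩ := LemmaS.lemmaS h.exists_not_comm h1173 hX hne
  exact hf (hC y hy t ht hyt)

/-- CASE B is impossible. -/
theorem false_of_caseB {G : Type*} [Group G] [Finite G] (h : Hyp G) (ho : AllOdd G) {X : Set G}
    {N : ℕ} (hX : World X N) (hB : ∀ y ∈ X, ∀ v ∈ KK y, orderOf v = 2 → v ∉ X) {x z : G}
    (hx : x ∈ X) (hz : z ∈ KK x) (hz2 : orderOf z = 2) (hxz : x * z ∈ X) : False := by
  have : Fact (Nat.Prime 2) := ⟨Nat.prime_two⟩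
  obtain ⟨T, hT⟩ := exists_sylIn 2 (L3.TFrame.C x)
  obtain ⟨z', B⟩ := L3.TFrame.exists_bdata (WFrame.toFrame hX) hB hx hz hz2 hxz hT
  exact CaseBFin.false_of_bdata B (hX.sdf x hx) h ho

/-- The three cases. -/
theorem typeL5_of_world {G : Type*} [Group G] [Finite G] (h1173 : SC1173 G) (hcl : SCComm G)
    (h : Hyp G) (ho : AllOdd G) {X : Set G} {N : ℕ} (hX : World X N) (hne : X.Nonempty) :
    ∃ S : Sylow 2 G, TypeL5 ↥(S : Subgroup G) := by
  have := h.simple
  rcases (WFrame.toFrame hX).trichotomy with ⟨x, hx, z, hzx, hz, -⟩ |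
    ⟨h1, x, hx, z, hz, hz2, hxz⟩ | h1
  · exact CaseA.main h.exists_not_comm hcl (WFrame.toFrame hX) hx hz hzx
  · exact (false_of_caseB h ho hX h1 hx hz hz2 hxz).elim
  · exact (false_of_caseC h1173 h hX.toXBase hne h1).elim

theorem sdf_of_isL33 {L : Type*} [Group L] (h : IsL33 L) : SDF L := by
  obtain ⟨F, _, _, hF, ⟨e⟩⟩ := h
  exact ModelL33.sdf_l33 hF e

/-- **The branch GH-L3**: all tops are `PSL₂(q)`, `A₇`, `PSL₃(3)`, `PSU₃(3)`, `M₁₁`, one is `PSL₃(3)`,
`PSU₃(3)` or `M₁₁`. -/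
theorem typeL5 {G : Type u} [Group G] [Finite G] (h1173 : SC1173 G) (hcl : SCComm G)
    (h : Hyp G) (ho : AllOdd G)
    (htop : ∀ (x : G) (K : Subgroup G), Comp2 x K → Top2 (STop K) ∨ Top3 (STop K))
    (hex : ∃ (x : G) (K : Subgroup G), Comp2 x K ∧ Top3 (STop K)) :
    ∃ S : Sylow 2 G, TypeL5 ↥(S : Subgroup G) := by
  obtain ⟨X, N, hX, hne⟩ := WorldOf.exists_world (fun M _ _ hM => ModelM11.sdf_m11 hM)
    (fun M _ _ hM => sdf_of_isL33 hM) h ho htop hex
  exact typeL5_of_world h1173 hcl h ho hX hne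

/-- `BranchL3`, with S1173 and `ClosedCommutator.commutator_le` as inputs. -/
theorem branchL3 (h1173 : ∀ (G : Type u) [Group G] [Finite G], SC1173 G)
    (hcl : ∀ (G : Type u) [Group G] [Finite G], SCComm G) : BranchL3.{u} := by
  intro G _ _ h ho htop hex
  obtain ⟨S, hS⟩ := typeL5 (h1173 G) (hcl G) h ho htop hex
  exact Or.inl (Or.inl ⟨S, by unfold SType; tauto⟩)

end Cfsg.Agent.GH.L3S.Main
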