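import Cfsg.Agent.GH.L3.Pair
import Cfsg.Agent.GH.L3S.SD
import Cfsg.Agent.GH.QAWreath
import Cfsg.Agent.GH.QA.ModelL5

/-!
# GH-L3, SD case, CASE A: `x, z ∈ X`, `z ∈ KK x`

`LemmaP X` is LEMMA P: for `x, u ∈ X` commuting, `u` not fixing `KK x`, `T` Sylow in `C(x) ∩ C(u)`: either
`u = z`, `x = z'`, or `z = z'` and `x z, u z ∈ X`, where `z`, `z'` are the central involutions of `T ∩ KK x`,
`T ∩ KK u`.

Result (`main`): `S = SD₁₆ ≀ 2`, type `PSL₅(3)`.
-/

set_option autoImplicit false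

open Cfsg Subgroup
open Cfsg.Agent.SignalizersComponents
open Cfsg.Agent.SignalizersComponents.IntrinsicBasic
open Cfsg.Agent.Intrinsic.Basic Cfsg.Agent.Intrinsic.Cen
open Cfsg.Agent.GH.Defs Cfsg.Agent.GH.XSet
open Cfsg.Agent.Walter.SylowIn
open Cfsg.Agent.GH.L3.TFrame
open scoped commutatorElement

namespace Cfsg.Agent.GH.L3S.CaseA

variable {G : Type*} [Group G] {X : Set G} {N : ℕ}

/-- LEMMA P. -/
def LemmaP (X : Set G) : Prop := ∀ x ∈ X, ∀ u ∈ X, Commute x u → ¬ Fixes u (KK x) →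
  ∀ T : Subgroup G, SylIn 2 T (C x ⊓ C u) → ∃ z z', Ctr x T z ∧ Ctr u T z' ∧
    ((u = z ∧ x = z') ∨ (z = z' ∧ x * z ∈ X ∧ u * z ∈ X))

theorem C_mul (x z : G) : C x ⊓ C (x * z) = C x ⊓ C z := by
  ext g
  simp only [mem_inf, mem_C]
  constructor
  · rintro ⟨h1, h2⟩
    refine ⟨h1, ?_⟩
    have : z = x⁻¹ * (x * z) := by group
    rw [this]
    exact (h1.inv_right).mul_right h2
  · rintro ⟨h1, h2⟩
    exact ⟨h1, h1.mul_right h2⟩

/-- A 2-element of `H` normalising the Sylow subgroup `T` of `H` is in `T`. -/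
theorem mem_syl [Finite G] {H T : Subgroup G} (hT : SylIn 2 T H) {a : G} (ha : a ∈ H)
    {n : ℕ} (hn : a ^ 2 ^ n = 1) (hN : a ∈ normalizer (T : Set G)) : a ∈ T := by
  have : Fact (Nat.Prime 2) := ⟨Nat.prime_two⟩
  refine QA.Wreath.mem_of_normalizer hT.le hT.isPGroup hT.not_dvd ha ?_ hN
  rintro ⟨y, hy⟩
  obtain ⟨k, rfl⟩ := mem_zpowers_iff.1 hy
  refine ⟨n, Subtype.ext ?_⟩
  change (a ^ k) ^ 2 ^ n = 1
  rw [← zpow_natCast, ← zpow_mul, mul_comm, zpow_mul, zpow_natCast, hn, one_zpow]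

theorem mem_normalizer_of_comm {T : Subgroup G} {a : G} (h : ∀ t ∈ T, Commute a t) :
    a ∈ normalizer (T : Set G) := by
  rw [mem_normalizer_iff]
  intro t
  constructor
  · intro ht
    rw [(h t ht).eq, mul_inv_cancel_right]
    exact ht
  · intro ht
    have h1 := (h _ ht).eq
    have h2 : t = a⁻¹ * (a * t * a⁻¹ * a) := by group
    rw [h2, ← h1]
    have h3 : a⁻¹ * (a * (a * t * a⁻¹)) = a * t * a⁻¹ := by group
    rw [h3]
    exact ht

variable [Finite G]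

theorem eq_one_mem (h : Frame X N) {x : G} (hx : x ∈ X) : x ∉ KK x := by
  intro h5
  have := h.eq_one hx h5 (h.toXBase.fixes_self hx) (n := 1)
    (by rw [pow_one, pow_two, h.toXBase.sq hx])
  exact h.toXBase.ne_one hx this

theorem mul_mem_X (h : Frame X N) {x u z : G} {T : Subgroup G} (hx : x ∈ X) (hu : u ∈ X)
    (hxu : Commute x u) (hxT : x ∈ T) (hz : Alt u x T z) (hzx : z ∈ KK x) : x * z ∈ X := by
  rcases hz with ⟨h1, h2⟩ | h1
  · have hcz : Commute x z := h1.comm x hxT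
    refine h.mem_X hu (orderOf_eq_two ?_ ?_) ?_ h2
    · calc x * z * (x * z) = x * (z * x) * z := by group
        _ = x * (x * z) * z := by rw [hcz.eq]
        _ = (x * x) * (z * z) := by group
        _ = 1 := by rw [h.toXBase.sq hx, h1.sq, one_mul]
    · intro h3
      have h4 : x = z := by
        have h5 : x = x * z * z⁻¹ := by group
        rw [h3, one_mul, inv_eq_of_mul_eq_one_left h1.sq] at h5
        exact h5
      rw [← h4] at hzx
      exact eq_one_mem h hx hzx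
    · exact hxu.mul_left (h.toXBase.comm_of_mem hu h1.mem.2)
  · obtain ⟨c, -, hc⟩ := h1.fus
    rw [← hc]
    exact h.conj x hx c

theorem lemmaP (h : Frame X N) : LemmaP X := by
  intro x hx u hu hxu hn T hT
  obtain ⟨z, hz⟩ := h.pair x hx u hu hxu hn T hT
  have hT' : SylIn 2 T (C u ⊓ C x) := by rw [inf_comm]; exact hT
  have hn' : ¬ Fixes x (KK u) := fun h1 => hn (h.toXSet.fixes_symm hu hx hxu.symm h1)
  obtain ⟨z', hz'⟩ := h.pair u hu x hx hxu.symm hn' T hT'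
  have hxT : x ∈ T := mem_syl hT ⟨mem_C.2 (Commute.refl x), mem_C.2 hxu⟩ (n := 1)
    (by rw [pow_one, pow_two, h.toXBase.sq hx]) (mem_normalizer_of_comm fun t ht =>
      (mem_C.1 (hT.le ht).1).symm)
  have huT : u ∈ T := mem_syl hT ⟨mem_C.2 hxu.symm, mem_C.2 (Commute.refl u)⟩ (n := 1)
    (by rw [pow_one, pow_two, h.toXBase.sq hu]) (mem_normalizer_of_comm fun t ht =>
      (mem_C.1 (hT.le ht).2).symm)
  refine ⟨z, z', Alt.ctr hz, Alt.ctr hz', ?_⟩
  rcases h.lemmaP hx hu hxu hn hT hz hz' with rfl | h1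
  · refine Or.inr ⟨rfl, mul_mem_X h hx hu hxu hxT hz' ?_, mul_mem_X h hu hx hxu.symm huT hz ?_⟩
    · exact (Alt.ctr hz).mem.2
    · exact (Alt.ctr hz').mem.2
  · exact Or.inl h1

/-- `z ∈ X`, `z ∈ KK x` give `x ∈ KK z`. -/
theorem symm (h : Frame X N) (hP : LemmaP X) {x z : G} (hx : x ∈ X) (hz : z ∈ X)
    (hzx : z ∈ KK x) : x ∈ KK z := by
  have hc : Commute x z := (h.toXBase.comm_of_mem hx hzx).symm
  have hz2 : z * z = 1 := h.toXBase.sq hz
  have hn : ¬ Fixes z (KK x) := by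
    intro hf
    have := h.eq_one hx hzx hf (n := 1) (by rw [pow_one, pow_two, hz2])
    exact h.toXBase.ne_one hz this
  obtain ⟨T, hT⟩ := exists_sylIn 2 (C x ⊓ C z)
  obtain ⟨z1, z1', h1, h2, h3⟩ := hP x hx z hz hc hn T hT
  rcases h3 with ⟨-, rfl⟩ | ⟨rfl, -, -⟩
  · exact h2.mem.2
  · exfalso
    have hzT : z ∈ T := mem_syl hT ⟨mem_C.2 hc.symm, mem_C.2 (Commute.refl z)⟩ (n := 1)
      (by rw [pow_one, pow_two, hz2]) (mem_normalizer_of_comm fun t ht => by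
        exact (mem_C.1 (hT.le ht).2).symm)
    have h4 : z = 1 ∨ z = z1 := h1.uniq z ⟨hzT, hzx⟩ fun p hp => (mem_C.1 (hT.le hp.1).2).symm
    rcases h4 with h4 | h4
    · exact h.toXBase.ne_one hz h4
    · have h5 : z ∈ KK z := by
        have := h2.mem.2
        rwa [← h4] at this
      have := h.eq_one hz h5 (h.toXBase.fixes_self hz) (n := 1) (by rw [pow_one, pow_two, hz2])
      exact h.toXBase.ne_one hz this

/-- `x z ∉ X`. -/
theorem mul_not_mem (h : Frame X N) (hP : LemmaP X) {x z : G} (hx : x ∈ X) (hz : z ∈ X)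
    (hzx : z ∈ KK x) : x * z ∉ X := by
  intro hw
  have hc : Commute x z := (h.toXBase.comm_of_mem hx hzx).symm
  have hz2 : z * z = 1 := h.toXBase.sq hz
  have hzz : ¬ z ∈ KK z := by
    intro h5
    have := h.eq_one hz h5 (h.toXBase.fixes_self hz) (n := 1) (by rw [pow_one, pow_two, hz2])
    exact h.toXBase.ne_one hz this
  have hxx : Fixes x (KK x) := h.toXBase.fixes_self hx
  have hn : ¬ Fixes (x * z) (KK x) := by
    intro hf
    have h1 : Fixes z (KK x) := by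
      have := fixes_mul (fixes_inv hxx) hf
      simpa using this
    have := h.eq_one hx hzx h1 (n := 1) (by rw [pow_one, pow_two, hz2])
    exact h.toXBase.ne_one hz this
  obtain ⟨T, hT⟩ := exists_sylIn 2 (C x ⊓ C (x * z))
  obtain ⟨z1, z1', h1, h2, h3⟩ := hP x hx (x * z) hw ((Commute.refl x).mul_right hc) hn T hT
  rw [C_mul] at hT
  have hzT : z ∈ T := mem_syl hT ⟨mem_C.2 hc.symm, mem_C.2 (Commute.refl z)⟩ (n := 1)
    (by rw [pow_one, pow_two, hz2]) (mem_normalizer_of_comm fun t ht => by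
      exact (mem_C.1 (hT.le ht).2).symm)
  have h4 : z = z1 := by
    rcases h1.uniq z ⟨hzT, hzx⟩ fun p hp => (mem_C.1 (hT.le hp.1).2).symm with h4 | h4
    · exact absurd h4 (h.toXBase.ne_one hz)
    · exact h4
  rcases h3 with ⟨h3, -⟩ | ⟨h3, -, -⟩
  · rw [← h4] at h3
    exact h.toXBase.ne_one hx (mul_eq_right.1 h3)
  · have h5 : z ∈ KK (x * z) := by
      have := h2.mem.2
      rwa [← h3, ← h4] at this
    have h6 := symm h hP hw hz h5
    have h7 := symm h hP hx hz hzx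
    apply hzz
    have h8 := mul_mem (inv_mem h7) h6
    rwa [inv_mul_cancel_left] at h8

/-- There is `T` Sylow in `C(x)` centralising `z`. -/
theorem exists_syl (h : Frame X N) {x z : G} (hx : x ∈ X) (hzx : z ∈ KK x)
    (hz2 : orderOf z = 2) : ∃ T, SylIn 2 T (C x) ∧ T ≤ C z := by
  obtain ⟨T0, hT0⟩ := exists_sylIn 2 (C x)
  have : Fact (Nat.Prime 2) := ⟨Nat.prime_two⟩
  obtain ⟨z0, h0⟩ := h.full x hx T0 hT0
  obtain ⟨c, hc, hcz⟩ := h.conjK x hx z0 h0.mem.2 z hzx h0.ord hz2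
  have hcC : c ∈ C x := mem_C.2 (h.toXBase.comm_of_mem hx hc)
  refine ⟨T0.map (MulAut.conj c).toMonoidHom, ?_, ?_⟩
  · refine sylIn_of_card_le hT0 ?_ (hT0.isPGroup.map _) ?_
    · rintro _ ⟨t, ht, rfl⟩
      exact mul_mem (mul_mem hcC (hT0.le ht)) (inv_mem hcC)
    · rw [card_map_of_injective (MulAut.conj c).injective]
  · rintro _ ⟨t, ht, rfl⟩
    rw [mem_C, ← hcz]
    change c * t * c⁻¹ * (c * z0 * c⁻¹) = c * z0 * c⁻¹ * (c * t * c⁻¹)
    have h1 := (h0.comm t ht).eq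
    calc c * t * c⁻¹ * (c * z0 * c⁻¹) = c * (t * z0) * c⁻¹ := by group
      _ = c * (z0 * t) * c⁻¹ := by rw [h1]
      _ = _ := by group

/-- The situation of CASE A. -/
structure Sit (X : Set G) (x z : G) (T : Subgroup G) : Prop where
  xX : x ∈ X
  zX : z ∈ X
  zx : z ∈ KK x
  xz : x ∈ KK z
  nX : x * z ∉ X
  sx : SylIn 2 T (C x)
  sz : SylIn 2 T (C z)

theorem exists_sit (h : Frame X N) {x z : G} (hx : x ∈ X) (hz : z ∈ X)
    (hzx : z ∈ KK x) : ∃ T, Sit X x z T := by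
  have : Fact (Nat.Prime 2) := ⟨Nat.prime_two⟩
  have hP := lemmaP h
  have hxz := symm h hP hx hz hzx
  obtain ⟨T, hT, hTz⟩ := exists_syl h hx hzx (h.inv z hz)
  obtain ⟨T', hT', hTz'⟩ := exists_syl h hz hxz (h.inv x hx)
  have h1 : SylIn 2 T (C x ⊓ C z) := hT.of_le (le_inf hT.le hTz) inf_le_left
  have h2 : SylIn 2 T' (C x ⊓ C z) := hT'.of_le (le_inf hTz' hT'.le) inf_le_right
  exact ⟨T, hx, hz, hzx, hxz, mul_not_mem h hP hx hz hzx, hT,
    sylIn_of_card_le hT' hTz hT.isPGroup (h2.card_eq h1).le⟩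

namespace Sit

variable {x z : G} {T : Subgroup G}

omit [Finite G] in
theorem comm (s : Sit X x z T) (h : Frame X N) : Commute x z := (h.toXBase.comm_of_mem s.xX s.zx).symm

omit [Finite G] in
theorem swap (s : Sit X x z T) (h : Frame X N) : Sit X z x T where
  xX := s.zX
  zX := s.xX
  zx := s.xz
  xz := s.zx
  nX := by
    rw [← (s.comm h).eq]
    exact s.nX
  sx := s.sz
  sz := s.sx

theorem x_mem (s : Sit X x z T) (h : Frame X N) : x ∈ T :=
  mem_syl s.sx (mem_C.2 (Commute.refl x)) (n := 1)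
    (by rw [pow_one, pow_two, h.toXBase.sq s.xX]) (mem_normalizer_of_comm fun _ ht =>
      (mem_C.1 (s.sx.le ht)).symm)

theorem z_mem (s : Sit X x z T) (h : Frame X N) : z ∈ T := (s.swap h).x_mem h

theorem full (s : Sit X x z T) (h : Frame X N) : Full x T z := by
  obtain ⟨z1, h1⟩ := h.full x s.xX T s.sx
  rcases h1.uniq z ⟨s.z_mem h, s.zx⟩ fun p hp => (mem_C.1 (s.sz.le hp.1)).symm with h2 | h2
  · exact absurd h2 (h.toXBase.ne_one s.zX)
  · rw [h2]; exact h1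

theorem ne (s : Sit X x z T) (h : Frame X N) : x ≠ z := by
  intro hxz
  apply eq_one_mem h s.xX
  have := s.zx
  rwa [← hxz] at this

theorem inf_eq (s : Sit X x z T) (h : Frame X N) : (T ⊓ KK z) ⊓ (T ⊓ KK x) = ⊥ := by
  rw [eq_bot_iff]
  intro v hv
  by_contra hne
  have hT := s.sx.isPGroup
  have h1 := (s.full h).toCtr.mem_of_normal (R := (T ⊓ KK z) ⊓ (T ⊓ KK x)) hT inf_le_right
    (fun t ht a ha => ⟨h.conj_mem s.zX s.sz.le ht ha.1, h.conj_mem s.xX s.sx.le ht ha.2⟩)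
    ⟨v, hv, fun h2 => hne (mem_bot.2 h2)⟩
  exact eq_one_mem h s.zX h1.1.2

theorem comm_PP (s : Sit X x z T) (h : Frame X N) : ∀ a ∈ T ⊓ KK z, ∀ b ∈ T ⊓ KK x,
    a * b = b * a := by
  intro a ha b hb
  have h1 : a * b * a⁻¹ * b⁻¹ ∈ (T ⊓ KK z) ⊓ (T ⊓ KK x) := by
    refine ⟨?_, ?_⟩
    · have h2 : a * b * a⁻¹ * b⁻¹ = a * (b * a⁻¹ * b⁻¹) := by group
      rw [h2]
      exact (T ⊓ KK z).mul_mem ha (h.conj_mem s.zX s.sz.le hb.1 ((T ⊓ KK z).inv_mem ha))
    · exact (T ⊓ KK x).mul_mem (h.conj_mem s.xX s.sx.le ha.1 hb) ((T ⊓ KK x).inv_mem hb)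
  rw [s.inf_eq h, mem_bot] at h1
  rw [mul_inv_eq_one, mul_inv_eq_iff_eq_mul] at h1
  exact h1

/-- `T = P' × P`. -/
theorem sup_eq (s : Sit X x z T) (h : Frame X N) : (T ⊓ KK z) ⊔ (T ⊓ KK x) = T := by
  obtain ⟨u, y, h1⟩ := SD.exists_crd (s.full h).sd (s.full h).card
  obtain ⟨u', y', h1'⟩ := SD.exists_crd ((s.swap h).full h).sd ((s.swap h).full h).card
  exact (SD.sup_eq s.sx.isPGroup h.rank inf_le_left inf_le_left
    (fun t ht p hp => h.conj_mem s.zX s.sz.le ht hp)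
    (fun t ht p hp => h.conj_mem s.xX s.sx.le ht hp) (s.comm_PP h) (s.inf_eq h) h1' h1
    ((s.swap h).full h).card (s.full h).card).symm

/-- `Z(T) = {1, x, z, x z}`. -/
theorem center (s : Sit X x z T) (h : Frame X N) {a : G} (ha : a ∈ T)
    (hc : ∀ t ∈ T, Commute a t) : a = 1 ∨ a = x ∨ a = z ∨ a = x * z := by
  rw [← s.sup_eq h, SD.mem_sup (s.comm_PP h)] at ha
  obtain ⟨p, hp, q, hq, rfl⟩ := ha
  have h1 : p = 1 ∨ p = x := by
    refine ((s.swap h).full h).uniq p hp fun r hr => ?_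
    have h2 := (hc r hr.1).eq
    have h3 : Commute q r := (s.comm_PP h r hr q hq).symm
    have h4 : p = p * q * q⁻¹ := by group
    rw [h4]
    exact (hc r hr.1).mul_left h3.inv_left
  have h2 : q = 1 ∨ q = z := by
    refine (s.full h).uniq q hq fun r hr => ?_
    have h3 : Commute p r := s.comm_PP h p hp r hr
    have h4 : q = p⁻¹ * (p * q) := by group
    rw [h4]
    exact h3.inv_left.mul_left (hc r hr.1)
  rcases h1 with rfl | rfl <;> rcases h2 with rfl | rfl <;> simp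

/-- The elements of `X` in `C(x)`. -/
theorem fixes_or_mem (s : Sit X x z T) (h : Frame X N) {u : G} (hu : u ∈ X) (hc : Commute x u) :
    Fixes u (KK x) ∨ u ∈ KK x := by
  by_cases hn : Fixes u (KK x)
  · exact Or.inl hn
  right
  obtain ⟨T1, hT1⟩ := exists_sylIn 2 (C x ⊓ C u)
  obtain ⟨z1, z1', h1, h2, h3⟩ := lemmaP h x s.xX u hu hc hn T1 hT1
  rcases h3 with ⟨h3, -⟩ | ⟨-, h3, -⟩
  · rw [h3]; exact h1.mem.2
  · exfalso
    obtain ⟨c, hc, hcz⟩ := h.conjK x s.xX z1 h1.mem.2 z s.zx h1.ord (h.inv z s.zX)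
    have h4 : c * (x * z1) * c⁻¹ = x * z := by
      have h5 := (h.toXBase.comm_of_mem s.xX hc).eq
      calc c * (x * z1) * c⁻¹ = (c * x) * z1 * c⁻¹ := by group
        _ = x * (c * z1 * c⁻¹) := by rw [h5]; group
        _ = x * z := by rw [hcz]
    apply s.nX
    rw [← h4]
    exact h.conj _ h3 c

end Sit

/-! ### the wreathed end -/

theorem map_conj_eq (h : Frame X N) {T : Subgroup G} {x z t : G} (hx : x ∈ X)
    (htx : t * x * t⁻¹ = z) (hT : t ∈ normalizer (T : Set G)) :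
    (T ⊓ KK x).map (MulAut.conj t).toMonoidHom = T ⊓ KK z := by
  have h1 : cj t (T ⊓ KK x) = cj t T ⊓ cj t (KK x) := cj_inf t T (KK x)
  rw [h.toXBase.cj_KK hx, htx, mem_normalizer_iff_cj.mp hT] at h1
  exact h1

theorem wreath (h : Frame X N) {x z : G} {T : Subgroup G} (s : Sit X x z T)
    (hc : IsConj x z) : ∃ S : Sylow 2 G, TypeL5 ↥(S : Subgroup G) := by
  obtain ⟨g, hg⟩ := isConj_iff.1 hc
  have hfx := (s.swap h).full h
  have hfz := s.full h
  have hinf := s.inf_eq h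
  obtain ⟨b, hb, hb2, hbx⟩ := hfx.four
  obtain ⟨S, t, htt, htS, htB, hS, hmap⟩ := QA.Wreath.wreath_end (a := x) (b := z) (g := g)
    (B := T) (W1 := T ⊓ KK z) (W2 := T ⊓ KK x) s.sx.isPGroup
    (fun p hp => (mem_C.1 (s.sx.le hp)).eq) (fun p hp => (mem_C.1 (s.sz.le hp)).eq)
    (by have : Fact (Nat.Prime 2) := ⟨Nat.prime_two⟩; exact s.sx.not_dvd) hg.symm (s.ne h)
    (s.sup_eq h) hinf (s.comm_PP h) hfx.mem hfz.mem
    (fun p hp hpc => hfx.uniq p hp hpc) (fun p hp hpc => hfz.uniq p hp hpc)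
    ⟨b, hb, fun h1 => by rw [h1] at hb2; simp at hb2, hbx⟩
    (by
      intro hcj
      obtain ⟨c, hc⟩ := isConj_iff.1 hcj
      apply s.nX
      rw [← hc]
      exact h.conj x s.xX c)
    (fun t h1 h2 h3 => ⟨map_conj_eq h s.zX h2 h3, map_conj_eq h s.xX h1 h3⟩)
  refine ⟨S, ?_⟩
  have hne : t ≠ 1 := by
    rintro rfl
    exact htB (one_mem _)
  have hconj : ∀ p ∈ T ⊓ KK z, t * p * t⁻¹ ∈ T ⊓ KK x := by
    intro p hp
    rw [← hmap]
    exact ⟨p, hp, rfl⟩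
  have hS' : (S : Subgroup G) = (T ⊓ KK z) ⊔ zpowers t := by
    rw [hS]
    apply le_antisymm
    · refine sup_le ?_ le_sup_right
      have h0 : (T ⊓ KK z) ⊔ (T ⊓ KK x) ≤ (T ⊓ KK z) ⊔ zpowers t := by
        refine sup_le le_sup_left ?_
        rw [← hmap]
        rintro _ ⟨p, hp, rfl⟩
        have h1 : t ∈ (T ⊓ KK z) ⊔ zpowers t := mem_sup_right (mem_zpowers t)
        exact Subgroup.mul_mem _ (Subgroup.mul_mem _ h1 (mem_sup_left hp)) (Subgroup.inv_mem _ h1)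
      rwa [s.sup_eq h] at h0
    · exact sup_le (inf_le_left.trans le_sup_left) le_sup_right
  have h2 : ∀ p ∈ T ⊓ KK z, ∀ q ∈ T ⊓ KK z, p * (t * q * t⁻¹) = (t * q * t⁻¹) * p :=
    fun p hp q hq => s.comm_PP h p hp _ (hconj q hq)
  have h3 : ∀ p ∈ T ⊓ KK z, ∀ q ∈ T ⊓ KK z, p = t * q * t⁻¹ → p = 1 := by
    intro p hp q hq hpq
    have h1 : p ∈ (T ⊓ KK z) ⊓ (T ⊓ KK x) := ⟨hp, by rw [hpq]; exact hconj q hq⟩
    rwa [hinf, mem_bot] at h1
  exact QA.ModelL5.typeL5_of_subgroups (S := (S : Subgroup G)) (W₁ := T ⊓ KK z) (t := t)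
    htt hS' hne h2 h3 hfx.sd

end Cfsg.Agent.GH.L3S.CaseA
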