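import Cfsg.Agent.GH.XSet
import Cfsg.Agent.GH.L2Frame

/-!
# GH-L3, SD case (`K / O(K) = M₁₁`, `PSL₃(3)`): vocabulary

* `SDF L`: the facts on the simple group `L = M₁₁`, `PSL₃(3)` used in the whole branch;
* `World X N`: `X` = the involutions `y` of `G` such that `KK y / O` is such a group.
-/

set_option autoImplicit false

open Cfsg Subgroup
open Cfsg.Agent.Intrinsic.Basic
open Cfsg.Agent.GH.Defs Cfsg.Agent.GH.XSet

namespace Cfsg.Agent.GH.L3S.Defs

/-- Inner automorphisms. -/
abbrev Inn {L : Type*} [Group L] (α : MulAut L) : Prop := ∃ l : L, α = MulAut.conj l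

/-- The fixed points of an automorphism. -/
def Fix {L : Type*} [Group L] (α : MulAut L) : Subgroup L where
  carrier := {y | α y = y}
  one_mem' := map_one α
  mul_mem' {a b} ha hb := by
    change α (a * b) = a * b
    rw [map_mul, show α a = a from ha, show α b = b from hb]
  inv_mem' {a} ha := by
    change α a⁻¹ = a⁻¹
    rw [map_inv, show α a = a from ha]

/-- Facts on `L = M₁₁`, `PSL₃(3)`.  For `M₁₁` all automorphisms are inner, so that `out`, `s4`, `outConj`,
`outCent` are vacuous. -/
structure SDF (L : Type*) [Group L] : Prop where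
  /-- one class of involutions -/
  conj : ∀ x y : L, orderOf x = 2 → orderOf y = 2 → IsConj x y
  /-- the centralizer of an involution is `GL₂(3)` -/
  gl : ∀ x : L, orderOf x = 2 →
    Nonempty (↥(centralizer ({x} : Set L)) ≃* GL (Fin 2) (ZMod 3))
  /-- an automorphism centralizing the centralizer of an involution `x` is `1` or conjugation by `x` -/
  cent : ∀ x : L, orderOf x = 2 → ∀ α : MulAut L, (∀ y, y * x = x * y → α y = y) →
    α = 1 ∨ α = MulAut.conj x
  /-- `|Out L| ≤ 2` -/
  out : ∀ α β : MulAut L, ¬ Inn α → ¬ Inn β → Inn (α * β)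
  /-- the centralizer of an outer involution is `S₄` -/
  s4 : ∀ α : MulAut L, α * α = 1 → ¬ Inn α → Nonempty (↥(Fix α) ≃* Equiv.Perm (Fin 4))
  /-- the outer involutions are conjugate -/
  outConj : ∀ α β : MulAut L, α * α = 1 → β * β = 1 → ¬ Inn α → ¬ Inn β →
    ∃ l : L, β = MulAut.conj l * α * (MulAut.conj l)⁻¹
  /-- an automorphism centralizing the centralizer of an outer involution `α` is `1` or `α` -/
  outCent : ∀ α : MulAut L, α * α = 1 → ¬ Inn α → ∀ β : MulAut L, (∀ y, α y = y → β y = y) →
    β = 1 ∨ β = α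

/-- The setting of the branch: `X` is the set of involutions `y` of `G` with `KK y / O` of type `M₁₁`
(resp. `PSL₃(3)`). -/
structure World {G : Type*} [Group G] (X : Set G) (N : ℕ) : Prop extends XSet X N where
  odd : ∀ y ∈ X, ¬ EvenCenter (KK y)
  sdf : ∀ y ∈ X, SDF (STop (KK y))
  rank : SectionalPRankLE 2 4 G

end Cfsg.Agent.GH.L3S.Defs
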