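import Cfsg.Agent.GH.L3S.Defs
import Cfsg.Agent.GH.L3.GLThree
import Cfsg.Agent.GH.L2NoComp
import Cfsg.Agent.TypeLFive.LThreeSLTwo
import Cfsg.Agent.SignalizersComponents.PConstrained
import Cfsg.Agent.SignalizersComponents.GoldschmidtFunctor
import Cfsg.Agent.S1293

/-!
# GH-L3, SD case B: the group `H = C(z) / O(C(z))`

* `constrained`: `C(z)` without 2-components: `C_H(O₂(H)) ≤ O₂(H)`;
* `exists_lift`: the centralizer of the image of an involution `x` is the image of `C(z) ∩ C(x)`;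
* `core_eq_one`: an odd order subgroup of `C(x) ∩ C(z)` normalized by `C(x) ∩ C(z)` is trivial in `H`;
* `odd_bot`: `O(C_H(x)) = 1`.
-/

set_option autoImplicit false

open Cfsg Subgroup
open Cfsg.Agent.SignalizersComponents Cfsg.Agent.Lib
open Cfsg.Agent.Intrinsic.Basic
open Cfsg.Agent.GH.Defs Cfsg.Agent.GH.Comp

namespace Cfsg.Agent.GH.L3S.HBar

variable {G : Type*} [Group G]

/-- `C(z)` -/
abbrev CC (z : G) : Subgroup G := centralizer ({z} : Set G)

/-- `C(z) / O(C(z))` -/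
abbrev HH (z : G) : Type _ := ↥(CC z) ⧸ pPrimeCore 2 ↥(CC z)

/-- The projection. -/
abbrev mkz (z : G) : CC z →* HH z := QuotientGroup.mk' (pPrimeCore 2 ↥(CC z))

theorem mem_CC {a z : G} : a ∈ CC z ↔ Commute a z := mem_centralizer_singleton_iff

theorem mkz_surjective (z : G) : Function.Surjective (mkz z) := QuotientGroup.mk'_surjective _

theorem z_mem (z : G) : z ∈ CC z := mem_CC.2 (Commute.refl z)

theorem mkz_eq_one {z : G} {g : CC z} : mkz z g = 1 ↔ g ∈ pPrimeCore 2 ↥(CC z) :=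
  QuotientGroup.eq_one_iff g

theorem isPGroup_zpowers {x : G} (hx : orderOf x = 2) : IsPGroup 2 (zpowers x) :=
  IsPGroup.of_card (n := 1) (by rw [Nat.card_zpowers, hx, pow_one])

section finite

variable [Finite G]

/-- `C_H(O₂(H)) ≤ O₂(H)` -/
theorem constrained {z : G} (hL : pLayer 2 ↥(CC z) = ⊥) :
    centralizer (pCore 2 (HH z) : Set (HH z)) ≤ pCore 2 (HH z) := by
  have : Fact (Nat.Prime 2) := ⟨Nat.prime_two⟩
  exact (PConstrained.isPConstrained_iff_quotient 2).1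
    ((PConstrained.isPConstrained_iff_pLayer_eq_bot 2).2 hL)

/-- Elements of `O(C(z))` have odd order. -/
theorem odd_of_eq_one {z : G} {g : CC z} (h : mkz z g = 1) : Odd (orderOf g) := by
  have h1 : g ∈ pPrimeCore 2 ↥(CC z) := mkz_eq_one.1 h
  have h2 : orderOf g ∣ Nat.card (pPrimeCore 2 ↥(CC z)) := by
    have := orderOf_dvd_natCard (⟨g, h1⟩ : pPrimeCore 2 ↥(CC z))
    rwa [← Subgroup.orderOf_coe] at this
  exact (Nat.coprime_two_right.1 (Lib.Cores.pPrimeCore_coprime (G := ↥(CC z)) 2)).of_dvd_nat h2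

/-- The centralizer of the image of `x`. -/
theorem exists_lift {x z : G} (hx : orderOf x = 2) (hxz : x ∈ CC z) {d : HH z}
    (hd : Commute d (mkz z ⟨x, hxz⟩)) :
    ∃ g : G, ∃ hg : g ∈ CC z, g ∈ CC x ∧ mkz z ⟨g, hg⟩ = d := by
  obtain ⟨g, hg, hgP, h⟩ := GoldschmidtFunctor.exists_centralizing (b := z) (P := zpowers x)
    (by rw [zpowers_le]; exact hxz) (isPGroup_zpowers hx) (z := d) (by
      rw [mem_centralizer_iff]
      rintro _ ⟨y, hy, rfl⟩
      obtain ⟨k, hk⟩ := mem_zpowers_iff.1 (show (y : G) ∈ zpowers x from hy)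
      have e : y = (⟨x, hxz⟩ : CC z) ^ k := Subtype.ext (by rw [← hk]; rfl)
      rw [e, map_zpow]
      exact (hd.zpow_right k).eq.symm)
  refine ⟨g, hg, ?_, h⟩
  rw [mem_CC]
  exact (mem_centralizer_iff.1 hgP x (mem_zpowers x)).symm

/-- An odd order subgroup of `C(x) ∩ C(z)` normalized by `C(x) ∩ C(z)` is trivial in `H`. -/
theorem core_eq_one {x z : G} (hx : orderOf x = 2) (hxz : x ∈ CC z)
    (hL : pLayer 2 ↥(CC z) = ⊥) {M : Subgroup G} (hMx : M ≤ CC x) (hMz : M ≤ CC z)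
    (hodd : Odd (Nat.card M)) (hn : ∀ g ∈ CC x, g ∈ CC z → ∀ m ∈ M, g * m * g⁻¹ ∈ M)
    {m : G} (hm : m ∈ M) : mkz z ⟨m, hMz hm⟩ = 1 := by
  have : Fact (Nat.Prime 2) := ⟨Nat.prime_two⟩
  set x' : CC z := ⟨x, hxz⟩ with hx'
  have hx2 : orderOf x' = 2 := by rw [← Subgroup.orderOf_coe]; exact hx
  set P : Subgroup (CC z) := zpowers x' with hP
  have hP2 : IsPGroup 2 P := isPGroup_zpowers hx2
  have hP1 : P ≠ ⊥ := by
    rw [hP, Ne, zpowers_eq_bot]
    intro h
    rw [h, orderOf_one] at hx2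
    norm_num at hx2
  have h1 := (Cfsg.Agent.S1293.result 2 hL P hP2 hP1).2
  -- the normalizer of `P` centralizes `x`
  have hNx : ∀ n : CC z, n ∈ normalizer (P : Set (CC z)) → (n : G) ∈ CC x := by
    intro n hn'
    have h2 : n * x' * n⁻¹ ∈ P := (mem_normalizer_iff.1 hn' x').1 (mem_zpowers x')
    have h3 : n * x' * n⁻¹ = x' := by
      have hxx : x' * x' = 1 := by rw [← pow_two, ← hx2, pow_orderOf_eq_one]
      obtain ⟨k, hk⟩ := mem_zpowers_iff.1 h2
      rcases Int.even_or_odd' k with ⟨j, hj | hj⟩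
      · exfalso
        have h4 : x' ^ k = 1 := by
          rw [hj, zpow_mul]
          have : x' ^ (2 : ℤ) = 1 := by
            rw [zpow_ofNat, pow_two, hxx]
          rw [this, one_zpow]
        rw [h4] at hk
        have h5 : x' = 1 := by
          have : n * x' * n⁻¹ = 1 := hk.symm
          rw [mul_inv_eq_one, mul_eq_left] at this
          exact this
        rw [h5, orderOf_one] at hx2
        norm_num at hx2
      · have h4 : x' ^ k = x' := by
          rw [hj, zpow_add, zpow_mul, zpow_one]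
          have : x' ^ (2 : ℤ) = 1 := by
            rw [zpow_ofNat, pow_two, hxx]
          rw [this, one_zpow, one_mul]
        rw [← hk, h4]
    rw [mem_CC]
    have h4 := congrArg Subtype.val h3
    change (n : G) * x * (n : G)⁻¹ = x at h4
    exact mul_inv_eq_iff_eq_mul.1 h4
  set D : Subgroup (CC z) := M.subgroupOf (CC z) with hD
  have hDN : D ≤ normalizer (P : Set (CC z)) := by
    intro y hy
    have hy1 : (y : G) ∈ CC x := hMx hy
    have hcen : y ∈ centralizer (P : Set (CC z)) := by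
      rw [mem_centralizer_iff]
      rintro _ ⟨k, rfl⟩
      have hc : Commute y x' := Subtype.ext (mem_CC.1 hy1)
      exact (hc.zpow_right k).eq.symm
    exact centralizer_le_normalizer (P : Set (CC z)) hcen
  have hDn : normalizer (P : Set (CC z)) ≤ normalizer (D : Set (CC z)) := by
    intro n hn'
    have h2 := hNx n hn'
    have h3 := hNx n⁻¹ (inv_mem hn')
    rw [mem_normalizer_iff]
    intro y
    constructor
    · intro hy
      exact hn n h2 n.2 y hy
    · intro hy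
      have h4 : ((n⁻¹ : CC z) : G) * ((n * y * n⁻¹ : CC z) : G) * ((n⁻¹ : CC z) : G)⁻¹ ∈ M :=
        hn (n⁻¹ : CC z) h3 (n⁻¹).2 _ hy
      have e : ((n⁻¹ : CC z) : G) * ((n * y * n⁻¹ : CC z) : G) * ((n⁻¹ : CC z) : G)⁻¹ = y := by
        push_cast
        group
      rw [e] at h4
      exact h4
  have hc : (Nat.card (D.subgroupOf (normalizer (P : Set (CC z))))).Coprime 2 := by
    rw [Nat.card_congr (subgroupOfEquivOfLe hDN).toEquiv, hD,
      Nat.card_congr (subgroupOfEquivOfLe hMz).toEquiv]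
    exact Nat.coprime_two_right.2 hodd
  have h2 : D.subgroupOf (normalizer (P : Set (CC z))) ≤
      pPrimeCore 2 (normalizer (P : Set (CC z))) :=
    Lib.Cores.le_pPrimeCore ((normal_subgroupOf_iff_le_normalizer hDN).2 hDn) hc
  rw [mkz_eq_one]
  apply h1
  exact ⟨⟨⟨m, hMz hm⟩, hDN hm⟩, h2 (show (⟨m, hMz hm⟩ : CC z) ∈ D from hm), rfl⟩

/-- A subgroup all of whose elements have odd order has odd order. -/
theorem odd_card_of_forall {A : Type*} [Group A] [Finite A] {N : Subgroup A}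
    (h : ∀ n ∈ N, Odd (orderOf n)) : Odd (Nat.card N) := by
  have : Fact (Nat.Prime 2) := ⟨Nat.prime_two⟩
  rw [← Nat.not_even_iff_odd]
  intro h1
  obtain ⟨n, hn⟩ := exists_prime_orderOf_dvd_card' (G := N) 2 h1.two_dvd
  have h2 := h n n.2
  rw [Subgroup.orderOf_coe, hn] at h2
  exact absurd h2 (by decide)

/-- `O(C_H(x)) = 1` -/
theorem odd_bot {x z : G} (hx : orderOf x = 2) (hxz : x ∈ CC z)
    (hL : pLayer 2 ↥(CC z) = ⊥) {N : Subgroup (HH z)}
    (hN : ∀ n ∈ N, Commute n (mkz z ⟨x, hxz⟩)) (hodd : Odd (Nat.card N))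
    (hn : ∀ d : HH z, Commute d (mkz z ⟨x, hxz⟩) → ∀ n ∈ N, d * n * d⁻¹ ∈ N) : N = ⊥ := by
  set M : Subgroup G := (N.comap (mkz z)).map (CC z).subtype ⊓ CC x with hM
  have hMz : M ≤ CC z := by
    rintro m ⟨⟨y, -, rfl⟩, -⟩
    exact y.2
  have hmem : ∀ m (hm : m ∈ CC z), m ∈ M ↔ mkz z ⟨m, hm⟩ ∈ N ∧ m ∈ CC x := by
    intro m hm
    constructor
    · rintro ⟨⟨y, hy, rfl⟩, h2⟩
      exact ⟨hy, h2⟩
    · rintro ⟨h1, h2⟩
      exact ⟨⟨⟨m, hm⟩, h1, rfl⟩, h2⟩
  have hcard : Odd (Nat.card M) := by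
    refine odd_card_of_forall fun m hm => ?_
    have h1 := (hmem m (hMz hm)).1 hm
    set r := Nat.card N with hr
    have h2 : mkz z (⟨m, hMz hm⟩ ^ r) = 1 := by
      rw [map_pow]
      have h3 : (⟨mkz z ⟨m, hMz hm⟩, h1.1⟩ : N) ^ r = 1 := pow_card_eq_one'
      exact congrArg Subtype.val h3
    have h3 := odd_of_eq_one h2
    set o := orderOf ((⟨m, hMz hm⟩ : CC z) ^ r) with ho
    have h4 : (⟨m, hMz hm⟩ : CC z) ^ (r * o) = 1 := by
      rw [pow_mul, ho, pow_orderOf_eq_one]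
    have h5 : m ^ (r * o) = 1 := congrArg Subtype.val h4
    exact (hodd.mul h3).of_dvd_nat (orderOf_dvd_of_pow_eq_one h5)
  rw [eq_bot_iff]
  intro n hnN
  obtain ⟨g, hg, hgx, rfl⟩ := exists_lift hx hxz (hN n hnN)
  rw [mem_bot]
  refine core_eq_one hx hxz hL (M := M) inf_le_right hMz hcard ?_ ((hmem g hg).2 ⟨hnN, hgx⟩)
  intro k hkx hkz m hm
  have h1 := (hmem m (hMz hm)).1 hm
  refine (hmem _ (mul_mem (mul_mem hkz (hMz hm)) (inv_mem hkz))).2 ⟨?_, mul_mem (mul_mem hkx h1.2)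
    (inv_mem hkx)⟩
  exact hn (mkz z ⟨k, hkz⟩) (by
    have h3 : Commute (⟨k, hkz⟩ : CC z) ⟨x, hxz⟩ := Subtype.ext (mem_CC.1 hkx)
    exact h3.map (mkz z)) _ h1.1

end finite

end Cfsg.Agent.GH.L3S.HBar
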