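import Cfsg.Agent.GH.L3.GLThree
import Cfsg.Agent.TypeLFive.LThreeSLTwo

/-!
# More facts on `GL₂(3)`

* `odd_normal`: no non-trivial normal subgroups of odd order;
* `not_perm`: `SL₂(3)` does not embed into `S₄`;
* automorphisms trivial on `SL₂(3)`.
-/

set_option autoImplicit false

open Subgroup

namespace Cfsg.Agent.GH.L3S.HBarGL

open Cfsg.Agent.GH.L3.GLThree (Γ)
open Cfsg.Agent.GH.L3

theorem dt_pow (g : Γ) (k : ℕ) : GLThree.dt (g ^ k) = GLThree.dt g ^ k := by
  induction k with
  | zero => rw [pow_zero, pow_zero, GLThree.dt_one]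
  | succ k ih => rw [pow_succ, GLThree.dt_mul, ih, pow_succ]

theorem dt_of_odd {g : Γ} (h : Odd (orderOf g)) : GLThree.dt g = 1 := by
  obtain ⟨k, hk⟩ := h
  have h1 : GLThree.dt (g ^ (2 * k + 1)) = 1 := by rw [← hk, pow_orderOf_eq_one, GLThree.dt_one]
  rw [dt_pow, pow_succ, pow_mul, pow_two, GLThree.sq_dec _ (GLThree.dt_ne g), one_pow,
    one_mul] at h1
  exact h1

/-- `GL₂(3)` has no non-trivial normal subgroup of odd order. -/
theorem odd_normal (N : Subgroup Γ) (hN : N.Normal) (hodd : ∀ n ∈ N, Odd (orderOf n)) :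
    N = ⊥ := by
  let f : Matrix.SpecialLinearGroup (Fin 2) (ZMod 3) →* Γ := Matrix.SpecialLinearGroup.toGL
  have hf : Function.Injective f := Matrix.SpecialLinearGroup.toGL_injective
  have h1 : N.comap f = ⊥ := by
    refine Cfsg.Agent.TypeLFive.LThreeSLTwo.odd_bot (by rw [ZMod.card]; decide) _ ?_ ?_
    · have : Fact (Nat.Prime 2) := ⟨Nat.prime_two⟩
      rw [← Nat.not_even_iff_odd]
      intro h1
      obtain ⟨n, hn⟩ := exists_prime_orderOf_dvd_card' (G := N.comap f) 2 h1.two_dvd
      have h2 := hodd _ n.2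
      rw [orderOf_injective f hf, Subgroup.orderOf_coe, hn] at h2
      exact absurd h2 (by decide)
    · intro g n hn
      change f (g * n * g⁻¹) ∈ N
      rw [map_mul, map_mul, map_inv]
      exact hN.conj_mem _ hn _
  rw [eq_bot_iff]
  intro n hn
  have h2 := dt_of_odd (hodd n hn)
  rw [GLThree.dt_eq] at h2
  obtain ⟨s, hs⟩ : ∃ s : Matrix.SpecialLinearGroup (Fin 2) (ZMod 3), f s = n :=
    ⟨⟨(n : Matrix (Fin 2) (Fin 2) (ZMod 3)), h2⟩, Units.ext rfl⟩
  have h4 : s ∈ N.comap f := by
    change f s ∈ N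
    rw [hs]
    exact hn
  rw [h1, mem_bot] at h4
  rw [mem_bot, ← hs, h4, map_one]

set_option maxRecDepth 100000 in
theorem perm_dec : ∀ σ : Equiv.Perm (Fin 4), σ * σ * σ * σ * σ * σ = 1 →
    σ * σ = 1 ∨ σ * σ * σ = 1 := by decide

/-- `SL₂(3)` does not embed into `S₄`. -/
theorem not_perm (f : GLThree.S →* Equiv.Perm (Fin 4)) (hf : Function.Injective f) : False := by
  set u : GLThree.S := ⟨GLThree.u, GLThree.uS⟩ with hu
  set z : GLThree.S := ⟨GLThree.z, GLThree.zS⟩ with hz
  have huu : u * u * u = 1 := Subtype.ext GLThree.uuu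
  have hzz : z * z = 1 := Subtype.ext GLThree.zz
  have hc : u * z = z * u := Subtype.ext (GLThree.zcen _)
  have hz1 : z ≠ 1 := fun h => GLThree.z_ne (congrArg Subtype.val h)
  have hu1 : u ≠ 1 := fun h => GLThree.u_ne_one (congrArg Subtype.val h)
  have e2 : (u * z) * (u * z) = u * u := by
    calc (u * z) * (u * z) = u * (z * u) * z := by group
      _ = u * u * (z * z) := by rw [← hc]; group
      _ = u * u := by rw [hzz, mul_one]
  have e3 : (u * z) * (u * z) * (u * z) = z := by
    rw [e2]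
    calc u * u * (u * z) = u * u * u * z := by group
      _ = z := by rw [huu, one_mul]
  have e6 : (u * z) * (u * z) * (u * z) * (u * z) * (u * z) * (u * z) = 1 := by
    calc (u * z) * (u * z) * (u * z) * (u * z) * (u * z) * (u * z) =
        ((u * z) * (u * z) * (u * z)) * ((u * z) * (u * z) * (u * z)) := by group
      _ = 1 := by rw [e3, hzz]
  rcases perm_dec (f (u * z)) (by simp only [← map_mul]; rw [e6, map_one]) with h | h
  · simp only [← map_mul] at h
    rw [e2] at h
    have h1 : u * u = 1 := hf (by rw [h, map_one])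
    rw [h1, one_mul] at huu
    exact hu1 huu
  · simp only [← map_mul] at h
    rw [e3] at h
    exact hz1 (hf (by rw [h, map_one]))

/-- A homomorphism trivial on `SL₂(3)`. -/
theorem hom_b {β : Γ →* Γ} (h : ∀ s ∈ GLThree.S, β s = s) :
    β GLThree.b = GLThree.b ∨ β GLThree.b = GLThree.b * GLThree.z := by
  have h1 : GLThree.b⁻¹ * β GLThree.b = 1 ∨ GLThree.b⁻¹ * β GLThree.b = GLThree.z := by
    apply GLThree.cen_S
    intro s hs
    have h2 : GLThree.b * s * GLThree.b⁻¹ ∈ GLThree.S := GLThree.S_normal.conj_mem s hs _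
    have h3 := h _ h2
    rw [map_mul, map_mul, map_inv, h s hs] at h3
    calc GLThree.b⁻¹ * β GLThree.b * s
        = GLThree.b⁻¹ * (β GLThree.b * s * (β GLThree.b)⁻¹) * β GLThree.b := by group
      _ = s * (GLThree.b⁻¹ * β GLThree.b) := by rw [h3]; group
  rcases h1 with h1 | h1
  · exact Or.inl (inv_mul_eq_one.1 h1).symm
  · right
    rw [← h1]; group

theorem hom_eq {β : Γ →* Γ} (h : ∀ s ∈ GLThree.S, β s = s) (hb : β GLThree.b = GLThree.b)
    (g : Γ) : β g = g := by
  rcases GLThree.S_or g with h1 | h1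
  · exact h g h1
  · have h2 := h _ h1
    rw [map_mul, hb] at h2
    exact mul_right_cancel h2

/-- Of two homomorphisms trivial on `SL₂(3)`, or their product, one is trivial. -/
theorem hom_two {β β' : Γ →* Γ} (h : ∀ s ∈ GLThree.S, β s = s) (h' : ∀ s ∈ GLThree.S, β' s = s) :
    (∀ g, β g = g) ∨ (∀ g, β' g = g) ∨ (∀ g, β (β' g) = g) := by
  rcases hom_b h with h1 | h1
  · exact Or.inl (hom_eq h h1)
  · rcases hom_b h' with h2 | h2
    · exact Or.inr (Or.inl (hom_eq h' h2))
    · refine Or.inr (Or.inr fun g => ?_)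
      refine hom_eq (β := β.comp β') (fun s hs => ?_) ?_ g
      · rw [MonoidHom.comp_apply, h' s hs, h s hs]
      · rw [MonoidHom.comp_apply, h2, map_mul, h1, h _ GLThree.zS, mul_assoc, GLThree.zz, mul_one]

end Cfsg.Agent.GH.L3S.HBarGL
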