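import Cfsg.Agent.GH.L3S.HBar
import Cfsg.Agent.GH.L3S.HBarGL
import Cfsg.Agent.GH.L3.DStr
import Mathlib.GroupTheory.Transfer

/-!
# GH-L3, SD case B: `GL₂(3) → C(z)/O(C(z))` and `DStr`

`In x z K`: `K` a 2-component of `C(x)`, normal in `C(x)`, `K/O(K)` (mod centre) `= M₁₁` or `PSL₃(3)` (`SDF`),
`z ∈ K` an involution whose centralizer has no 2-component, `x` the only 2-element fixing `K`.

`exists_e`: the homomorphism `e : GL₂(3) → C(z)/O(C(z))` and the structure `DStr` of the centralizer of `x`.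
-/

set_option autoImplicit false

open Cfsg Subgroup
open Cfsg.Agent.SignalizersComponents Cfsg.Agent.Lib
open Cfsg.Agent.Intrinsic.Basic
open Cfsg.Agent.GH.Defs Cfsg.Agent.GH.Comp
open Cfsg.Agent.GH.L2Frame Cfsg.Agent.GH.L3S.Defs
open Cfsg.Agent.GH.L3S.HBar Cfsg.Agent.GH.L3.DStr
open Cfsg.Agent.GH.L3
open Cfsg.Agent.GH.L3.GLThree (Γ)

namespace Cfsg.Agent.GH.L3S.HBarE

variable {G : Type*} [Group G]

/-- The input. -/
structure In (x z : G) (K : Subgroup G) : Prop where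
  comp : IsComp (CC x) K
  odd : ¬ EvenCenter K
  sdf : SDF (STop K)
  norm : CC x ≤ normalizer (K : Set G)
  x2 : orderOf x = 2
  zK : z ∈ K
  z2 : orderOf z = 2
  layer : pLayer 2 ↥(CC z) = ⊥
  q2 : ∀ q ∈ CC x, Fixes q K → (∃ n : ℕ, q ^ 2 ^ n = 1) → q = 1 ∨ q = x

section order

/-- A group with a central involution which is the only one of its Sylow 2-subgroup: odd order normal
complement. -/
theorem exists_odd_complement {F : Type*} [Group F] [Finite F] {x : F} (hx : orderOf x = 2)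
    (hc : ∀ f : F, f * x = x * f) (hq : ∀ q : F, (∃ n : ℕ, q ^ 2 ^ n = 1) → q = 1 ∨ q = x) :
    ∃ N : Subgroup F, Odd (Nat.card N) ∧ (∀ f : F, Odd (orderOf f) → f ∈ N) ∧
      ∀ f : F, f ∈ N ∨ f * x ∈ N := by
  have : Fact (Nat.Prime 2) := ⟨Nat.prime_two⟩
  have hxx : x * x = 1 := by rw [← pow_two, ← hx, pow_orderOf_eq_one]
  obtain ⟨P, hP⟩ := (isPGroup_zpowers hx).exists_le_sylow
  have hxP : x ∈ P := hP (mem_zpowers x)
  have hP2 : ∀ p ∈ P, p = 1 ∨ p = x := by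
    intro p hp
    obtain ⟨n, hn⟩ := P.2 ⟨p, hp⟩
    exact hq p ⟨n, by simpa using congrArg Subtype.val hn⟩
  have hcen : normalizer ((P : Subgroup F) : Set F) ≤ centralizer ((P : Subgroup F) : Set F) := by
    intro f _
    rw [mem_centralizer_iff]
    intro p hp
    rcases hP2 p hp with rfl | rfl
    · rw [one_mul, mul_one]
    · exact (hc f).symm
  set φ := MonoidHom.transferSylow P hcen with hφ
  refine ⟨φ.ker, ?_, ?_, ?_⟩
  · rw [← Nat.not_even_iff_odd]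
    intro h
    exact MonoidHom.not_dvd_card_ker_transferSylow P hcen h.two_dvd
  · intro f hf
    rw [MonoidHom.mem_ker]
    have h1 : Odd (orderOf (φ f)) := hf.of_dvd_nat (orderOf_map_dvd φ f)
    have h2 : φ f * φ f = 1 := by
      apply Subtype.ext
      rcases hP2 _ (φ f).2 with h2 | h2
      · change ((φ f : P) : F) * ((φ f : P) : F) = 1
        rw [h2, one_mul]
      · change ((φ f : P) : F) * ((φ f : P) : F) = 1
        rw [h2, hxx]
    obtain ⟨k, hk⟩ := h1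
    have h3 : (φ f) ^ (2 * k + 1) = 1 := by rw [← hk, pow_orderOf_eq_one]
    rwa [pow_succ, pow_mul, pow_two, h2, one_pow, one_mul] at h3
  · intro f
    have h1 : φ x = ⟨x, hxP⟩ := by
      rw [hφ, MonoidHom.transferSylow_eq_pow P hcen x hxP]
      apply Subtype.ext
      change x ^ (P : Subgroup F).index = x
      have h2 : ¬ 2 ∣ (P : Subgroup F).index := P.not_dvd_index
      obtain ⟨k, hk⟩ : Odd (P : Subgroup F).index := by
        rw [← Nat.not_even_iff_odd]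
        exact fun h => h2 h.two_dvd
      rw [hk, pow_succ, pow_mul, pow_two, hxx, one_pow, one_mul]
    rcases hP2 _ (φ f).2 with h2 | h2
    · left
      rw [MonoidHom.mem_ker]
      exact Subtype.ext h2
    · right
      rw [MonoidHom.mem_ker, map_mul, h1]
      apply Subtype.ext
      change ((φ f : P) : F) * x = 1
      rw [h2, hxx]

end order

namespace In

variable {x z : G} {K : Subgroup G}

theorem K_le (h : In x z K) : K ≤ CC x := h.comp.le

theorem zx (h : In x z K) : z ∈ CC x := h.K_le h.zK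

theorem xz (h : In x z K) : x ∈ CC z := mem_CC.2 (mem_CC.1 h.zx).symm

theorem xx (h : In x z K) : x * x = 1 := by rw [← pow_two, ← h.x2, pow_orderOf_eq_one]

theorem zz (h : In x z K) : z * z = 1 := by rw [← pow_two, ← h.z2, pow_orderOf_eq_one]

/-- the image of `z` in the simple group -/
abbrev zb (h : In x z K) : STop K := topMap K ⟨z, h.zK⟩

variable [Finite G]

theorem zb_ne (h : In x z K) : h.zb ≠ 1 := by
  intro h1
  have h2 : z ∈ fix K := mem_ker_iff.1 (MonoidHom.mem_ker.2 h1)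
  have h3 := eq_one_of_odd h.comp h.odd (mem_fix.1 h2) ⟨z, h.zK, by
    rw [inv_mul_cancel]; exact one_mem _⟩ (n := 1) (by rw [pow_one, pow_two, h.zz])
  have h4 := h.z2
  rw [h3, orderOf_one] at h4
  norm_num at h4

theorem zb_ord (h : In x z K) : orderOf h.zb = 2 := by
  refine orderOf_eq_prime ?_ h.zb_ne
  rw [pow_two]
  change topMap K ⟨z, h.zK⟩ * topMap K ⟨z, h.zK⟩ = 1
  rw [← map_mul]
  have : (⟨z, h.zK⟩ * ⟨z, h.zK⟩ : K) = 1 := Subtype.ext h.zz
  rw [this, map_one]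

theorem x_ne_z (h : In x z K) : x ≠ z := by
  intro h1
  have h2 : Fixes z K := by
    rw [← h1]
    exact fixes_self h.K_le
  have h3 := eq_one_of_odd h.comp h.odd h2 ⟨z, h.zK, by
    rw [inv_mul_cancel]; exact one_mem _⟩ (n := 1) (by rw [pow_one, pow_two, h.zz])
  have h4 := h.z2
  rw [h3, orderOf_one] at h4
  norm_num at h4

/-- Elements of the centralizer of `zb` lift to `C_K(z)`. -/
theorem exists_liftK (h : In x z K) {l : STop K} (hl : l * h.zb = h.zb * l) :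
    ∃ k : K, (k : G) ∈ CC z ∧ topMap K k = l := by
  have hPK' : zpowers z ≤ K := by rw [zpowers_le]; exact h.zK
  have hPK : zpowers z ≤ normalizer (K : Set G) := hPK'.trans le_normalizer
  obtain ⟨k, hk, hkl⟩ := exists_fixed (K := K) h.odd (P := zpowers z) (isPGroup_zpowers h.z2) hPK
    (l := l) (by
      intro p hp
      have h1 : act K ⟨p, hPK hp⟩ = MulAut.conj (topMap K ⟨p, hPK' hp⟩) :=
        act_of_mem ⟨p, hPK' hp⟩
      rw [h1, MulAut.conj_apply, mul_inv_eq_iff_eq_mul]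
      obtain ⟨n, hn⟩ := mem_zpowers_iff.1 hp
      have h2 : (⟨p, hPK' hp⟩ : K) = ⟨z, h.zK⟩ ^ n := Subtype.ext hn.symm
      rw [h2, map_zpow]
      have h3 : Commute l h.zb := hl
      exact (h3.zpow_right n).eq.symm)
  exact ⟨k, mem_CC.2 (hk z (mem_zpowers z)).symm, hkl⟩

/-- The kernel goes to `1`. -/
theorem ker_one (h : In x z K) {k : K} (hk : (k : G) ∈ CC z) (hk1 : topMap K k = 1) :
    mkz z ⟨k, hk⟩ = 1 := by
  set M : Subgroup G := (topMap K).ker.map K.subtype ⊓ CC z with hM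
  have hkM : (k : G) ∈ M := ⟨⟨k, hk1, rfl⟩, hk⟩
  refine core_eq_one h.x2 h.xz h.layer (M := M) ?_ inf_le_right ?_ ?_ hkM
  · rintro _ ⟨⟨y, -, rfl⟩, -⟩
    exact h.K_le y.2
  · refine (odd_card_ker h.odd).of_dvd_nat ?_
    rw [Nat.card_congr ((topMap K).ker.equivMapOfInjective K.subtype
      K.subtype_injective).toEquiv]
    exact card_dvd_of_le inf_le_left
  · rintro g hgx hgz _ ⟨⟨y, hy, rfl⟩, hyz⟩
    have hgK := h.norm hgx
    refine ⟨⟨⟨g * y * g⁻¹, conj_mem hgK y.2⟩, ?_, rfl⟩, ?_⟩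
    · change topMap K ⟨g * y * g⁻¹, conj_mem hgK y.2⟩ = 1
      have hy1 : topMap K y = 1 := hy
      rw [← act_apply hgK, hy1, map_one]
    · exact (CC z).mul_mem ((CC z).mul_mem hgz hyz) ((CC z).inv_mem hgz)

theorem mkz_congr (h : In x z K) {k k' : K} (hk : (k : G) ∈ CC z) (hk' : (k' : G) ∈ CC z)
    (hkk : topMap K k = topMap K k') : mkz z ⟨k, hk⟩ = mkz z ⟨k', hk'⟩ := by
  have h1 : topMap K (k⁻¹ * k') = 1 := by rw [map_mul, map_inv, hkk, inv_mul_cancel]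
  have h2 : ((k⁻¹ * k' : K) : G) ∈ CC z := by
    push_cast
    exact mul_mem (inv_mem hk) hk'
  have h3 := h.ker_one h2 h1
  have h4 : (⟨((k⁻¹ * k' : K) : G), h2⟩ : CC z) = (⟨k, hk⟩ : CC z)⁻¹ * ⟨k', hk'⟩ := Subtype.ext rfl
  rw [h4, map_mul, map_inv, inv_mul_eq_one] at h3
  exact h3

/-- The homomorphism `C(zb) → C(z)/O(C(z))`. -/
theorem exists_hom (h : In x z K) : ∃ e' : ↥(centralizer ({h.zb} : Set (STop K))) →* HH z,
    ∀ (k : K) (hk : (k : G) ∈ CC z) (l : ↥(centralizer ({h.zb} : Set (STop K)))),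
      (l : STop K) = topMap K k → e' l = mkz z ⟨k, hk⟩ := by
  have hex : ∀ l : ↥(centralizer ({h.zb} : Set (STop K))), ∃ k : K, (k : G) ∈ CC z ∧
      topMap K k = l := fun l => h.exists_liftK (mem_centralizer_singleton_iff.1 l.2)
  choose f hf hfl using hex
  refine ⟨MonoidHom.mk' (fun l => mkz z ⟨f l, hf l⟩) ?_, ?_⟩
  · intro a b
    rw [← map_mul]
    have h2 : ((f a * f b : K) : G) ∈ CC z := mul_mem (hf a) (hf b)
    have h1 := h.mkz_congr (hf (a * b)) h2 (by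
      rw [map_mul, hfl, hfl, hfl]; rfl)
    rw [h1]
    rfl
  · intro k hk l hl
    exact h.mkz_congr (hf l) hk (by rw [hfl, hl])

/-- An element of `C(x) ∩ C(z)` fixing `K`. -/
theorem eq_of_fixes (h : In x z K) {d : G} (hdx : d ∈ CC x) (hdz : d ∈ CC z) (hf : Fixes d K) :
    mkz z ⟨d, hdz⟩ = 1 ∨ mkz z ⟨d, hdz⟩ = mkz z ⟨x, h.xz⟩ := by
  set F : Subgroup G := CC x ⊓ CC z ⊓ fix K with hF
  have hxF : x ∈ F := ⟨⟨z_mem x, h.xz⟩, mem_fix.2 (fixes_self h.K_le)⟩
  have hx' : orderOf (⟨x, hxF⟩ : F) = 2 := by rw [← Subgroup.orderOf_coe]; exact h.x2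
  obtain ⟨N, hN1, hN2, hN3⟩ := exists_odd_complement hx'
    (fun f => Subtype.ext (mem_CC.1 f.2.1.1)) (by
      rintro q ⟨n, hn⟩
      rcases h.q2 q q.2.1.1 (mem_fix.1 q.2.2) ⟨n, by simpa using congrArg Subtype.val hn⟩
        with h1 | h1
      · exact Or.inl (Subtype.ext h1)
      · exact Or.inr (Subtype.ext h1))
  have key : ∀ y (hy : y ∈ F), (⟨y, hy⟩ : F) ∈ N → mkz z ⟨y, hy.1.2⟩ = 1 := by
    intro y hy hyN
    have hMx : N.map F.subtype ≤ CC x := by
      rintro _ ⟨m, -, rfl⟩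
      exact m.2.1.1
    have hMz : N.map F.subtype ≤ CC z := by
      rintro _ ⟨m, -, rfl⟩
      exact m.2.1.2
    have hMy : y ∈ N.map F.subtype := ⟨⟨y, hy⟩, hyN, rfl⟩
    refine core_eq_one h.x2 h.xz h.layer hMx hMz ?_ ?_ hMy
    · rw [← Nat.card_congr (N.equivMapOfInjective F.subtype F.subtype_injective).toEquiv]
      exact hN1
    · rintro g hgx hgz _ ⟨m, hm, rfl⟩
      have h1 : g * m * g⁻¹ ∈ F := ⟨⟨(CC x).mul_mem ((CC x).mul_mem hgx m.2.1.1) ((CC x).inv_mem hgx),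
        (CC z).mul_mem ((CC z).mul_mem hgz m.2.1.2) ((CC z).inv_mem hgz)⟩,
        conj_mem_fix (h.norm hgx) m.2.2⟩
      refine ⟨⟨g * m * g⁻¹, h1⟩, hN2 _ ?_, rfl⟩
      have h2 : orderOf (⟨g * m * g⁻¹, h1⟩ : F) = orderOf m := by
        rw [← Subgroup.orderOf_coe, ← Subgroup.orderOf_coe]
        exact orderOf_injective (MulAut.conj g).toMonoidHom (MulAut.conj g).injective (m : G)
      rw [h2]
      refine hN1.of_dvd_nat ?_
      have := orderOf_dvd_natCard (⟨m, hm⟩ : N)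
      rwa [← Subgroup.orderOf_coe] at this
  have hdF : d ∈ F := ⟨⟨hdx, hdz⟩, mem_fix.2 hf⟩
  rcases hN3 ⟨d, hdF⟩ with h1 | h1
  · exact Or.inl (key d hdF h1)
  · right
    have h2 := key (d * x) (mul_mem hdF hxF) h1
    have h3 : (⟨d * x, (mul_mem hdF hxF).1.2⟩ : CC z) = ⟨d, hdz⟩ * ⟨x, h.xz⟩ := rfl
    rw [h3, map_mul, mul_eq_one_iff_eq_inv] at h2
    rw [h2, inv_eq_iff_mul_eq_one, ← map_mul]
    have h4 : (⟨x, h.xz⟩ * ⟨x, h.xz⟩ : CC z) = 1 := Subtype.ext h.xx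
    rw [h4, map_one]

/-- An element of `C(x) ∩ C(z)` acting trivially on `C(zb)`. -/
theorem W_of_act (h : In x z K) {d : G} (hdx : d ∈ CC x) (hdz : d ∈ CC z)
    (hd : ∀ l : STop K, l * h.zb = h.zb * l → act K ⟨d, h.norm hdx⟩ l = l) :
    W (mkz z ⟨x, h.xz⟩) (mkz z ⟨z, z_mem z⟩) (mkz z ⟨d, hdz⟩) := by
  rcases h.sdf.cent h.zb h.zb_ord (act K ⟨d, h.norm hdx⟩) hd with h1 | h1
  · have h2 := (act_eq_one_iff (quasisimple h.comp) (h.norm hdx)).1 h1
    rcases h.eq_of_fixes hdx hdz h2 with h3 | h3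
    · exact Or.inl h3
    · exact Or.inr (Or.inl h3)
  · have hzN : z ∈ normalizer (K : Set G) := le_normalizer h.zK
    have h2 : act K ⟨z, hzN⟩ = MulAut.conj h.zb := act_of_mem ⟨z, h.zK⟩
    have hdzx : d * z ∈ CC x := mul_mem hdx h.zx
    have h3 : act K ⟨d * z, h.norm hdzx⟩ = 1 := by
      have e : (⟨d * z, h.norm hdzx⟩ : normalizer (K : Set G)) = ⟨d, h.norm hdx⟩ * ⟨z, hzN⟩ := rfl
      rw [e, map_mul, h1, h2, ← map_mul]
      have h4 : h.zb * h.zb = 1 := by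
        rw [← pow_two, ← h.zb_ord, pow_orderOf_eq_one]
      rw [h4, map_one]
    have h4 := (act_eq_one_iff (quasisimple h.comp) (h.norm hdzx)).1 h3
    have hdzz : d * z ∈ CC z := mul_mem hdz (z_mem z)
    have e1 : (⟨d * z, hdzz⟩ : CC z) = ⟨d, hdz⟩ * ⟨z, z_mem z⟩ := rfl
    have e2 : mkz z ⟨z, z_mem z⟩ * mkz z ⟨z, z_mem z⟩ = 1 := by
      rw [← map_mul]
      have : (⟨z, z_mem z⟩ * ⟨z, z_mem z⟩ : CC z) = 1 := Subtype.ext h.zz
      rw [this, map_one]
    have e3 : mkz z ⟨d, hdz⟩ = mkz z ⟨d * z, hdzz⟩ * mkz z ⟨z, z_mem z⟩ := by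
      rw [e1, map_mul, mul_assoc, e2, mul_one]
    rcases h.eq_of_fixes hdzx hdzz h4 with h5 | h5
    · right; right; left
      rw [e3, h5, one_mul]
    · right; right; right
      rw [e3, h5]

end In

end Cfsg.Agent.GH.L3S.HBarE
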