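import Cfsg.Agent.GH.L3S.HBarE

/-!
# GH-L3, SD case B: `GL₂(3) → C(z)/O(C(z))` and `DStr`

`Emb h j e`: `j : GL₂(3) ≃ C(zb)`, `e : GL₂(3) → H = C(z)/O(C(z))` compatible; `exists_emb`.
`Emb.dstr : DStr (mk z) (mk x) e`.
-/

set_option autoImplicit false
set_option linter.unusedSectionVars false
set_option linter.unusedVariables false

open Cfsg Subgroup
open Cfsg.Agent.SignalizersComponents Cfsg.Agent.Lib
open Cfsg.Agent.Intrinsic.Basic
open Cfsg.Agent.GH.Defs Cfsg.Agent.GH.Comp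
open Cfsg.Agent.GH.L2Frame Cfsg.Agent.GH.L3S.Defs
open Cfsg.Agent.GH.L3S.HBar Cfsg.Agent.GH.L3.DStr
open Cfsg.Agent.GH.L3
open Cfsg.Agent.GH.L3.GLThree (Γ)

namespace Cfsg.Agent.GH.L3S.HBarE

variable {G : Type*} [Group G] {x z : G} {K : Subgroup G} [Finite G]

/-- The compatible pair `j : GL₂(3) ≃ C(zb)`, `e : GL₂(3) → H`. -/
structure Emb (h : In x z K) (j : Γ ≃* ↥(centralizer ({h.zb} : Set (STop K)))) (e : Γ →* HH z) :
    Prop where
  eq : ∀ (k : K) (hk : (k : G) ∈ CC z) (g : Γ), ((j g : ↥(centralizer ({h.zb} : Set (STop K)))) :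
    STop K) = topMap K k → e g = mkz z ⟨k, hk⟩

theorem exists_emb (h : In x z K) : ∃ j e, Emb h j e := by
  obtain ⟨i⟩ := h.sdf.gl h.zb h.zb_ord
  obtain ⟨e', he'⟩ := h.exists_hom
  exact ⟨i.symm, e'.comp i.symm.toMonoidHom, ⟨fun k hk g hg => he' k hk _ hg⟩⟩

namespace Emb

variable {h : In x z K} {j : Γ ≃* ↥(centralizer ({h.zb} : Set (STop K)))} {e : Γ →* HH z}

theorem comm_j (E : Emb h j e) (g : Γ) : ((j g : ↥(centralizer ({h.zb} : Set (STop K)))) :
    STop K) * h.zb = h.zb * ((j g : ↥(centralizer ({h.zb} : Set (STop K)))) : STop K) :=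
  mem_centralizer_singleton_iff.1 (j g).2

/-- lifts -/
theorem exists_k (E : Emb h j e) (g : Γ) : ∃ k : K, ∃ hk : (k : G) ∈ CC z,
    topMap K k = ((j g : ↥(centralizer ({h.zb} : Set (STop K)))) : STop K) ∧
      e g = mkz z ⟨k, hk⟩ := by
  obtain ⟨k, hk, hkl⟩ := h.exists_liftK (E.comm_j g)
  exact ⟨k, hk, hkl, E.eq k hk g hkl.symm⟩

theorem inj (E : Emb h j e) : Function.Injective e := by
  rw [← MonoidHom.ker_eq_bot_iff]
  refine HBarGL.odd_normal e.ker inferInstance fun g hg => ?_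
  obtain ⟨k, hk, hkl, hek⟩ := E.exists_k g
  have h1 : mkz z ⟨k, hk⟩ = 1 := by rw [← hek]; exact hg
  have h2 := odd_of_eq_one h1
  rw [← Subgroup.orderOf_coe] at h2
  have h3 : orderOf g = orderOf (topMap K k) := by
    rw [hkl, Subgroup.orderOf_coe]
    exact (orderOf_injective j.toMonoidHom j.injective g).symm
  rw [h3]
  refine h2.of_dvd_nat ?_
  have h4 := orderOf_map_dvd (topMap K) k
  rwa [← Subgroup.orderOf_coe k] at h4

/-- The action of `C(x) ∩ C(z)`. -/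
theorem conj (E : Emb h j e) {d : G} (hdx : d ∈ CC x) (hdz : d ∈ CC z) {g g' : Γ}
    (hg : act K ⟨d, h.norm hdx⟩ ((j g : ↥(centralizer ({h.zb} : Set (STop K)))) : STop K) =
      ((j g' : ↥(centralizer ({h.zb} : Set (STop K)))) : STop K)) :
    mkz z ⟨d, hdz⟩ * e g * (mkz z ⟨d, hdz⟩)⁻¹ = e g' := by
  obtain ⟨k, hk, hkl, hek⟩ := E.exists_k g
  have h1 : d * (k : G) * d⁻¹ ∈ CC z := mul_mem (mul_mem hdz hk) (inv_mem hdz)
  rw [E.eq ⟨d * k * d⁻¹, conj_mem (h.norm hdx) k.2⟩ h1 g' (by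
    rw [← hg, ← hkl]
    exact act_apply (h.norm hdx) k), hek]
  rfl

/-- The automorphism of `GL₂(3)` induced by an element of `C(x) ∩ C(z)`. -/
theorem exists_beta (E : Emb h j e) {d : G} (hdx : d ∈ CC x) (hdz : d ∈ CC z) :
    ∃ β : Γ →* Γ, (∀ g, ((j (β g) : ↥(centralizer ({h.zb} : Set (STop K)))) : STop K) =
      act K ⟨d, h.norm hdx⟩ ((j g : ↥(centralizer ({h.zb} : Set (STop K)))) : STop K)) ∧
      ∀ g, mkz z ⟨d, hdz⟩ * e g * (mkz z ⟨d, hdz⟩)⁻¹ = e (β g) := by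
  have hzb : act K ⟨d, h.norm hdx⟩ h.zb = h.zb := by
    have h1 := act_apply (h.norm hdx) ⟨z, h.zK⟩
    change act K ⟨d, h.norm hdx⟩ (topMap K ⟨z, h.zK⟩) = topMap K ⟨z, h.zK⟩
    rw [h1]
    congr 1
    apply Subtype.ext
    change d * z * d⁻¹ = z
    rw [mul_inv_eq_iff_eq_mul]
    exact mem_CC.1 hdz
  have hmem : ∀ l : STop K, l ∈ centralizer ({h.zb} : Set (STop K)) →
      act K ⟨d, h.norm hdx⟩ l ∈ centralizer ({h.zb} : Set (STop K)) := by
    intro l hl
    rw [mem_centralizer_singleton_iff] at hl ⊢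
    calc act K ⟨d, h.norm hdx⟩ l * h.zb
        = act K ⟨d, h.norm hdx⟩ (l * h.zb) := by rw [map_mul, hzb]
      _ = h.zb * act K ⟨d, h.norm hdx⟩ l := by rw [hl, map_mul, hzb]
  let γ : ↥(centralizer ({h.zb} : Set (STop K))) →* ↥(centralizer ({h.zb} : Set (STop K))) :=
    { toFun := fun l => ⟨act K ⟨d, h.norm hdx⟩ l, hmem l l.2⟩
      map_one' := Subtype.ext (map_one _)
      map_mul' := fun a b => Subtype.ext (map_mul _ _ _) }
  refine ⟨j.symm.toMonoidHom.comp (γ.comp j.toMonoidHom), fun g => ?_, fun g => ?_⟩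
  · change ((j (j.symm (γ (j g))) : ↥(centralizer ({h.zb} : Set (STop K)))) : STop K) = _
    rw [j.apply_symm_apply]
    rfl
  · apply E.conj hdx hdz
    change _ = ((j (j.symm (γ (j g))) : ↥(centralizer ({h.zb} : Set (STop K)))) : STop K)
    rw [j.apply_symm_apply]
    rfl

/-- `j` is onto `C(zb)`. -/
theorem exists_g (E : Emb h j e) {l : STop K} (hl : l * h.zb = h.zb * l) :
    ∃ g, ((j g : ↥(centralizer ({h.zb} : Set (STop K)))) : STop K) = l :=
  ⟨j.symm ⟨l, mem_centralizer_singleton_iff.2 hl⟩, by rw [j.apply_symm_apply]⟩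

theorem j_inj (E : Emb h j e) {g g' : Γ}
    (hg : ((j g : ↥(centralizer ({h.zb} : Set (STop K)))) : STop K) =
      ((j g' : ↥(centralizer ({h.zb} : Set (STop K)))) : STop K)) : g = g' :=
  j.injective (Subtype.ext hg)

theorem jz (E : Emb h j e) : ((j GLThree.z : ↥(centralizer ({h.zb} : Set (STop K)))) : STop K) =
    h.zb := by
  obtain ⟨g, hg⟩ := E.exists_g (l := h.zb) rfl
  have hc : ∀ g', g * g' = g' * g := by
    intro g'
    apply E.j_inj
    rw [map_mul, map_mul]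
    change ((j g : ↥(centralizer ({h.zb} : Set (STop K)))) : STop K) *
      ((j g' : ↥(centralizer ({h.zb} : Set (STop K)))) : STop K) = _ * _
    rw [hg]
    exact (E.comm_j g').symm
  rcases GLThree.cen g (hc _) (hc _) with h1 | h1
  · rw [h1, map_one] at hg
    exact absurd hg.symm h.zb_ne
  · rw [← h1, hg]

theorem ez (E : Emb h j e) : e GLThree.z = mkz z ⟨z, z_mem z⟩ :=
  E.eq ⟨z, h.zK⟩ (z_mem z) GLThree.z E.jz

omit [Finite G] in
theorem zc (g : HH z) : g * mkz z ⟨z, z_mem z⟩ = mkz z ⟨z, z_mem z⟩ * g := by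
  obtain ⟨g, rfl⟩ := mkz_surjective z g
  rw [← map_mul, ← map_mul]
  congr 1
  exact Subtype.ext (mem_CC.1 g.2)

theorem xe (E : Emb h j e) (g : Γ) :
    e g * mkz z ⟨x, h.xz⟩ = mkz z ⟨x, h.xz⟩ * e g := by
  obtain ⟨k, hk, -, hek⟩ := E.exists_k g
  rw [hek, ← map_mul, ← map_mul]
  congr 1
  exact Subtype.ext (mem_CC.1 (h.K_le k.2))

theorem xr (E : Emb h j e) (g : Γ) : e g ≠ mkz z ⟨x, h.xz⟩ := by
  intro hg
  have h0 : g = 1 ∨ g = GLThree.z := by
    have hc : ∀ g', g * g' = g' * g := by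
      intro g'
      apply E.inj
      rw [map_mul, map_mul, hg]
      exact (E.xe g').symm
    exact GLThree.cen g (hc _) (hc _)
  rcases h0 with rfl | rfl
  · rw [map_one] at hg
    have h1 := odd_of_eq_one hg.symm
    rw [← Subgroup.orderOf_coe] at h1
    have h2 : Odd (orderOf x) := h1
    rw [h.x2] at h2
    exact absurd h2 (by decide)
  · rw [E.ez] at hg
    have h1 : mkz z (⟨x, h.xz⟩ * ⟨z, z_mem z⟩) = 1 := by
      rw [map_mul, ← hg, ← map_mul]
      have : (⟨z, z_mem z⟩ * ⟨z, z_mem z⟩ : CC z) = 1 := Subtype.ext h.zz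
      rw [this, map_one]
    have h2 := odd_of_eq_one h1
    rw [← Subgroup.orderOf_coe] at h2
    have h3 : Odd (orderOf (x * z)) := h2
    have h4 : x * z * (x * z) = 1 := by
      have hxz : z * x = x * z := mem_CC.1 h.zx
      calc x * z * (x * z) = x * (z * x) * z := by group
        _ = (x * x) * (z * z) := by rw [hxz]; group
        _ = 1 := by rw [h.xx, h.zz, one_mul]
    have h5 : x * z = 1 := by
      obtain ⟨k, hk⟩ := h3
      have h6 : (x * z) ^ (2 * k + 1) = 1 := by rw [← hk, pow_orderOf_eq_one]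
      rwa [pow_succ, pow_mul, pow_two, h4, one_pow, one_mul] at h6
    apply h.x_ne_z
    calc x = x * z * z := by rw [mul_assoc, h.zz, mul_one]
      _ = z := by rw [h5, one_mul]

/-- Elements commuting with the image of `x`. -/
theorem exists_d (E : Emb h j e) {n : HH z} (hn : n * mkz z ⟨x, h.xz⟩ = mkz z ⟨x, h.xz⟩ * n) :
    ∃ d : G, ∃ hdz : d ∈ CC z, d ∈ CC x ∧ mkz z ⟨d, hdz⟩ = n :=
  exists_lift h.x2 h.xz hn

theorem nrm (E : Emb h j e) (n : HH z) (hn : n * mkz z ⟨x, h.xz⟩ = mkz z ⟨x, h.xz⟩ * n) (g : Γ) :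
    ∃ g', n * e g * n⁻¹ = e g' := by
  obtain ⟨d, hdz, hdx, rfl⟩ := E.exists_d hn
  obtain ⟨β, -, hβ⟩ := E.exists_beta hdx hdz
  exact ⟨β g, hβ g⟩

/-- `n ∈ N₁`: the automorphism is trivial on `SL₂(3)`. -/
theorem beta_S (E : Emb h j e) {d : G} {hdz : d ∈ CC z} {β : Γ →* Γ}
    (hβ : ∀ g, mkz z ⟨d, hdz⟩ * e g * (mkz z ⟨d, hdz⟩)⁻¹ = e (β g))
    (hn : Nx (mkz z ⟨x, h.xz⟩) e (mkz z ⟨d, hdz⟩)) : ∀ s ∈ GLThree.S, β s = s := by
  intro s hs
  apply E.inj
  rw [← hβ s, hn.2 s hs]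
  group

/-- the action is trivial on `C(zb)` if `β` is trivial -/
theorem act_of_beta (E : Emb h j e) {d : G} (hdx : d ∈ CC x) {β : Γ → Γ}
    (hβ : ∀ g, ((j (β g) : ↥(centralizer ({h.zb} : Set (STop K)))) : STop K) =
      act K ⟨d, h.norm hdx⟩ ((j g : ↥(centralizer ({h.zb} : Set (STop K)))) : STop K))
    (h1 : ∀ g, β g = g) (l : STop K) (hl : l * h.zb = h.zb * l) :
    act K ⟨d, h.norm hdx⟩ l = l := by
  obtain ⟨g, rfl⟩ := E.exists_g hl
  rw [← hβ, h1]

theorem two (E : Emb h j e) (n n' : HH z) (hn : Nx (mkz z ⟨x, h.xz⟩) e n)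
    (hn' : Nx (mkz z ⟨x, h.xz⟩) e n') :
    W (mkz z ⟨x, h.xz⟩) (mkz z ⟨z, z_mem z⟩) n ∨ W (mkz z ⟨x, h.xz⟩) (mkz z ⟨z, z_mem z⟩) n' ∨
      W (mkz z ⟨x, h.xz⟩) (mkz z ⟨z, z_mem z⟩) (n * n') := by
  obtain ⟨d, hdz, hdx, rfl⟩ := E.exists_d hn.1
  obtain ⟨d', hdz', hdx', rfl⟩ := E.exists_d hn'.1
  obtain ⟨β, hβ, hβe⟩ := E.exists_beta hdx hdz
  obtain ⟨β', hβ', hβe'⟩ := E.exists_beta hdx' hdz'
  rcases HBarGL.hom_two (E.beta_S hβe hn) (E.beta_S hβe' hn') with h1 | h1 | h1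
  · exact Or.inl (h.W_of_act hdx hdz (E.act_of_beta hdx hβ h1))
  · exact Or.inr (Or.inl (h.W_of_act hdx' hdz' (E.act_of_beta hdx' hβ' h1)))
  · right; right
    have hx' : d * d' ∈ CC x := mul_mem hdx hdx'
    have hz' : d * d' ∈ CC z := mul_mem hdz hdz'
    have h2 := h.W_of_act hx' hz' (E.act_of_beta hx' (β := fun g => β (β' g)) (by
      intro g
      rw [hβ, hβ']
      have e1 : (⟨d * d', h.norm hx'⟩ : normalizer (K : Set G)) = ⟨d, h.norm hdx⟩ *
        ⟨d', h.norm hdx'⟩ := rfl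
      rw [e1, map_mul]
      rfl) h1)
    have e2 : (⟨d * d', hz'⟩ : CC z) = ⟨d, hdz⟩ * ⟨d', hdz'⟩ := rfl
    rwa [e2, map_mul] at h2

theorem noinv (E : Emb h j e) (n : HH z) (hn : Nx (mkz z ⟨x, h.xz⟩) e n) (hnn : n * n = 1) :
    W (mkz z ⟨x, h.xz⟩) (mkz z ⟨z, z_mem z⟩) n := by
  obtain ⟨d, hdz, hdx, rfl⟩ := E.exists_d hn.1
  obtain ⟨β, hβ, hβe⟩ := E.exists_beta hdx hdz
  have hS := E.beta_S hβe hn
  set α := act K ⟨d, h.norm hdx⟩ with hα
  -- `β β = 1`
  have hββ : ∀ g, β (β g) = g := by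
    intro g
    apply E.inj
    rw [← hβe, ← hβe]
    calc mkz z ⟨d, hdz⟩ * (mkz z ⟨d, hdz⟩ * e g * (mkz z ⟨d, hdz⟩)⁻¹) * (mkz z ⟨d, hdz⟩)⁻¹
        = (mkz z ⟨d, hdz⟩ * mkz z ⟨d, hdz⟩) * e g * (mkz z ⟨d, hdz⟩ * mkz z ⟨d, hdz⟩)⁻¹ := by group
      _ = e g := by rw [hnn]; group
  -- `α α` centralizes `C(zb)`
  have hαα : ∀ l : STop K, l * h.zb = h.zb * l → (α * α) l = l := by
    intro l hl
    obtain ⟨g, rfl⟩ := E.exists_g hl
    rw [MulAut.mul_apply, ← hβ g, ← hβ, hββ]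
  have hdd : (⟨d, h.norm hdx⟩ * ⟨d, h.norm hdx⟩ : normalizer (K : Set G)) =
      ⟨d * d, h.norm (mul_mem hdx hdx)⟩ := rfl
  have hodd : Odd (orderOf (α * α)) := by
    have h1 : mkz z (⟨d, hdz⟩ * ⟨d, hdz⟩) = 1 := by rw [map_mul]; exact hnn
    have h2 := odd_of_eq_one h1
    rw [← Subgroup.orderOf_coe] at h2
    have h3 : orderOf (⟨d, h.norm hdx⟩ * ⟨d, h.norm hdx⟩ : normalizer (K : Set G)) =
        orderOf (d * d) := by
      rw [hdd, ← Subgroup.orderOf_coe]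
    have h4 : Odd (orderOf (d * d)) := h2
    rw [hα, ← map_mul]
    refine Odd.of_dvd_nat ?_ (orderOf_map_dvd (act K) _)
    rw [h3]
    exact h4
  have hsq : α * α = 1 := by
    rcases h.sdf.cent h.zb h.zb_ord (α * α) hαα with h1 | h1
    · exact h1
    · exfalso
      have h2 : MulAut.conj h.zb * MulAut.conj h.zb = 1 := by
        rw [← map_mul]
        have h4 : h.zb * h.zb = 1 := by rw [← pow_two, ← h.zb_ord, pow_orderOf_eq_one]
        rw [h4, map_one]
      rw [h1] at hodd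
      obtain ⟨k, hk⟩ := hodd
      have h3 : (MulAut.conj h.zb) ^ (2 * k + 1) = 1 := by rw [← hk, pow_orderOf_eq_one]
      rw [pow_succ, pow_mul, pow_two, h2, one_pow, one_mul] at h3
      exact h.zb_ne (conj_injective h.comp (by rw [h3, map_one]))
  by_cases hin : Inn α
  · obtain ⟨l, hl⟩ := hin
    -- `l` centralizes `zb` and the image of `S`
    have hjS : ∀ s ∈ GLThree.S, l * ((j s : ↥(centralizer ({h.zb} : Set (STop K)))) : STop K) =
        ((j s : ↥(centralizer ({h.zb} : Set (STop K)))) : STop K) * l := by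
      intro s hs
      have h1 := hβ s
      rw [hS s hs, hl, MulAut.conj_apply, eq_mul_inv_iff_mul_eq] at h1
      exact h1.symm
    have hlz : l * h.zb = h.zb * l := by
      have h1 := hjS _ GLThree.zS
      rwa [E.jz] at h1
    obtain ⟨g, hg⟩ := E.exists_g hlz
    have h2 : g = 1 ∨ g = GLThree.z := by
      apply GLThree.cen_S
      intro s hs
      apply E.j_inj
      rw [map_mul, map_mul]
      change ((j g : ↥(centralizer ({h.zb} : Set (STop K)))) : STop K) * _ =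
        _ * ((j g : ↥(centralizer ({h.zb} : Set (STop K)))) : STop K)
      rw [hg]
      exact hjS s hs
    apply h.W_of_act hdx hdz
    intro y hy
    rw [← hα, hl, MulAut.conj_apply, mul_inv_eq_iff_eq_mul, ← hg]
    rcases h2 with rfl | rfl
    · rw [map_one]
      change 1 * y = y * 1
      rw [one_mul, mul_one]
    · rw [E.jz]
      exact hy.symm
  · exfalso
    obtain ⟨i⟩ := h.sdf.s4 α hsq hin
    have hmem : ∀ s ∈ GLThree.S,
        ((j s : ↥(centralizer ({h.zb} : Set (STop K)))) : STop K) ∈ Fix α := by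
      intro s hs
      change α _ = _
      rw [← hβ s, hS s hs]
    let f : GLThree.S →* Fix α :=
      { toFun := fun s => ⟨((j s : ↥(centralizer ({h.zb} : Set (STop K)))) : STop K), hmem s s.2⟩
        map_one' := by
          apply Subtype.ext
          change ((j (1 : Γ) : ↥(centralizer ({h.zb} : Set (STop K)))) : STop K) = 1
          rw [map_one]
          rfl
        map_mul' := fun a b => by
          apply Subtype.ext
          change ((j (a * b : Γ) : ↥(centralizer ({h.zb} : Set (STop K)))) : STop K) = _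
          rw [map_mul]
          rfl }
    have hf : Function.Injective f := by
      intro a b hab
      apply Subtype.ext
      have h1 := congrArg (fun y : Fix α => (y : STop K)) hab
      exact E.j_inj h1
    exact HBarGL.not_perm (i.toMonoidHom.comp f) (i.injective.comp hf)

/-- **The structure of `C_H(x)`.** -/
theorem dstr (E : Emb h j e) : DStr (mkz z ⟨z, z_mem z⟩) (mkz z ⟨x, h.xz⟩) e where
  inj := E.inj
  ez := E.ez
  zc := zc
  xx := by
    rw [← map_mul]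
    have : (⟨x, h.xz⟩ * ⟨x, h.xz⟩ : CC z) = 1 := Subtype.ext h.xx
    rw [this, map_one]
  xe := E.xe
  xr := E.xr
  nrm := E.nrm
  two := E.two
  noinv := E.noinv

end Emb

end Cfsg.Agent.GH.L3S.HBarE
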