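import Mathlib
import Cfsg.Agent.GH.LowRankQ8
import Cfsg.Agent.TwoFusion.SylowTypeTransfer

/-!
# GH-L3, SD case: automorphisms of `GL₂(3)` and `S₄` centralizing a Sylow 2-subgroup
-/

set_option autoImplicit false

open Subgroup

namespace Cfsg.Agent.GH.L3S.Models

/-- The general frame: `α` fixes the elements of `X`, `X ∪ {r}` generates. -/
theorem eq_one_of_closure {H : Type*} [Group H] {X : Set H} (hX : closure X = ⊤) {α : MulAut H}
    (h : ∀ x ∈ X, α x = x) : α = 1 := by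
  ext y
  have hy : y ∈ closure X := hX ▸ mem_top y
  change α y = y
  induction hy using closure_induction with
  | mem x hx => exact h x hx
  | one => exact map_one α
  | mul x y _ _ h1 h2 => rw [map_mul, h1, h2]
  | inv x _ h1 => rw [map_inv, h1]

theorem exists_conj {H : Type*} [Group H] [Finite H] (S₀ S : Sylow 2 H) :
    ∃ g : H, ∀ s : H, s ∈ S₀ ↔ g * s * g⁻¹ ∈ S := by
  obtain ⟨g, hg⟩ := MulAction.exists_smul_eq H S₀ S
  refine ⟨g, fun s => ?_⟩
  rw [← hg]
  change s ∈ (S₀ : Subgroup H) ↔ _ ∈ ((g • S₀ : Sylow 2 H) : Subgroup H)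
  rw [Sylow.coe_subgroup_smul, mem_pointwise_smul_iff_inv_smul_mem]
  have : (MulAut.conj g)⁻¹ • (g * s * g⁻¹) = s := by
    change (MulAut.conj g)⁻¹ (g * s * g⁻¹) = s
    rw [← map_inv, MulAut.conj_apply]
    group
  rw [this]

theorem conj_fix {H : Type*} [Group H] [Finite H] {S₀ S : Sylow 2 H} {g : H}
    (hmem : ∀ s : H, s ∈ S₀ ↔ g * s * g⁻¹ ∈ S) {α : MulAut H} (hα : ∀ s ∈ S, α s = s) :
    ∀ s ∈ S₀, ((MulAut.conj g)⁻¹ * α * MulAut.conj g) s = s := by
  intro s hs
  change (MulAut.conj g)⁻¹ (α (g * s * g⁻¹)) = s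
  rw [hα _ ((hmem s).1 hs), ← map_inv, MulAut.conj_apply]
  group

theorem aut_eq_one {H : Type*} [Group H] [Finite H] (S₀ S : Sylow 2 H)
    (h0 : ∀ α : MulAut H, (∀ s ∈ S₀, α s = s) → α = 1)
    {α : MulAut H} (hα : ∀ s ∈ S, α s = s) : α = 1 := by
  obtain ⟨g, hmem⟩ := exists_conj S₀ S
  have he := h0 _ (conj_fix hmem hα)
  have h3 : α = MulAut.conj g * ((MulAut.conj g)⁻¹ * α * MulAut.conj g) * (MulAut.conj g)⁻¹ := by
    group
  rw [h3, he, mul_one, mul_inv_cancel]

/-- It is enough to prove the statement on one Sylow subgroup. -/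
theorem aut_of_sylow {H : Type*} [Group H] [Finite H] (S₀ S : Sylow 2 H)
    (h0 : ∀ α : MulAut H, (∀ s ∈ S₀, α s = s) →
      ∃ v ∈ S₀, (∀ s ∈ S₀, v * s = s * v) ∧ α = MulAut.conj v)
    {α : MulAut H} (hα : ∀ s ∈ S, α s = s) :
    ∃ v ∈ S, (∀ s ∈ S, v * s = s * v) ∧ α = MulAut.conj v := by
  obtain ⟨g, hmem⟩ := exists_conj S₀ S
  obtain ⟨v, hv, hvc, he⟩ := h0 _ (conj_fix hmem hα)
  refine ⟨g * v * g⁻¹, (hmem v).1 hv, ?_, ?_⟩
  · intro s hs
    have h1 : g⁻¹ * s * g ∈ S₀ := by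
      rw [hmem]
      have : g * (g⁻¹ * s * g) * g⁻¹ = s := by group
      rwa [this]
    have h2 := hvc _ h1
    calc g * v * g⁻¹ * s = g * (v * (g⁻¹ * s * g)) * g⁻¹ := by group
      _ = g * ((g⁻¹ * s * g) * v) * g⁻¹ := by rw [h2]
      _ = s * (g * v * g⁻¹) := by group
  · have h3 : α = MulAut.conj g * ((MulAut.conj g)⁻¹ * α * MulAut.conj g) * (MulAut.conj g)⁻¹ := by
      group
    rw [h3, he, ← map_inv, ← map_mul, ← map_mul]

/-- A subgroup containing a Sylow 2-subgroup of index 3 and an element outside of it. -/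
theorem eq_top_of_sylow {H : Type*} [Group H] [Finite H] (S : Sylow 2 H) (h3 : (S : Subgroup H).index = 3)
    {X : Subgroup H} (hSX : (S : Subgroup H) ≤ X) {r : H} (hr : r ∈ X) (hrS : r ∉ S) : X = ⊤ := by
  have h1 : (S : Subgroup H).relIndex X * X.index = 3 := by
    rw [relIndex_mul_index hSX, h3]
  have h2 : X.index ∣ 3 := ⟨_, by rw [mul_comm]; exact h1.symm⟩
  rcases (Nat.dvd_prime Nat.prime_three).1 h2 with h4 | h4
  · exact index_eq_one.1 h4
  · exfalso
    rw [h4] at h1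
    have h5 : (S : Subgroup H).relIndex X = 1 := by omega
    exact hrS (relIndex_eq_one.1 h5 hr)

/-! ### `GL₂(3)` -/

section GLpart

abbrev M := Matrix (Fin 2) (Fin 2) (ZMod 3)
abbrev F := Matrix.GeneralLinearGroup (Fin 2) (ZMod 3)

/-- units from a matrix and its inverse -/
def mk (A B : M) (h1 : A * B = 1 := by decide) (h2 : B * A = 1 := by decide) : F := ⟨A, B, h1, h2⟩

def I : F := mk !![0, 1; 2, 0] !![0, 2; 1, 0]
def J : F := mk !![1, 1; 1, 2] !![2, 2; 2, 1]
/-- of order 3 -/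
def R : F := mk !![0, 1; 2, 2] !![2, 2; 1, 0]

theorem RI : R * I = J * R := by apply Units.ext; decide
theorem RJ : R * J = I * J * R := by apply Units.ext; decide
theorem R3 : R * R * R = 1 := by apply Units.ext; decide
theorem R1 : R ≠ 1 := fun h => absurd (congrArg (fun x : F => (x : M)) h) (by decide)
theorem I4 : I ^ 4 = 1 := by apply Units.ext; decide
theorem JJ : J * J = I ^ 2 := by apply Units.ext; decide
theorem IJ : I * J = J * I⁻¹ := by apply Units.ext; decide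

theorem uniq : ∀ a b c d : ZMod 3,
    (!![a, b; c, d] : M) * !![a, b; c, d] * !![a, b; c, d] = 1 →
    (!![a, b; c, d] : M) * !![0, 1; 2, 0] = !![1, 1; 1, 2] * !![a, b; c, d] →
    (!![a, b; c, d] : M) * !![1, 1; 1, 2] = !![0, 1; 2, 0] * !![1, 1; 1, 2] * !![a, b; c, d] →
    (!![a, b; c, d] : M) = !![0, 1; 2, 2] := by decide

theorem eq_R {r : F} (h3 : r * r * r = 1) (hI : r * I = J * r) (hJ : r * J = I * J * r) : r = R := by
  apply Units.ext
  have e : (r : M) = !![(r : M) 0 0, (r : M) 0 1; (r : M) 1 0, (r : M) 1 1] := by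
    ext i j
    fin_cases i <;> fin_cases j <;> rfl
  have h3' : (r : M) * r * r = 1 := congrArg (fun x : F => (x : M)) h3
  have hI' : (r : M) * (I : F) = (J : F) * r := congrArg (fun x : F => (x : M)) hI
  have hJ' : (r : M) * (J : F) = (I : F) * (J : F) * r := congrArg (fun x : F => (x : M)) hJ
  rw [e] at h3' hI' hJ' ⊢
  exact uniq _ _ _ _ h3' hI' hJ'

theorem card_F : Nat.card F = 48 := by
  have h := Matrix.card_GL_field (𝔽 := ZMod 3) 2
  rw [h]
  simp [Fin.prod_univ_two, ZMod.card]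

theorem card_sylow (S : Sylow 2 F) : Nat.card S = 16 := by
  have : Fact (Nat.Prime 2) := ⟨Nat.prime_two⟩
  rw [show Nat.card S = Nat.card ↥(S : Subgroup F) from rfl, S.card_eq_multiplicity, card_F,
    show (48 : ℕ) = 2 ^ 4 * 3 by norm_num,
    Nat.factorization_mul (by norm_num) (by norm_num), Finsupp.add_apply,
    Nat.factorization_pow, Finsupp.smul_apply, Nat.prime_two.factorization_self,
    Nat.factorization_eq_zero_of_not_dvd (by norm_num : ¬ 2 ∣ 3)]
  norm_num

theorem index_sylow (S : Sylow 2 F) : (S : Subgroup F).index = 3 := by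
  have h := (S : Subgroup F).card_mul_index
  rw [card_F, show Nat.card ↥(S : Subgroup F) = 16 from card_sylow S] at h
  omega

/-- of order 8 -/
def X8 : F := mk !![0, 1; 1, 1] !![2, 1; 1, 0]
def Y2 : F := mk !![1, 0; 1, 2] !![1, 0; 1, 2]

theorem X8_order : orderOf X8 = 8 := by
  have h1 : X8 ^ 8 = 1 := by apply Units.ext; decide
  have h2 : X8 ^ 4 ≠ 1 := fun h => absurd (congrArg (fun x : F => (x : M)) h) (by decide)
  exact orderOf_eq_prime_pow (p := 2) (n := 2) (by norm_num; exact h2) (by norm_num; exact h1)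

theorem Y2_order : orderOf Y2 = 2 := by
  refine orderOf_eq_prime ?_ ?_
  · apply Units.ext; decide
  · exact fun h => absurd (congrArg (fun x : F => (x : M)) h) (by decide)

theorem factorization_F : (Nat.card F).factorization 2 = 4 := by
  rw [card_F, show (48 : ℕ) = 2 ^ 4 * 3 by norm_num,
    Nat.factorization_mul (by norm_num) (by norm_num), Finsupp.add_apply,
    Nat.factorization_pow, Finsupp.smul_apply, Nat.prime_two.factorization_self,
    Nat.factorization_eq_zero_of_not_dvd (by norm_num : ¬ 2 ∣ 3)]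
  norm_num

theorem sylow_F (S : Sylow 2 F) : Cfsg.IsQuasiDihedral ↥(S : Subgroup F) :=
  TwoFusion.SylowTypeTransfer.sylow_isQuasiDihedral S (n := 3) le_rfl factorization_F X8 Y2 X8_order
    Y2_order (by apply Units.ext; decide)

theorem exists_sylow : ∃ S : Sylow 2 F, I ∈ S ∧ J ∈ S := by
  have : Fact (Nat.Prime 2) := ⟨Nat.prime_two⟩
  let f := LowRankQ8.qhom I J I4 JJ IJ
  have hp : IsPGroup 2 f.range := by
    have hQ : IsPGroup 2 (QuaternionGroup 2) := IsPGroup.of_card (n := 3) (by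
      rw [Nat.card_eq_fintype_card, QuaternionGroup.card]; norm_num)
    exact hQ.of_surjective f.rangeRestrict f.rangeRestrict_surjective
  obtain ⟨S, hS⟩ := hp.exists_le_sylow
  refine ⟨S, hS ⟨.a 1, ?_⟩, hS ⟨.xa 0, ?_⟩⟩
  · rw [LowRankQ8.qhom_a]
    change I ^ ((1 : ZMod 4)).val = I
    rw [show ((1 : ZMod 4)).val = 1 from rfl, pow_one]
  · rw [LowRankQ8.qhom_xa]
    change J * I ^ ((0 : ZMod 4)).val = J
    rw [show ((0 : ZMod 4)).val = 0 from rfl, pow_zero, mul_one]

theorem R_not_mem (S : Sylow 2 F) : R ∉ S := by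
  intro h
  have h1 : orderOf (⟨R, h⟩ : (S : Subgroup F)) ∣ 16 := by
    have := orderOf_dvd_natCard (⟨R, h⟩ : (S : Subgroup F))
    rwa [show Nat.card ↥(S : Subgroup F) = 16 from card_sylow S] at this
  have h2 : orderOf (⟨R, h⟩ : (S : Subgroup F)) = 3 := by
    rw [← orderOf_coe]
    exact orderOf_eq_prime (by rw [pow_succ, pow_two]; exact R3) R1
  rw [h2] at h1
  omega

/-- An automorphism of `GL₂(3)` centralizing a Sylow 2-subgroup is trivial. -/
theorem gl_aut_F (S : Sylow 2 F) (α : MulAut F) (hα : ∀ s ∈ S, α s = s) : α = 1 := by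
  obtain ⟨S₀, hI, hJ⟩ := exists_sylow
  have key : ∀ β : MulAut F, (∀ s ∈ S₀, β s = s) → β = 1 := by
    intro β hβ
    have hR : β R = R := by
      refine eq_R ?_ ?_ ?_
      · rw [← map_mul, ← map_mul, R3, map_one]
      · have := congrArg β RI
        rwa [map_mul, map_mul, hβ _ hI, hβ _ hJ] at this
      · have := congrArg β RJ
        rwa [map_mul, map_mul, map_mul, hβ _ hI, hβ _ hJ] at this
    refine eq_one_of_closure (X := (S₀ : Set F) ∪ {R}) ?_ ?_
    · refine eq_top_of_sylow S₀ (index_sylow S₀) ?_ (r := R) ?_ (R_not_mem S₀)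
      · exact fun s hs => subset_closure (Or.inl hs)
      · exact subset_closure (Or.inr rfl)
    · rintro x (hx | rfl)
      · exact hβ x hx
      · exact hR
  exact aut_eq_one S₀ S key hα

theorem transport {H K : Type*} [Group H] [Group K] [Finite H] (e : H ≃* K) (S : Sylow 2 H) :
    ∃ S' : Sylow 2 K, ∀ x, x ∈ S' ↔ e.symm x ∈ S := by
  have : Finite K := Finite.of_equiv H e.toEquiv
  have hsur : Function.Surjective e.toMonoidHom := e.surjective
  refine ⟨S.mapSurjective hsur, fun x => ?_⟩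
  change x ∈ ((S.mapSurjective hsur : Sylow 2 K) : Subgroup K) ↔ _
  rw [Sylow.coe_mapSurjective]
  constructor
  · rintro ⟨y, hy, rfl⟩
    simpa using hy
  · intro hx
    exact ⟨_, hx, by simp⟩

/-- `α` read in an isomorphic group. -/
def tr {H K : Type*} [Group H] [Group K] (e : H ≃* K) (α : MulAut H) : MulAut K :=
  (e.symm.trans α).trans e

theorem tr_apply {H K : Type*} [Group H] [Group K] (e : H ≃* K) (α : MulAut H) (x : K) :
    tr e α x = e (α (e.symm x)) := rfl

/-- An automorphism of `H ≃* GL₂(3)` centralizing a Sylow 2-subgroup is trivial. -/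
theorem gl_aut {H : Type*} [Group H] [Finite H] (e : H ≃* Matrix.GeneralLinearGroup (Fin 2) (ZMod 3))
    (S : Sylow 2 H) {α : MulAut H} (hα : ∀ s ∈ S, α s = s) : α = 1 := by
  obtain ⟨S', hS'⟩ := transport e S
  have h1 := gl_aut_F S' (tr e α) (by
    intro s hs
    rw [tr_apply, hα _ ((hS' s).1 hs), e.apply_symm_apply])
  ext x
  have h2 := congrArg (fun β : MulAut F => β (e x)) h1
  change e (α (e.symm (e x))) = e x at h2
  rw [e.symm_apply_apply] at h2
  exact e.injective h2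

/-- The Sylow 2-subgroups of `H ≃* GL₂(3)` are quasi-dihedral of order 16. -/
theorem gl_sylow {H : Type*} [Group H] [Finite H] (e : H ≃* Matrix.GeneralLinearGroup (Fin 2) (ZMod 3))
    (S : Sylow 2 H) : Cfsg.IsQuasiDihedral ↥(S : Subgroup H) ∧ Nat.card ↥(S : Subgroup H) = 16 := by
  obtain ⟨S', hS'⟩ := transport e S
  let f : ↥(S : Subgroup H) ≃* ↥(S' : Subgroup F) :=
    { toFun := fun x => ⟨e x, (hS' _).2 (by rw [e.symm_apply_apply]; exact x.2)⟩
      invFun := fun y => ⟨e.symm y, (hS' _).1 y.2⟩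
      left_inv := fun x => Subtype.ext (e.symm_apply_apply _)
      right_inv := fun y => Subtype.ext (e.apply_symm_apply _)
      map_mul' := fun x y => Subtype.ext (map_mul e _ _) }
  refine ⟨TwoFusion.SylowTypeTransfer.isQuasiDihedral_of_mulEquiv f.symm (sylow_F S'), ?_⟩
  rw [Nat.card_congr f.toEquiv]
  exact card_sylow S'

end GLpart

/-! ### `S₄` -/

section S4

abbrev P4 := Equiv.Perm (Fin 4)

def i4 : P4 := Equiv.swap 0 1 * Equiv.swap 2 3
def j4 : P4 := Equiv.swap 0 2 * Equiv.swap 1 3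
def t4 : P4 := Equiv.swap 0 1
def r4 : P4 := Equiv.swap 0 1 * Equiv.swap 1 2

theorem r4_cube : r4 * r4 * r4 = 1 := by decide
theorem r4_i : r4 * i4 = (r4 * i4 * r4⁻¹) * r4 := by decide
theorem t4_r : t4 * r4 = r4 * r4 * t4 := by decide
theorem r4_i_mem : (r4 * i4 * r4⁻¹) * i4 = i4 * (r4 * i4 * r4⁻¹) := by decide
theorem r4_j_mem : (r4 * j4 * r4⁻¹) * i4 = i4 * (r4 * j4 * r4⁻¹) := by decide

theorem uniq4 : ∀ r : P4, r * r * r = 1 → r * i4 = (r4 * i4 * r4⁻¹) * r →
    r * j4 = (r4 * j4 * r4⁻¹) * r → t4 * r = r * r * t4 → r = r4 ∨ r = i4 * r4 * i4⁻¹ := by decide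

theorem pow4 : ∀ g : P4, g * i4 = i4 * g → g ^ 4 = 1 := by decide

theorem card_C4 : Nat.card ↥(centralizer ({i4} : Set P4)) = 8 := by
  have e : ↥(centralizer ({i4} : Set P4)) ≃ {g : P4 // g * i4 = i4 * g} :=
    Equiv.subtypeEquivRight fun g => mem_centralizer_singleton_iff
  rw [Nat.card_congr e, Nat.card_eq_fintype_card]
  decide

theorem card_P4 : Nat.card P4 = 24 := by
  rw [Nat.card_eq_fintype_card, Fintype.card_perm, Fintype.card_fin]
  rfl

/-- The Sylow subgroup `C(i4)` of `S₄`. -/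
theorem exists_sylow4 : ∃ S : Sylow 2 P4, ∀ g, g ∈ S ↔ g * i4 = i4 * g := by
  have : Fact (Nat.Prime 2) := ⟨Nat.prime_two⟩
  have h1 : Nat.card ↥(centralizer ({i4} : Set P4)) = 2 ^ (Nat.card P4).factorization 2 := by
    rw [card_C4, card_P4, show (24 : ℕ) = 2 ^ 3 * 3 by norm_num,
      Nat.factorization_mul (by norm_num) (by norm_num), Finsupp.add_apply,
      Nat.factorization_pow, Finsupp.smul_apply, Nat.prime_two.factorization_self,
      Nat.factorization_eq_zero_of_not_dvd (by norm_num : ¬ 2 ∣ 3)]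
    norm_num
  refine ⟨Sylow.ofCard _ h1, fun g => ?_⟩
  change g ∈ centralizer ({i4} : Set P4) ↔ _
  exact mem_centralizer_singleton_iff

theorem center4 : ∀ g : P4, g * i4 = i4 * g → g * t4 = t4 * g → g * j4 = j4 * g →
    g = 1 ∨ g = i4 := by decide

theorem s4_aut_P4 (S : Sylow 2 P4) (α : MulAut P4) (hα : ∀ s ∈ S, α s = s) :
    ∃ v ∈ S, (∀ s ∈ S, v * s = s * v) ∧ α = MulAut.conj v := by
  obtain ⟨S₀, hS₀⟩ := exists_sylow4
  have hi : i4 ∈ S₀ := (hS₀ _).2 rfl
  have hj : j4 ∈ S₀ := (hS₀ _).2 (by decide)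
  have ht : t4 ∈ S₀ := (hS₀ _).2 (by decide)
  have hi' : r4 * i4 * r4⁻¹ ∈ S₀ := (hS₀ _).2 (by decide)
  have hj' : r4 * j4 * r4⁻¹ ∈ S₀ := (hS₀ _).2 (by decide)
  have hcard : Nat.card ↥(S₀ : Subgroup P4) = 8 := by
    rw [← card_C4]
    congr 1
    apply congrArg (fun X : Subgroup P4 => ↥X)
    ext g
    rw [mem_centralizer_singleton_iff]
    exact hS₀ g
  have hidx : (S₀ : Subgroup P4).index = 3 := by
    have h := (S₀ : Subgroup P4).card_mul_index
    rw [card_P4, hcard] at h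
    omega
  have hr : r4 ∉ S₀ := fun h => absurd ((hS₀ _).1 h) (by decide)
  have key : ∀ β : MulAut P4, (∀ s ∈ S₀, β s = s) → β r4 = r4 → β = 1 := by
    intro β hβ hR
    refine eq_one_of_closure (X := (S₀ : Set P4) ∪ {r4}) ?_ ?_
    · refine eq_top_of_sylow S₀ hidx ?_ (r := r4) ?_ hr
      · exact fun s hs => subset_closure (Or.inl hs)
      · exact subset_closure (Or.inr rfl)
    · rintro x (hx | rfl)
      · exact hβ x hx
      · exact hR
  refine aut_of_sylow S₀ S ?_ hα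
  intro β hβ
  have hcases : β r4 = r4 ∨ β r4 = i4 * r4 * i4⁻¹ := by
    refine uniq4 _ ?_ ?_ ?_ ?_
    · rw [← map_mul, ← map_mul, r4_cube, map_one]
    · have h : r4 * i4 = (r4 * i4 * r4⁻¹) * r4 := by group
      have := congrArg β h
      rwa [map_mul, map_mul, hβ _ hi, hβ _ hi'] at this
    · have h : r4 * j4 = (r4 * j4 * r4⁻¹) * r4 := by group
      have := congrArg β h
      rwa [map_mul, map_mul, hβ _ hj, hβ _ hj'] at this
    · have := congrArg β t4_r
      rwa [map_mul, map_mul, map_mul, hβ _ ht] at this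
  rcases hcases with h | h
  · exact ⟨1, one_mem _, by simp, by rw [key β hβ h, map_one]⟩
  · refine ⟨i4, hi, fun s hs => ((hS₀ s).1 hs).symm, ?_⟩
    have h1 := key ((MulAut.conj i4)⁻¹ * β) (by
      intro s hs
      change (MulAut.conj i4)⁻¹ (β s) = s
      rw [hβ s hs, ← map_inv, MulAut.conj_apply, inv_inv]
      have := (hS₀ s).1 hs
      rw [mul_assoc, this, inv_mul_cancel_left]) (by
      change (MulAut.conj i4)⁻¹ (β r4) = r4
      rw [h, ← map_inv, MulAut.conj_apply]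
      group)
    rw [inv_mul_eq_one] at h1
    exact h1.symm

/-- An automorphism of `H ≃* S₄` centralizing a Sylow 2-subgroup `S` is conjugation by an element of `Z(S)`. -/
theorem s4_aut {H : Type*} [Group H] [Finite H] (e : H ≃* Equiv.Perm (Fin 4))
    (S : Sylow 2 H) {α : MulAut H} (hα : ∀ s ∈ S, α s = s) :
    ∃ v ∈ S, (∀ s ∈ S, v * s = s * v) ∧ α = MulAut.conj v := by
  obtain ⟨S', hS'⟩ := transport e S
  obtain ⟨v, hv, hvc, h1⟩ := s4_aut_P4 S' (tr e α) (by
    intro s hs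
    rw [tr_apply, hα _ ((hS' s).1 hs), e.apply_symm_apply])
  refine ⟨e.symm v, (hS' v).1 hv, ?_, ?_⟩
  · intro s hs
    have h2 : e s ∈ S' := (hS' _).2 (by rwa [e.symm_apply_apply])
    apply e.injective
    rw [map_mul, map_mul, e.apply_symm_apply]
    exact hvc _ h2
  · ext x
    have h2 := congrArg (fun β : MulAut P4 => β (e x)) h1
    change e (α (e.symm (e x))) = v * e x * v⁻¹ at h2
    rw [e.symm_apply_apply] at h2
    apply e.injective
    rw [h2, MulAut.conj_apply, map_mul, map_mul, map_inv, e.apply_symm_apply]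

/-- The Sylow 2-subgroups of `H ≃* S₄`: order 8, centre of order 2. -/
theorem s4_sylow {H : Type*} [Group H] [Finite H] (e : H ≃* Equiv.Perm (Fin 4)) (S : Sylow 2 H) :
    Nat.card ↥(S : Subgroup H) = 8 ∧ ∃ v ∈ S, v ≠ 1 ∧ v * v = 1 ∧ (∀ s ∈ S, v * s = s * v) ∧
      (∀ w ∈ S, (∀ s ∈ S, w * s = s * w) → w = 1 ∨ w = v) ∧ ∃ a ∈ S, ∃ b ∈ S, a * b ≠ b * a := by
  obtain ⟨S₀, hS₀⟩ := exists_sylow4
  have hi : i4 ∈ S₀ := (hS₀ _).2 rfl
  have hj : j4 ∈ S₀ := (hS₀ _).2 (by decide)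
  have ht : t4 ∈ S₀ := (hS₀ _).2 (by decide)
  obtain ⟨S', hS'⟩ := transport e S
  obtain ⟨g, hg⟩ := exists_conj S₀ S'
  let f : P4 ≃* H := (MulAut.conj g).trans e.symm
  have hf : ∀ x, x ∈ S₀ ↔ f x ∈ S := fun x => (hg x).trans (hS' _)
  have hf' : ∀ y, y ∈ S → ∃ x ∈ S₀, f x = y := by
    intro y hy
    refine ⟨f.symm y, (hf _).2 (by rwa [f.apply_symm_apply]), f.apply_symm_apply y⟩
  refine ⟨?_, f i4, (hf _).1 hi, ?_, ?_, ?_, ?_, f t4, (hf _).1 ht, f j4, (hf _).1 hj, ?_⟩
  · have h1 : Nat.card ↥(S : Subgroup H) = Nat.card ↥(centralizer ({i4} : Set P4)) := by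
      refine (Nat.card_congr (Equiv.ofBijective (fun x : ↥(centralizer ({i4} : Set P4)) =>
        (⟨f x, (hf _).1 ((hS₀ _).2 (mem_centralizer_singleton_iff.1 x.2))⟩ : ↥(S : Subgroup H))) ⟨?_, ?_⟩)).symm
      · intro a b hab
        exact Subtype.ext (f.injective (congrArg Subtype.val hab))
      · rintro ⟨y, hy⟩
        obtain ⟨x, hx, rfl⟩ := hf' y hy
        exact ⟨⟨x, mem_centralizer_singleton_iff.2 ((hS₀ x).1 hx)⟩, rfl⟩
    rw [h1, card_C4]
  · intro h
    exact absurd (f.injective (h.trans (map_one f).symm)) (by decide)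
  · rw [← map_mul, show i4 * i4 = 1 by decide, map_one]
  · intro s hs
    obtain ⟨x, hx, rfl⟩ := hf' s hs
    rw [← map_mul, ← map_mul, (hS₀ x).1 hx]
  · intro w hw hc
    obtain ⟨x, hx, rfl⟩ := hf' w hw
    have h1 : ∀ y ∈ S₀, x * y = y * x := by
      intro y hy
      apply f.injective
      rw [map_mul, map_mul]
      exact hc _ ((hf y).1 hy)
    rcases center4 x ((hS₀ x).1 hx) (h1 _ ht) (h1 _ hj) with rfl | rfl
    · exact Or.inl (map_one f)
    · exact Or.inr rfl
  · intro h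
    rw [← map_mul, ← map_mul] at h
    exact absurd (f.injective h) (by decide)

/-- The Sylow 2-subgroups of `H ≃* S₄` contain a noncentral involution. -/
theorem s4_four {H : Type*} [Group H] [Finite H] (e : H ≃* Equiv.Perm (Fin 4)) (S : Sylow 2 H) :
    ∃ b ∈ S, b ≠ 1 ∧ b * b = 1 ∧ ∃ s ∈ S, b * s ≠ s * b := by
  obtain ⟨S₀, hS₀⟩ := exists_sylow4
  have hj : j4 ∈ S₀ := (hS₀ _).2 (by decide)
  have ht : t4 ∈ S₀ := (hS₀ _).2 (by decide)
  obtain ⟨S', hS'⟩ := transport e S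
  obtain ⟨g, hg⟩ := exists_conj S₀ S'
  let f : P4 ≃* H := (MulAut.conj g).trans e.symm
  have hf : ∀ x, x ∈ S₀ ↔ f x ∈ S := fun x => (hg x).trans (hS' _)
  refine ⟨f t4, (hf _).1 ht, ?_, ?_, f j4, (hf _).1 hj, ?_⟩
  · intro h
    exact absurd (f.injective (h.trans (map_one f).symm)) (by decide)
  · rw [← map_mul, show t4 * t4 = 1 by decide, map_one]
  · intro h
    rw [← map_mul, ← map_mul] at h
    exact absurd (f.injective h) (by decide)

end S4

end Cfsg.Agent.GH.L3S.Models
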