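import Mathlib
import Cfsg.Agent.TwoFusion.InvolutionCountSylow
import Cfsg.Agent.TwoFusion.CyclicAut
import Cfsg.Agent.TwoFusion.OddAut
import Cfsg.Agent.TwoFusion.QDBasic
import Cfsg.Agent.PermutationGroups.AutQuaternion
import Cfsg.Agent.TwoFusion.LocalIndex
import Cfsg.Agent.S0226

/-!
# Parity of the number of involutions

`X` a finite group, `R` a normal 2-subgroup with `C_X(R) ≤ R`, `X` not a 2-group, `48 < |X|`.  Then the
number of involutions of `R` is `3` modulo `4`.  Hence an involution `x` which centralizes exactly one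
involution of `R` is an odd permutation of the involutions of `R`: some `f : X →* ℤˣ` has `f x = -1`.
-/

set_option autoImplicit false

open Subgroup

namespace Cfsg.Agent.GH.L3S.Parity

/-! ### odd automorphisms of groups with a cyclic subgroup of index 2 -/

/-- `W` has an element `u` of order `2 ^ m`, `⟨u⟩` has index 2, the elements outside `⟨u⟩` have
another order: automorphisms of odd order are trivial. -/
theorem odd_aut_trivial {W : Type*} [Group W] [Finite W] {m : ℕ} {u : W} (hu : orderOf u = 2 ^ m)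
    (hi : (zpowers u).index = 2) (ho : ∀ w, orderOf w = 2 ^ m → w ∈ zpowers u)
    {α : MulAut W} {r : ℕ} (hr : Odd r) (hα : α ^ r = 1) : α = 1 := by
  have hmem : ∀ w ∈ zpowers u, α w ∈ zpowers u := by
    rintro w ⟨k, rfl⟩
    change α (u ^ k) ∈ _
    rw [map_zpow]
    refine zpow_mem (ho _ ?_) k
    rw [← hu]
    exact orderOf_injective α.toMonoidHom α.injective u
  -- `α u = u`
  have hpow : ∀ (k : ℕ) (w : W), (α ^ (k + 1)) w = (α ^ k) (α w) := fun k w => by
    rw [pow_succ, MulAut.mul_apply]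
  have hu1 : α u = u := by
    obtain ⟨c, hc⟩ := hmem u (mem_zpowers u)
    have hc' : α u = u ^ c := hc.symm
    have h1 : ∀ k : ℕ, (α ^ k) u = u ^ (c ^ k) := by
      intro k
      induction k with
      | zero => simp
      | succ k ih =>
        rw [hpow, hc', map_zpow, ih, ← zpow_mul, pow_succ]
    have h2 : u ^ (c ^ r) = u := by rw [← h1 r, hα]; rfl
    have h3 : ((2 : ℤ) ^ m) ∣ c ^ r - 1 := by
      have h4 : u ^ (c ^ r - 1) = 1 := by rw [zpow_sub, h2, zpow_one, mul_inv_cancel]
      have h5 := orderOf_dvd_iff_zpow_eq_one.mpr h4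
      rw [hu] at h5
      exact_mod_cast h5
    have h4 : ((2 : ℤ) ^ m) ∣ c - 1 := by
      -- `c ^ r - 1 = (c - 1) * odd`
      have h5 : c ^ r - 1 = (∑ i ∈ Finset.range r, c ^ i) * (c - 1) := (geom_sum_mul c r).symm
      have h6 : Odd (∑ i ∈ Finset.range r, c ^ i) := Cfsg.Agent.TwoFusion.OddAut.geom_odd c hr
      have h7 : IsCoprime ((2 : ℤ) ^ m) (∑ i ∈ Finset.range r, c ^ i) :=
        IsCoprime.pow_left (Int.isCoprime_two_left.mpr h6)
      rw [h5] at h3
      exact h7.dvd_of_dvd_mul_left h3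
    have h5 : u ^ (c - 1) = 1 := by
      rw [← orderOf_dvd_iff_zpow_eq_one, hu]
      exact_mod_cast h4
    rw [hc']
    calc u ^ c = u ^ (c - 1) * u := by rw [← zpow_add_one]; congr 1; ring
      _ = u := by rw [h5, one_mul]
  have hfix : ∀ w ∈ zpowers u, α w = w := by
    rintro w ⟨k, rfl⟩
    change α (u ^ k) = u ^ k
    rw [map_zpow, hu1]
  apply MulEquiv.ext
  intro w
  rw [MulAut.one_apply]
  by_cases hw : w ∈ zpowers u
  · exact hfix w hw
  have hn : (zpowers u).Normal := normal_of_index_eq_two hi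
  have h1 : α w ∉ zpowers u := by
    intro h2
    apply hw
    have h3 := hfix _ h2
    rwa [α.injective h3] at h2
  have h2 : w⁻¹ * α w ∈ zpowers u := by
    have h3 := (Subgroup.mul_mem_iff_of_index_two hi (a := w⁻¹) (b := α w))
    rw [h3]
    simp [hw, h1]
  obtain ⟨v, hv⟩ : ∃ v, v = w⁻¹ * α w := ⟨_, rfl⟩
  rw [← hv] at h2
  have h3 : α w = w * v := by rw [hv]; group
  have h4 : ∀ k : ℕ, (α ^ k) w = w * v ^ k := by
    intro k
    induction k with
    | zero => simp
    | succ k ih =>
      have h5 : (α ^ k) v = v := by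
        clear ih
        induction k with
        | zero => simp
        | succ k ih => rw [hpow, hfix v h2, ih]
      rw [hpow, h3, map_mul, ih, h5, pow_succ, mul_assoc]
  have h5 : v ^ r = 1 := by
    have h6 := h4 r
    rw [hα, MulAut.one_apply] at h6
    exact mul_left_cancel (a := w) (by rw [← h6, mul_one])
  have h6 : v ^ 2 ^ m = 1 := by
    obtain ⟨k, rfl⟩ := h2
    change (u ^ k) ^ 2 ^ m = 1
    rw [← zpow_natCast, ← zpow_mul, mul_comm, zpow_mul, zpow_natCast, ← hu, pow_orderOf_eq_one,
      one_zpow]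
  have h7 : v = 1 := by
    rw [← orderOf_eq_one_iff]
    exact Nat.eq_one_of_dvd_coprimes (Nat.Coprime.pow_left m (Nat.coprime_two_left.2 hr))
      (orderOf_dvd_of_pow_eq_one h6) (orderOf_dvd_of_pow_eq_one h5)
  rw [h3, h7, mul_one]

/-- No nontrivial automorphisms of odd order. -/
def NoOdd (W : Type*) [Group W] : Prop := ∀ (α : MulAut W) (r : ℕ), Odd r → α ^ r = 1 → α = 1

theorem NoOdd.congr {V W : Type*} [Group V] [Group W] (e : V ≃* W) (h : NoOdd V) : NoOdd W := by
  intro α r hr hα
  have h1 := h ((MulAut.congr e).symm α) r hr (by rw [← map_pow, hα, map_one])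
  exact (MulAut.congr e).symm.injective (h1.trans (map_one _).symm)

theorem noOdd_of_cyclic {W : Type*} [Group W] [Finite W] (hW : IsPGroup 2 W) (h : IsCyclic W) :
    NoOdd W := by
  intro α r hr hα
  obtain ⟨k, hk⟩ := IsPGroup.iff_card.mp hW
  have h1 := Cfsg.Agent.TwoFusion.CyclicAut.isPGroup_mulAut (C := W) k hk
  obtain ⟨m, hm⟩ := h1 α
  rw [← orderOf_eq_one_iff]
  exact Nat.eq_one_of_dvd_coprimes (Nat.Coprime.pow_left m (Nat.coprime_two_left.2 hr))
    (orderOf_dvd_of_pow_eq_one hm) (orderOf_dvd_of_pow_eq_one hα)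

theorem noOdd_dihedral {n : ℕ} (hn : 4 ≤ n) (hp : IsPGroup 2 (DihedralGroup n)) :
    NoOdd (DihedralGroup n) := by
  have : NeZero n := ⟨by omega⟩
  obtain ⟨k, hk⟩ := IsPGroup.iff_card.mp hp
  rw [DihedralGroup.nat_card] at hk
  obtain ⟨m, rfl⟩ : ∃ m, n = 2 ^ m := by
    rcases k with _ | k
    · omega
    · exact ⟨k, by rw [pow_succ] at hk; omega⟩
  intro α r hr hα
  have hr1 : orderOf (DihedralGroup.r 1 : DihedralGroup (2 ^ m)) = 2 ^ m :=
    DihedralGroup.orderOf_r_one
  refine odd_aut_trivial (m := m) (u := DihedralGroup.r 1) hr1 ?_ ?_ hr hα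
  · have h1 := (zpowers (DihedralGroup.r 1 : DihedralGroup (2 ^ m))).card_mul_index
    rw [Nat.card_zpowers, hr1, DihedralGroup.nat_card, mul_comm] at h1
    exact Nat.eq_of_mul_eq_mul_right (by positivity) h1
  · intro w hw
    rcases w with i | i
    · refine ⟨(i.val : ℤ), ?_⟩
      change (DihedralGroup.r 1 : DihedralGroup (2 ^ m)) ^ (i.val : ℤ) = _
      rw [zpow_natCast, DihedralGroup.r_one_pow, ZMod.natCast_zmod_val]
    · exfalso
      rw [DihedralGroup.orderOf_sr] at hw
      omega

theorem noOdd_quaternion {n : ℕ} (hn : 1 ≤ n) : NoOdd (QuaternionGroup (2 ^ (n + 1))) := by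
  intro α r hr hα
  have hn4 : 4 ≤ 2 ^ (n + 1) := by
    calc 4 = 2 ^ 2 := by norm_num
      _ ≤ 2 ^ (n + 1) := Nat.pow_le_pow_right (by norm_num) (by omega)
  have hr1 : orderOf (QuaternionGroup.a 1 : QuaternionGroup (2 ^ (n + 1))) = 2 ^ (n + 2) := by
    rw [QuaternionGroup.orderOf_a_one]
    ring
  refine odd_aut_trivial (m := n + 2) (u := QuaternionGroup.a 1) hr1 ?_ ?_ hr hα
  · have h1 := (zpowers (QuaternionGroup.a 1 : QuaternionGroup (2 ^ (n + 1)))).card_mul_index
    rw [Nat.card_zpowers, hr1, Nat.card_eq_fintype_card, QuaternionGroup.card] at h1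
    have h2 : 4 * 2 ^ (n + 1) = 2 ^ (n + 2) * 2 := by ring
    rw [h2] at h1
    exact Nat.eq_of_mul_eq_mul_left (by positivity) h1
  · intro w hw
    rcases w with i | i
    · refine ⟨(i.val : ℤ), ?_⟩
      change (QuaternionGroup.a 1 : QuaternionGroup (2 ^ (n + 1))) ^ (i.val : ℤ) = _
      rw [zpow_natCast, QuaternionGroup.a_one_pow, ZMod.natCast_zmod_val]
    · exfalso
      rw [QuaternionGroup.orderOf_xa] at hw
      have : 2 ^ (n + 2) = 2 * 2 ^ (n + 1) := by ring
      omega

open Cfsg.Agent.TwoFusion.QDBasic in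
theorem noOdd_qd {W : Type*} [Group W] [Finite W] (hW : Cfsg.IsQuasiDihedral W) : NoOdd W := by
  obtain ⟨n, u, y, h⟩ := exists_qdcoord hW
  have hn := h.three_le
  intro α r hr hα
  have hr1 : orderOf (u 1) = 2 ^ n := by
    apply Nat.dvd_antisymm
    · apply orderOf_dvd_of_pow_eq_one
      rw [h.u_one_pow, ← h.u_zero]
      congr 1
      have := ZMod.natCast_self (2 ^ n)
      exact_mod_cast this
    · have h1 : u 1 ^ orderOf (u 1) = 1 := pow_orderOf_eq_one _
      rw [h.u_one_pow, ← h.u_zero] at h1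
      exact (natCast_eq_zero_iff n _).mp (h.u_inj _ _ h1)
  refine odd_aut_trivial (m := n) (u := u 1) hr1 ?_ ?_ hr hα
  · have h1 := (zpowers (u 1)).card_mul_index
    rw [Nat.card_zpowers, hr1, h.card, pow_succ] at h1
    exact Nat.eq_of_mul_eq_mul_left (by positivity) h1
  · intro w hw
    rcases h.cases w with ⟨a, rfl⟩ | ⟨a, rfl⟩
    · refine ⟨(a.val : ℤ), ?_⟩
      change u 1 ^ (a.val : ℤ) = _
      rw [zpow_natCast, ← h.u_eq_pow]
    · exfalso
      have h1 : (u a * y) ^ 4 = 1 := by
        rw [show 4 = 2 * 2 from rfl, pow_mul, h.uy_sq, h.u_pow, ← h.u_zero]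
        congr 1
        have h2 := two_mul_half n (by omega)
        push_cast
        linear_combination a * h2
      have h2 := orderOf_dvd_of_pow_eq_one h1
      rw [hw] at h2
      have h3 : 2 ^ 3 ∣ 2 ^ n := pow_dvd_pow 2 hn
      have h4 := Nat.le_of_dvd (by norm_num) (h3.trans h2)
      norm_num at h4

/-! ### the number of involutions of a self-centralizing normal 2-subgroup -/

variable {X : Type*} [Group X] [Finite X]

/-- If `R` has no automorphisms of odd order and `C_X(R) ≤ R` is a 2-group, `X` is a 2-group. -/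
theorem isPGroup_of_noOdd {R : Subgroup X} [hRn : R.Normal] (hR : IsPGroup 2 R)
    (hC : centralizer (R : Set X) ≤ R) (h : NoOdd R) : IsPGroup 2 X := by
  intro g
  obtain ⟨k, m, hm, hk⟩ := Nat.exists_eq_two_pow_mul_odd (orderOf_pos g).ne'
  have h1 : orderOf (g ^ 2 ^ k) = m := by
    rw [orderOf_pow, hk, Nat.gcd_mul_right_left, Nat.mul_div_cancel_left _ (by positivity)]
  obtain ⟨v, hv⟩ : ∃ v, v = g ^ 2 ^ k := ⟨_, rfl⟩
  rw [← hv] at h1
  have h2 : (MulAut.conjNormal v : MulAut R) = 1 := by
    apply h _ m hm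
    rw [← map_pow, ← h1, pow_orderOf_eq_one, map_one]
  have h3 : v ∈ R := by
    apply hC
    rw [mem_centralizer_iff]
    intro r hr
    have h4 : ((MulAut.conjNormal v : MulAut R) ⟨r, hr⟩ : X) = r := by rw [h2]; rfl
    rw [MulAut.conjNormal_apply] at h4
    calc r * v = (v * r * v⁻¹) * v := by rw [h4]
      _ = v * r := by group
  refine ⟨k, ?_⟩
  rw [← hv, ← orderOf_eq_one_iff]
  have h4 : orderOf v = orderOf (⟨v, h3⟩ : R) := by rw [Subgroup.orderOf_mk]
  obtain ⟨j, hj⟩ := hR ⟨v, h3⟩
  have h5 := orderOf_dvd_of_pow_eq_one hj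
  rw [← h4, h1] at h5
  rw [h1]
  exact Nat.eq_one_of_dvd_coprimes (Nat.Coprime.pow_left j (Nat.coprime_two_left.2 hm)) h5 dvd_rfl

/-- The number of involutions of `R` is `3` modulo `4`. -/
theorem card_mod_four {R : Subgroup X} [hRn : R.Normal] (hR : IsPGroup 2 R)
    (hC : centralizer (R : Set X) ≤ R) (hX : ¬ IsPGroup 2 X) (hbig : 48 < Nat.card X)
    (hne : R ≠ ⊥) : Nat.card {t : R // orderOf t = 2} % 4 = 3 := by
  have h2 : 2 ∣ Nat.card R := by
    obtain ⟨k, hk⟩ := IsPGroup.iff_card.mp hR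
    rcases k with _ | k
    · exfalso; apply hne
      rw [pow_zero] at hk
      exact Subgroup.eq_bot_of_card_eq R hk
    · rw [hk, pow_succ]; exact dvd_mul_left _ _
  have hodd : Odd (Nat.card {t : R // orderOf t = 2}) :=
    Cfsg.Agent.S0226.result (G := R) (even_iff_two_dvd.mpr h2)
  by_contra hcon
  have h1 : Nat.card {t : R // orderOf t = 2} % 4 = 1 := by
    obtain ⟨k, hk⟩ := hodd
    omega
  obtain ⟨S⟩ : Nonempty (Sylow 2 R) := inferInstance
  have hS : (S : Subgroup R) = ⊤ := by
    have h3 : IsPGroup 2 (⊤ : Subgroup R) := hR.to_subgroup _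
    exact (S.is_maximal' h3 le_top).symm
  let e : (S : Subgroup R) ≃* R := (MulEquiv.subgroupCongr hS).trans Subgroup.topEquiv
  have hSp : IsPGroup 2 (S : Subgroup R) := S.2
  have key : ¬ NoOdd (S : Subgroup R) := fun h => hX (isPGroup_of_noOdd hR hC (h.congr e))
  rcases Cfsg.Agent.TwoFusion.InvolutionCountSylow.sylow_cases h1 S with h3 | ⟨n, ⟨f⟩⟩ | ⟨n, hn, ⟨f⟩⟩ | h3
  · exact key (noOdd_of_cyclic hSp h3)
  · rcases n with _ | n
    · -- `Q8`
      have f' : R ≃* QuaternionGroup 2 := e.symm.trans (f.trans (MulEquiv.refl _))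
      have h4 : Nat.card (MulAut R) = 24 := by
        rw [Nat.card_congr (MulAut.congr f').toEquiv]
        exact Cfsg.Agent.PermutationGroups.AutQuaternion.card_mulAut
      have h5 : ∀ v ∈ (MulAut.conjNormal : X →* MulAut R).ker, ∀ r ∈ R, r * v = v * r := by
        intro v hv r hr
        have h6 : ((MulAut.conjNormal v : MulAut R) ⟨r, hr⟩ : X) = r := by
          rw [MonoidHom.mem_ker.mp hv]; rfl
        rw [MulAut.conjNormal_apply] at h6
        calc r * v = (v * r * v⁻¹) * v := by rw [h6]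
          _ = v * r := by group
      have h5' : ∀ v ∈ (MulAut.conjNormal : X →* MulAut R).ker, v ∈ R := fun v hv =>
        hC (mem_centralizer_iff.mpr (h5 v hv))
      -- `|X| ≤ 24 |Z(R)| ≤ 48`
      have h6 : Nat.card (MulAut.conjNormal : X →* MulAut R).ker ≤ 2 := by
        have h7 : Nat.card (center R) = 2 := by
          rw [← Cfsg.Agent.TwoFusion.LocalIndex.card_center_quaternion]
          exact Nat.card_congr (Subgroup.centerCongr f').toEquiv
        rw [← h7]
        refine Nat.card_le_card_of_injective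
          (fun v : (MulAut.conjNormal : X →* MulAut R).ker =>
            (⟨⟨v, h5' v v.2⟩, mem_center_iff.mpr fun r => Subtype.ext (h5 v v.2 r r.2)⟩ :
              center R)) ?_
        intro v w hvw
        have h8 := congrArg (fun c : center R => ((c : R) : X)) hvw
        exact Subtype.ext h8
      have h7 := (MulAut.conjNormal : X →* MulAut R).ker.card_mul_index
      have h8 : (MulAut.conjNormal : X →* MulAut R).ker.index ≤ 24 := by
        rw [Subgroup.index_ker, ← h4]
        exact Subgroup.card_le_card_group _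
      have h9 : Nat.card X ≤ 2 * 24 := by
        rw [← h7]
        exact Nat.mul_le_mul h6 h8
      omega
    · exact key ((noOdd_quaternion (Nat.succ_le_succ (Nat.zero_le n))).congr f.symm)
  · exact key ((noOdd_dihedral hn (hSp.of_equiv f)).congr f.symm)
  · exact key (noOdd_qd h3)

/-- **The parity argument.** -/
theorem exists_hom {R : Subgroup X} [hRn : R.Normal] (hR : IsPGroup 2 R)
    (hC : centralizer (R : Set X) ≤ R) (hX : ¬ IsPGroup 2 X) (hbig : 48 < Nat.card X)
    {x z : X} (hx : x * x = 1) (hzR : z ∈ R) (hz : orderOf z = 2) (hxz : x * z = z * x)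
    (hfix : ∀ y ∈ R, orderOf y = 2 → x * y = y * x → y = z) : ∃ f : X →* ℤˣ, f x = -1 := by
  classical
  have hne : R ≠ ⊥ := by
    rintro rfl
    rw [mem_bot] at hzR
    rw [hzR, orderOf_one] at hz
    omega
  have hcount := card_mod_four hR hC hX hbig hne
  -- the action on the involutions of `R`
  let Ω : Type _ := {y : X // y ∈ R ∧ orderOf y = 2}
  have hΩ : Nat.card Ω = Nat.card {t : R // orderOf t = 2} :=
    Nat.card_congr
      { toFun := fun y => ⟨⟨y.1, y.2.1⟩, by rw [Subgroup.orderOf_mk]; exact y.2.2⟩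
        invFun := fun t => ⟨t.1.1, t.1.2, by rw [Subgroup.orderOf_coe]; exact t.2⟩
        left_inv := fun _ => rfl
        right_inv := fun _ => rfl }
  have : Fintype Ω := Fintype.ofFinite Ω
  let act : X →* Equiv.Perm Ω :=
    { toFun := fun g =>
        { toFun := fun y => ⟨g * y.1 * g⁻¹, hRn.conj_mem _ y.2.1 g, by
            have h1 : orderOf ((MulAut.conj g).toMonoidHom y.1) = orderOf y.1 :=
              orderOf_injective (MulAut.conj g).toMonoidHom (MulAut.conj g).injective y.1
            exact h1.trans y.2.2⟩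
          invFun := fun y => ⟨g⁻¹ * y.1 * g, by
            have := hRn.conj_mem _ y.2.1 g⁻¹
            rwa [inv_inv] at this, by
            have h1 : orderOf ((MulAut.conj g⁻¹).toMonoidHom y.1) = orderOf y.1 :=
              orderOf_injective (MulAut.conj g⁻¹).toMonoidHom (MulAut.conj g⁻¹).injective y.1
            have h2 : (MulAut.conj g⁻¹).toMonoidHom y.1 = g⁻¹ * y.1 * g := by
              change g⁻¹ * y.1 * (g⁻¹)⁻¹ = _
              rw [inv_inv]
            rw [← h2]
            exact h1.trans y.2.2⟩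
          left_inv := fun y => Subtype.ext (by
            change g⁻¹ * (g * y.1 * g⁻¹) * g = y.1
            group)
          right_inv := fun y => Subtype.ext (by
            change g * (g⁻¹ * y.1 * g) * g⁻¹ = y.1
            group) }
      map_one' := Equiv.ext fun y => Subtype.ext (by
        change 1 * y.1 * 1⁻¹ = y.1
        group)
      map_mul' := fun g h => Equiv.ext fun y => Subtype.ext (by
        change (g * h) * y.1 * (g * h)⁻¹ = g * (h * y.1 * h⁻¹) * g⁻¹
        group) }
  refine ⟨Equiv.Perm.sign.comp act, ?_⟩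
  change Equiv.Perm.sign (act x) = -1
  have h2 : (act x) ^ 2 = 1 := by rw [← map_pow, sq, hx, map_one]
  rw [Equiv.Perm.sign_of_pow_two_eq_one h2]
  have hfp : Fintype.card (Function.fixedPoints (act x)) = 1 := by
    rw [Fintype.card_eq_one_iff]
    refine ⟨⟨⟨z, hzR, hz⟩, ?_⟩, ?_⟩
    · apply Subtype.ext
      change x * z * x⁻¹ = z
      rw [hxz, mul_inv_cancel_right]
    · rintro ⟨⟨y, hy1, hy2⟩, hy3⟩
      apply Subtype.ext
      apply Subtype.ext
      change y = z
      apply hfix y hy1 hy2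
      have h3 : x * y * x⁻¹ = y := congrArg Subtype.val hy3
      rw [mul_inv_eq_iff_eq_mul] at h3
      exact h3
  rw [hfp]
  have h4 : Fintype.card Ω % 4 = 3 := by
    rw [← Nat.card_eq_fintype_card, hΩ]
    exact hcount
  have h5 : Odd ((Fintype.card Ω - 1) / 2) := by
    rw [Nat.odd_iff]
    omega
  exact h5.neg_one_pow

end Cfsg.Agent.GH.L3S.Parity
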