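import Cfsg.Agent.GH.L3S.Defs
import Cfsg.Agent.GH.L3S.Models

/-!
# GH-L3, SD case: automorphisms of `L` centralizing Sylow subgroups
-/

set_option autoImplicit false

open Cfsg Subgroup
open Cfsg.Agent.GH.L3S.Defs

namespace Cfsg.Agent.GH.L3S.SylL

variable {L : Type*} [Group L]

/-- The restriction of an automorphism. -/
def res (C : Subgroup L) (α : MulAut L) (h : ∀ x, x ∈ C ↔ α x ∈ C) : MulAut C where
  toFun x := ⟨α x, (h x).1 x.2⟩
  invFun x := ⟨α.symm x, (h _).2 (by rw [α.apply_symm_apply]; exact x.2)⟩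
  left_inv x := Subtype.ext (α.symm_apply_apply _)
  right_inv x := Subtype.ext (α.apply_symm_apply _)
  map_mul' x y := Subtype.ext (map_mul α _ _)

theorem res_apply (C : Subgroup L) (α : MulAut L) (h : ∀ x, x ∈ C ↔ α x ∈ C) (x : C) :
    ((res C α h x : C) : L) = α x := rfl

theorem exists_central [Finite L] (hx : ∃ x : L, orderOf x = 2) (S : Sylow 2 L) :
    ∃ z ∈ S, orderOf z = 2 ∧ ∀ s ∈ S, z * s = s * z := by
  have : Fact (Nat.Prime 2) := ⟨Nat.prime_two⟩
  have hne : Nontrivial ↥(S : Subgroup L) := by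
    by_contra hcon
    rw [not_nontrivial_iff_subsingleton] at hcon
    obtain ⟨x, hx⟩ := hx
    have h1 : 2 ∣ Nat.card L := hx ▸ orderOf_dvd_natCard x
    have h2 := S.dvd_card_of_dvd_card h1
    have h3 : Nat.card ↥(S : Subgroup L) = 1 := Nat.card_unique
    rw [h3] at h2
    omega
  have h1 := S.2.center_nontrivial
  have h2 : IsPGroup 2 (center ↥(S : Subgroup L)) := S.2.to_subgroup _
  obtain ⟨n, hn, h3⟩ := (IsPGroup.nontrivial_iff_card h2).1 h1
  obtain ⟨z, hz⟩ := exists_prime_orderOf_dvd_card' (G := center ↥(S : Subgroup L)) 2 (by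
    rw [h3]; exact dvd_pow_self 2 hn.ne')
  refine ⟨z, z.1.2, ?_, ?_⟩
  · have h4 : orderOf (((z : center ↥(S : Subgroup L)) : ↥(S : Subgroup L)) : L) = orderOf z := by
      rw [orderOf_coe, orderOf_coe]
    exact h4.trans hz
  · intro s hs
    exact (congrArg Subtype.val (mem_center_iff.1 z.2 ⟨s, hs⟩)).symm

theorem le_centralizer {S : Sylow 2 L} {z : L} (h : ∀ s ∈ S, z * s = s * z) :
    (S : Subgroup L) ≤ centralizer ({z} : Set L) := fun s hs =>
  mem_centralizer_singleton_iff.2 (h s hs).symm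

/-- The Sylow 2-subgroups of `L` are quasi-dihedral of order 16. -/
theorem sylow [Finite L] (h : SDF L) (hx : ∃ x : L, orderOf x = 2) (S : Sylow 2 L) :
    IsQuasiDihedral ↥(S : Subgroup L) ∧ Nat.card ↥(S : Subgroup L) = 16 := by
  obtain ⟨z, hz, hz2, hc⟩ := exists_central hx S
  obtain ⟨e⟩ := h.gl z hz2
  have h1 := Models.gl_sylow e (S.subtype (le_centralizer hc))
  let f : ↥((S.subtype (le_centralizer hc) : Sylow 2 _) : Subgroup ↥(centralizer ({z} : Set L))) ≃*
      ↥(S : Subgroup L) := subgroupOfEquivOfLe (le_centralizer hc)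
  exact ⟨TwoFusion.SylowTypeTransfer.isQuasiDihedral_of_mulEquiv f h1.1, by
    rw [← h1.2]; exact Nat.card_congr f.symm.toEquiv⟩

/-- An automorphism centralizing a Sylow 2-subgroup `S` is conjugation by an element of `Z(S)`. -/
theorem aut_sylow [Finite L] (h : SDF L) (hx : ∃ x : L, orderOf x = 2) (S : Sylow 2 L) {α : MulAut L}
    (hα : ∀ s ∈ S, α s = s) : α = 1 ∨
      ∃ z ∈ S, orderOf z = 2 ∧ (∀ s ∈ S, z * s = s * z) ∧ α = MulAut.conj z := by
  obtain ⟨z, hz, hz2, hc⟩ := exists_central hx S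
  obtain ⟨e⟩ := h.gl z hz2
  have hinv : ∀ x, x ∈ centralizer ({z} : Set L) ↔ α x ∈ centralizer ({z} : Set L) := by
    intro x
    rw [mem_centralizer_singleton_iff, mem_centralizer_singleton_iff]
    constructor
    · intro hh
      have := congrArg α hh
      rwa [map_mul, map_mul, hα z hz] at this
    · intro hh
      apply α.injective
      rw [map_mul, map_mul, hα z hz]
      exact hh
  have h1 := Models.gl_aut e (S.subtype (le_centralizer hc)) (α := res _ α hinv) (by
    intro s hs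
    apply Subtype.ext
    rw [res_apply]
    exact hα _ hs)
  rcases h.cent z hz2 α (by
    intro y hy
    have h2 := congrArg (fun β : MulAut _ =>
      ((β ⟨y, mem_centralizer_singleton_iff.2 hy⟩ : ↥(centralizer ({z} : Set L))) : L)) h1
    exact h2) with h2 | h2
  · exact Or.inl h2
  · exact Or.inr ⟨z, hz, hz2, hc, h2⟩

/-- Outer involutions `α`: an automorphism `β` commuting with `α` and centralizing a Sylow 2-subgroup `D` of
`Fix α` is conjugation by an element of `Z(D)`, or the product with `α`. -/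
theorem aut_outer [Finite L] (h : SDF L) {α : MulAut L} (h2 : α * α = 1) (hα : ¬ Inn α)
    (D : Sylow 2 (Fix α)) {β : MulAut L} (hβα : β * α = α * β)
    (hβ : ∀ s ∈ D, β (s : L) = s) : ∃ v ∈ D, (∀ s ∈ D, v * s = s * v) ∧
      (β = MulAut.conj (v : L) ∨ β = MulAut.conj (v : L) * α) := by
  obtain ⟨e⟩ := h.s4 α h2 hα
  have hcomm : ∀ x, α (β x) = β (α x) := fun x =>
    (congrArg (fun γ : MulAut L => γ x) hβα).symm
  have hinv : ∀ x, x ∈ Fix α ↔ β x ∈ Fix α := by
    intro x
    constructor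
    · intro hx
      change α (β x) = β x
      rw [hcomm, show α x = x from hx]
    · intro hx
      change α x = x
      apply β.injective
      rw [← hcomm]
      exact hx
  obtain ⟨v, hv, hvc, h1⟩ := Models.s4_aut e D (α := res _ β hinv) (by
    intro s hs
    apply Subtype.ext
    rw [res_apply]
    exact hβ _ hs)
  refine ⟨v, hv, hvc, ?_⟩
  have h3 := h.outCent α h2 hα ((MulAut.conj (v : L))⁻¹ * β) (by
    intro y hy
    have h4 := congrArg (fun γ : MulAut _ => ((γ ⟨y, hy⟩ : Fix α) : L)) h1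
    change β y = v * y * (v : L)⁻¹ at h4
    change (MulAut.conj (v : L))⁻¹ (β y) = y
    rw [h4, ← map_inv, MulAut.conj_apply]
    group)
  rcases h3 with h3 | h3
  · rw [inv_mul_eq_one] at h3
    exact Or.inl h3.symm
  · exact Or.inr (inv_mul_eq_iff_eq_mul.1 h3)

/-- The Sylow 2-subgroups of `Fix α`. -/
theorem sylow_outer [Finite L] (h : SDF L) {α : MulAut L} (h2 : α * α = 1) (hα : ¬ Inn α)
    (D : Sylow 2 (Fix α)) : Nat.card ↥(D : Subgroup (Fix α)) = 8 ∧ ∃ v ∈ D, v ≠ 1 ∧ v * v = 1 ∧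
      (∀ s ∈ D, v * s = s * v) ∧ (∀ w ∈ D, (∀ s ∈ D, w * s = s * w) → w = 1 ∨ w = v) ∧
      ∃ a ∈ D, ∃ b ∈ D, a * b ≠ b * a := by
  obtain ⟨e⟩ := h.s4 α h2 hα
  exact Models.s4_sylow e D

/-- The Sylow 2-subgroups of `Fix α` contain a noncentral involution. -/
theorem sylow_four [Finite L] (h : SDF L) {α : MulAut L} (h2 : α * α = 1) (hα : ¬ Inn α)
    (D : Sylow 2 (Fix α)) : ∃ b ∈ D, b ≠ 1 ∧ b * b = 1 ∧ ∃ s ∈ D, b * s ≠ s * b := by
  obtain ⟨e⟩ := h.s4 α h2 hα
  exact Models.s4_four e D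

/-- `α` and `α v` are conjugate (`v` fixed by `α`). -/
theorem outer_conj (h : SDF L) {α : MulAut L} (h2 : α * α = 1) (hα : ¬ Inn α) {v : L} (hv : α v = v)
    (hv2 : v * v = 1) : ∃ l : L, α * MulAut.conj v = MulAut.conj l * α * (MulAut.conj l)⁻¹ := by
  have hcomm : α * MulAut.conj v = MulAut.conj v * α := by
    ext x
    change α (v * x * v⁻¹) = v * α x * v⁻¹
    rw [map_mul, map_mul, map_inv, hv]
  refine h.outConj α _ h2 ?_ hα ?_
  · calc α * MulAut.conj v * (α * MulAut.conj v) = α * (MulAut.conj v * α) * MulAut.conj v := by group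
      _ = (α * α) * (MulAut.conj v * MulAut.conj v) := by rw [← hcomm]; group
      _ = 1 := by rw [h2, ← map_mul, hv2, map_one, mul_one]
  · rintro ⟨l, hl⟩
    apply hα
    exact ⟨l * v⁻¹, by rw [map_mul, ← hl, map_inv, mul_inv_cancel_right]⟩

end Cfsg.Agent.GH.L3S.SylL
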