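import Cfsg.Agent.GH.L3S.WFrame
import Cfsg.Agent.GH.L2Pair
import Cfsg.Agent.GH.L2Good
import Cfsg.Agent.GH.Branches
import Cfsg.Agent.GH.WFinal
import Cfsg.Agent.SmallSimple.S1000.PSLFacts
import Cfsg.Agent.HNType.Alt

/-!
# GH-L3, SD case: existence of a `World`

`Hyp G`, `AllOdd G`, all tops of 2-components are `PSL₂(q)`, `A₇`, `PSL₃(3)`, `PSU₃(3)`, `M₁₁`.  Then for a top `L` of
maximal order among the tops `PSL₃(3)`, `M₁₁` the set of the involutions `y` with `STop (KK y) ≃* L` gives a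
`World`.
-/

set_option autoImplicit false

open Cfsg Subgroup
open Cfsg.Agent.SignalizersComponents
open Cfsg.Agent.SignalizersComponents.IntrinsicBasic (cj)
open Cfsg.Agent.Intrinsic.Basic Cfsg.Agent.Intrinsic.Cen
open Cfsg.Agent.GH.Defs Cfsg.Agent.GH.Comp Cfsg.Agent.GH.XSet Cfsg.Agent.GH.Branches
open Cfsg.Agent.GH.L2Frame (fix mem_fix)
open Cfsg.Agent.GH.L3S.Defs
open Cfsg.Agent.Walter.SylowIn

namespace Cfsg.Agent.GH.L3S.WorldOf

/-! ### groups with semidihedral and with dihedral Sylow 2-subgroups -/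

/-- A quasi-dihedral group of order 16 has two elements of order 4 not commuting. -/
theorem sd_pair {S : Type*} [Group S] [Finite S] (h : IsQuasiDihedral S) (hc : Nat.card S = 16) :
    ∃ a b : S, a * a ≠ 1 ∧ b * b ≠ 1 ∧ a * b ≠ b * a := by
  obtain ⟨u, y, H⟩ := TwoFusion.QDBasic.exists_qdcoord' h 3 (by rw [hc]; norm_num)
  refine ⟨u 2, u 1 * y, ?_, ?_, ?_⟩
  · rw [H.u_mul, ← H.u_zero]
    intro h1
    exact absurd (H.u_inj _ _ h1) (by decide)
  · rw [H.uy_mul_uy, ← H.u_zero]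
    intro h1
    exact absurd (H.u_inj _ _ h1) (by decide)
  · rw [H.u_mul_uy, H.uy_mul_u]
    intro h1
    exact absurd (H.u_inj _ _ (mul_right_cancel h1)) (by decide)

/-- In a group with dihedral Sylow 2-subgroups: elements of a 2-subgroup whose squares are not `1` commute. -/
theorem comm_of_good {M : Type*} [Group M] [Finite M] (h : L2AutPlus.Good M) {P : Subgroup M}
    (hP : IsPGroup 2 P) {a b : M} (ha : a ∈ P) (hb : b ∈ P) (haa : a * a ≠ 1) (hbb : b * b ≠ 1) :
    a * b = b * a := by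
  obtain ⟨A, _, d, p1, p2, -, h2⟩ := h
  obtain ⟨S, hS⟩ := hP.exists_le_sylow
  obtain ⟨r, c, F⟩ := h2 S
  have key : ∀ {g : M}, g ∈ P → g * g ≠ 1 → ∃ k : ℤ, g = r ^ k := by
    intro g hg hgg
    obtain ⟨k, h3 | h3⟩ := F.S_form g (hS hg)
    · exact ⟨k, h3⟩
    · exfalso
      apply hgg
      have h4 : c * r ^ k * c⁻¹ = (r ^ k)⁻¹ := by
        rw [← conj_zpow, F.crc, inv_zpow]
      have h5 : r ^ k * c * (r ^ k * c) = r ^ k * (c * r ^ k * c⁻¹) * (c * c) := by group
      rw [h3, h5, h4, F.cc, mul_one, mul_inv_cancel]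
  obtain ⟨k, rfl⟩ := key ha haa
  obtain ⟨m, rfl⟩ := key hb hbb
  exact ((Commute.refl r).zpow_zpow k m).eq

universe u

variable {G : Type u} [Group G] [Finite G]

/-- `P = T ⊓ K` is quasi-dihedral of order 16. -/
theorem P_facts {H K T : Subgroup G} (F : L2Frame.Frame H K T) (hs : SDF (STop K)) :
    IsQuasiDihedral ↥(T ⊓ K : Subgroup G) ∧ Nat.card ↥(T ⊓ K : Subgroup G) = 16 := by
  have : Fact (Nat.Prime 2) := ⟨Nat.prime_two⟩
  obtain ⟨S, hS⟩ := F.exists_sylow
  obtain ⟨h1, h2⟩ := SylL.sylow hs (exists_prime_orderOf_dvd_card' 2 (Tops.even_top F.comp)) S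
  let e : ↥(T ⊓ K : Subgroup G) ≃* ↥(S : Subgroup (STop K)) :=
    (MonoidHom.ofInjective F.dTop_injective).trans (MulEquiv.subgroupCongr hS.symm)
  exact ⟨TwoFusion.SylowTypeTransfer.isQuasiDihedral_of_mulEquiv e.symm h1, by
    rw [← h2]; exact Nat.card_congr e.toEquiv⟩

/-- `L' ≥ C_K(u)` where `u` fixes `K`: the top of `L'` has no dihedral Sylow 2-subgroups. -/
theorem not_good (h : Hyp G) (ho : AllOdd G) {y u : G} {K L' : Subgroup G} (hK : Comp2 y K)
    (hs : SDF (STop K)) (hu : orderOf u = 2) (huy : u * y = y * u) (hf : Fixes u K)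
    (hL' : Comp2 u L') (hle : cen K u ≤ L') : ¬ L2AutPlus.Good (STop L') := by
  intro hgood
  have : Fact (Nat.Prime 2) := ⟨Nat.prime_two⟩
  -- a frame with `u ∈ T`
  have huu : u * u = 1 := by rw [← pow_two, ← hu, pow_orderOf_eq_one]
  obtain ⟨T, huT, F⟩ := L2Frame.exists_frame (P := zpowers u) hK.comp (ho y K hK)
    (L2FourOC.centralizer_le_normalizer h ho hK)
    (IsPGroup.of_card (n := 1) (by rw [Nat.card_zpowers, hu, pow_one]))
    (by rw [zpowers_le]; exact mem_centralizer_singleton_iff.2 huy)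
  rw [zpowers_le] at huT
  obtain ⟨h1, h2⟩ := P_facts F hs
  obtain ⟨a, b, haa, hbb, hab⟩ := sd_pair h1 h2
  -- `P ≤ cen K u`
  have hP : T ⊓ K ≤ L' := by
    intro p hp
    obtain ⟨n, hn⟩ := F.exists_pow hp.1
    exact hle (mem_cen hp.2 (F.comm ⟨huT, mem_fix.2 hf⟩ hp).symm hn)
  let f : ↥(T ⊓ K : Subgroup G) →* STop L' := (topMap L').comp (inclusion hP)
  have hinj : Function.Injective f := by
    rw [← MonoidHom.ker_eq_bot_iff, eq_bot_iff]
    intro p hp
    have h3 : (inclusion hP p) ∈ (topMap L').ker := hp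
    obtain ⟨n, hn⟩ := F.exists_pow p.2.1
    have h4 : Odd (orderOf (inclusion hP p)) :=
      (L2Frame.odd_card_ker (ho u L' hL')).of_dvd_nat (Subgroup.orderOf_dvd_natCard _ h3)
    have h5 : orderOf (inclusion hP p) ∣ 2 ^ n := by
      apply orderOf_dvd_of_pow_eq_one
      apply Subtype.ext
      exact hn
    have h6 : orderOf (inclusion hP p) = 1 :=
      Nat.Coprime.eq_one_of_dvd (Nat.Coprime.pow_right n (Nat.coprime_two_right.2 h4)) h5
    rw [orderOf_eq_one_iff] at h6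
    rw [mem_bot]
    have h7 := congrArg (fun x : ↥L' => (x : G)) h6
    exact Subtype.ext h7
  have hPf : IsPGroup 2 f.range := by
    have h3 : IsPGroup 2 ↥(T ⊓ K : Subgroup G) := F.two.to_le inf_le_left
    exact h3.of_surjective f.rangeRestrict f.rangeRestrict_surjective
  have h3 := comm_of_good hgood hPf (a := f a) (b := f b) ⟨a, rfl⟩ ⟨b, rfl⟩
    (by rw [← map_mul]; exact fun h4 => haa (hinj (h4.trans (map_one f).symm)))
    (by rw [← map_mul]; exact fun h4 => hbb (hinj (h4.trans (map_one f).symm)))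
  rw [← map_mul, ← map_mul] at h3
  exact hab (hinj h3)

theorem not_good_of_top {M : Type*} [Group M] (h : ¬ L2AutPlus.Good M) : ¬ Top2 M := by
  rintro (h1 | h1)
  · exact h (L2AutPlus.good_of_isL2odd h1)
  · exact h (L2AutPlus.good_of_isAlt h1)

theorem card_top {K : Subgroup G} (hodd : ¬ EvenCenter K) :
    Nat.card (STop K) = Nat.card (Bar K) := Nat.card_congr (L2FourOC.topEquiv hodd).toEquiv

omit [Finite G] in
/-- Tops of isomorphic groups. -/
theorem top_congr {J K : Subgroup G} (e : Bar J ≃* Bar K) : Nonempty (STop J ≃* STop K) := by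
  refine ⟨QuotientGroup.congr _ _ e ?_⟩
  ext y
  constructor
  · rintro ⟨a, ha, rfl⟩
    rw [mem_center_iff]
    intro g
    obtain ⟨b, rfl⟩ := e.surjective g
    have := mem_center_iff.mp ha b
    change e b * e a = e a * e b
    rw [← map_mul, ← map_mul, this]
  · intro hy
    obtain ⟨a, rfl⟩ := e.surjective y
    refine ⟨a, ?_, rfl⟩
    rw [SetLike.mem_coe, mem_center_iff]
    intro g
    apply e.injective
    rw [map_mul, map_mul]
    exact mem_center_iff.mp hy (e g)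

/-- The involutions `y` such that `C(y)` has a 2-component with top `L`. -/
def topSet (G : Type*) [Group G] (L : Type*) [Group L] : Set G :=
  {y | ∃ K : Subgroup G, Comp2 y K ∧ Nonempty (STop K ≃* L)}

/-- **The world of the tops `L`.** -/
theorem world (h : Hyp G) (ho : AllOdd G)
    (htop : ∀ (x : G) (K : Subgroup G), Comp2 x K → Top2 (STop K) ∨ Top3 (STop K))
    {L : Type*} [Group L]
    (hsdf : ∀ (x : G) (K : Subgroup G), Comp2 x K → Nonempty (STop K ≃* L) → SDF (STop K))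
    (hmax : ∀ (x : G) (K : Subgroup G), Comp2 x K → Top3 (STop K) → Nat.card (STop K) ≤ Nat.card L) :
    World (topSet G L) (Nat.card L) where
  inv := by
    rintro y ⟨K, hK, -⟩
    exact hK.inv
  comp := by
    rintro y ⟨K, hK, -⟩
    rw [L2Pair.KK_eq h ho hK]
    exact hK.comp
  conj := by
    rintro y ⟨K, hK, ⟨e⟩⟩ g
    obtain ⟨f⟩ := top_congr (cjQuot g K)
    exact ⟨cj g K, L2FourOC.Comp2.cj hK g, ⟨f.symm.trans e⟩⟩
  closed := by
    rintro y ⟨K, hK, ⟨e⟩⟩ u hu hc hf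
    rw [L2Pair.KK_eq h ho hK] at hf
    obtain ⟨L', hL', hle⟩ := L2FourOC.exists_pump h ho hK hu hc.eq hf
    have h1 := not_good h ho hK (hsdf y K hK ⟨e⟩) hu hc.eq hf hL' hle
    have h2 : Top3 (STop L') := (htop u L' hL').resolve_left (not_good_of_top h1)
    have hcomp := isComp_cen hK.comp (mem_centralizer_singleton_iff.mpr hc.eq)
      (L2FourOC.Comp2.sq hL') hf
    obtain ⟨e1, -⟩ := exists_quotEquiv hcomp.2
    have h3 : Nat.card (Bar L') ≤ Nat.card (Bar (cen K u)) := by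
      have h4 := hmax u L' hL' h2
      rw [card_top (ho u L' hL'), ← Nat.card_congr e.toEquiv, card_top (ho y K hK),
        ← Nat.card_congr e1.toEquiv] at h4
      exact h4
    obtain ⟨e2, -⟩ := exists_quotEquiv ((L2FourOC.card_bar_le hle).2 h3)
    obtain ⟨f⟩ := top_congr (e2.symm.trans e1)
    exact ⟨L', hL', ⟨f.trans e⟩⟩
  card := by
    rintro y ⟨K, hK, ⟨e⟩⟩
    rw [L2Pair.KK_eq h ho hK, ← card_top (ho y K hK)]
    exact Nat.card_congr e.toEquiv
  odd := by
    rintro y ⟨K, hK, -⟩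
    rw [L2Pair.KK_eq h ho hK]
    exact ho y K hK
  sdf := by
    rintro y ⟨K, hK, e⟩
    rw [L2Pair.KK_eq h ho hK]
    exact hsdf y K hK e
  rank := h.rank4

/-- `|PSL₃(3)| = 5616` -/
theorem card_of_isL33 {M : Type*} [Group M] (h : IsL33 M) : Nat.card M = 5616 := by
  obtain ⟨F, _, _, hF, ⟨e⟩⟩ := h
  rw [Nat.card_congr e.toEquiv]
  exact SmallSimple.PSLFacts.card_psl_three_three hF

/-- `|M₁₁| = 7920` -/
theorem card_of_isoM11 {M : Type*} [Group M] (h : Spor.IsoM11 M) : Nat.card M = 7920 := by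
  obtain ⟨e⟩ := h
  rw [Nat.card_congr e.toEquiv]
  exact HNType.Alt.card_M11

theorem isL33_congr {M M' : Type*} [Group M] [Group M'] (e : M ≃* M') (h : IsL33 M) : IsL33 M' := by
  obtain ⟨F, i, j, hF, ⟨f⟩⟩ := h
  exact ⟨F, i, j, hF, ⟨e.symm.trans f⟩⟩

theorem isoM11_congr {M M' : Type*} [Group M] [Group M'] (e : M ≃* M') (h : Spor.IsoM11 M) :
    Spor.IsoM11 M' := by
  obtain ⟨f⟩ := h
  exact ⟨e.symm.trans f⟩

/-- No top is `PSU₃(3)`. -/
theorem not_u33 (h : Hyp G) (ho : AllOdd G) {x : G} {K : Subgroup G} (hK : Comp2 x K) :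
    ¬ IsU33 (STop K) := by
  rintro ⟨F, _, _, hF, ⟨e⟩⟩
  exact WFinal.false_of_u33 h hK (ho x K hK) hF e

/-- **Existence of a world.** -/
theorem exists_world (hm11 : ∀ (M : Type u) [Group M] [Finite M], Spor.IsoM11 M → SDF M)
    (hl33 : ∀ (M : Type u) [Group M] [Finite M], IsL33 M → SDF M)
    (h : Hyp G) (ho : AllOdd G)
    (htop : ∀ (x : G) (K : Subgroup G), Comp2 x K → Top2 (STop K) ∨ Top3 (STop K))
    (hex : ∃ (x : G) (K : Subgroup G), Comp2 x K ∧ Top3 (STop K)) :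
    ∃ (X : Set G) (N : ℕ), World X N ∧ X.Nonempty := by
  have hcases : ∀ (x : G) (K : Subgroup G), Comp2 x K → Top3 (STop K) →
      IsL33 (STop K) ∨ Spor.IsoM11 (STop K) := by
    rintro x K hK (h1 | h1 | h1)
    · exact Or.inl h1
    · exact absurd h1 (not_u33 h ho hK)
    · exact Or.inr h1
  by_cases hM : ∃ (x : G) (K : Subgroup G), Comp2 x K ∧ Spor.IsoM11 (STop K)
  · obtain ⟨x, K, hK, h1⟩ := hM
    refine ⟨topSet G (STop K), _, world h ho htop ?_ ?_, ⟨x, K, hK, ⟨MulEquiv.refl _⟩⟩⟩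
    · rintro y M hM ⟨e⟩
      exact hm11 _ (isoM11_congr e.symm h1)
    · intro y M hM h2
      rw [card_of_isoM11 h1]
      rcases hcases y M hM h2 with h3 | h3
      · rw [card_of_isL33 h3]; norm_num
      · rw [card_of_isoM11 h3]
  · obtain ⟨x, K, hK, h1⟩ := hex
    have h2 : IsL33 (STop K) := (hcases x K hK h1).resolve_right fun h2 => hM ⟨x, K, hK, h2⟩
    refine ⟨topSet G (STop K), _, world h ho htop ?_ ?_, ⟨x, K, hK, ⟨MulEquiv.refl _⟩⟩⟩
    · rintro y M - ⟨e⟩
      exact hl33 _ (isL33_congr e.symm h2)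
    · intro y M hM' h3
      rw [card_of_isL33 h2]
      rcases hcases y M hM' h3 with h4 | h4
      · rw [card_of_isL33 h4]
      · exact absurd ⟨y, M, hM', h4⟩ hM

end Cfsg.Agent.GH.L3S.WorldOf
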